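import Cfsg.Agent.Lib.Transfer.NormalPComplement

/-!
# A cyclic Sylow subgroup is inside the derived group or meets it trivially
-/

set_option autoImplicit false

open Subgroup
open scoped commutatorElement

namespace CfsgLib.FT

variable {K : Type*} [Group K] [Finite K] {p : ℕ}

theorem sylow_le_commutator_of_cyclic [hp : Fact p.Prime] (P : Sylow p K)
    (hc : IsCyclic (P : Subgroup K)) (h : p ∣ Nat.card (commutator K)) :
    (P : Subgroup K) ≤ commutator K := by
  by_cases hN : normalizer ((P : Subgroup K) : Set K) ≤ centralizer ((P : Subgroup K) : Set K)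
  · exfalso
    obtain ⟨Q, hQn, hQc, hQi⟩ := CfsgLib.Transfer.hasNormalPComplement_iff_exists.1
      (CfsgLib.Transfer.hasNormalPComplement_of_normalizer_le_centralizer P hN)
    haveI := hQn
    have hcomp := CfsgLib.Transfer.isComplement'_of_not_dvd_card P hQc hQi
    have hPc : IsMulCommutative (P : Subgroup K) := by
      letI := IsCyclic.commGroup (α := (P : Subgroup K))
      exact ⟨⟨mul_comm⟩⟩
    exact hQc (h.trans (card_dvd_of_le
      (hQn.commutator_le_of_self_sup_commutative_eq_top hcomp.sup_eq_top hPc)))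
  obtain ⟨n, hn, hnc⟩ := SetLike.not_le_iff_exists.1 hN
  obtain ⟨⟨x, hx⟩, hgen⟩ := hc.exists_generator
  have hPx : ∀ y ∈ (P : Subgroup K), ∃ i : ℤ, x ^ i = y := fun y hy => by
    obtain ⟨i, hi⟩ := mem_zpowers_iff.1 (hgen ⟨y, hy⟩)
    exact ⟨i, congrArg Subtype.val hi⟩
  obtain ⟨r, hr⟩ := hPx _ ((mem_normalizer_iff.1 hn x).1 hx)
  obtain ⟨a, ha⟩ := IsPGroup.iff_orderOf.1 P.isPGroup' ⟨x, hx⟩
  rw [Subgroup.orderOf_mk] at ha
  have hxc : x ^ (r - 1) ∈ commutator K := by
    have h1 : ⁅n, x⁆ ∈ commutator K := by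
      rw [_root_.commutator_def]
      exact commutator_mem_commutator (mem_top n) (mem_top x)
    rwa [commutatorElement_def, ← hr, ← zpow_neg_one, ← zpow_add, ← sub_eq_add_neg] at h1
  by_cases hpr : (p : ℤ) ∣ r - 1
  · exfalso
    have hpow : ∀ j : ℕ, n ^ j * x * (n ^ j)⁻¹ = x ^ (r ^ j) := by
      intro j
      induction j with
      | zero => simp
      | succ j ih =>
        calc n ^ (j + 1) * x * (n ^ (j + 1))⁻¹ = n * (n ^ j * x * (n ^ j)⁻¹) * n⁻¹ := by
              rw [pow_succ']; group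
          _ = (n * x * n⁻¹) ^ (r ^ j) := by rw [ih, conj_zpow]
          _ = x ^ (r ^ (j + 1)) := by rw [← hr, ← zpow_mul, pow_succ']
    have hfix : n ^ p ^ a * x * (n ^ p ^ a)⁻¹ = x := by
      rw [hpow]
      have h1 := dvd_sub_pow_of_dvd_sub (R := ℤ) (p := p) (a := r) (b := 1) hpr a
      rw [one_pow] at h1
      have h2 : (orderOf x : ℤ) ∣ r ^ p ^ a - 1 := by
        rw [ha]
        push_cast
        exact dvd_trans (Dvd.intro _ (pow_succ (p : ℤ) a).symm) h1
      have h3 := (orderOf_dvd_iff_zpow_eq_one).1 h2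
      rwa [zpow_sub, zpow_one, mul_inv_eq_one] at h3
    set N := normalizer ((P : Subgroup K) : Set K)
    set C := (centralizer ((P : Subgroup K) : Set K)).subgroupOf N
    haveI : C.Normal := by
      rw [show C = (P : Subgroup K).normalizerMonoidHom.ker from
        ((P : Subgroup K).normalizerMonoidHom_ker).symm]
      infer_instance
    have h1 : (⟨n, hn⟩ : N) ^ p ^ a ∈ C := by
      refine mem_subgroupOf.2 (mem_centralizer_iff.2 fun y hy => ?_)
      obtain ⟨i, rfl⟩ := hPx y hy
      have h4 : n ^ p ^ a * x = x * n ^ p ^ a := by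
        calc n ^ p ^ a * x = n ^ p ^ a * x * (n ^ p ^ a)⁻¹ * n ^ p ^ a := by group
          _ = _ := by rw [hfix]
      exact ((show Commute (n ^ p ^ a) x from h4).zpow_right i).eq.symm
    have h2 : (⟨n, hn⟩ : N) ^ C.index ∈ C := C.pow_index_mem _
    have hcop : (p ^ a).Coprime C.index := by
      refine Nat.Coprime.pow_left a ((hp.out.coprime_iff_not_dvd).2 fun hd => P.not_dvd_index ?_)
      have hPC : (P : Subgroup K) ≤ centralizer ((P : Subgroup K) : Set K) := fun y hy =>
        mem_centralizer_iff.2 fun z hz => by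
          obtain ⟨i, rfl⟩ := hPx y hy
          obtain ⟨j, rfl⟩ := hPx z hz
          exact zpow_mul_comm x j i
      have hle : (P : Subgroup K).subgroupOf N ≤ C := fun y hy => hPC hy
      exact hd.trans ((index_dvd_of_le hle).trans
        (Dvd.intro _ (relIndex_mul_index (le_normalizer : (P : Subgroup K) ≤ N))))
    have h5 : (⟨n, hn⟩ : N) ∈ C := by
      obtain ⟨u, v, huv⟩ := (Int.isCoprime_iff_gcd_eq_one.2 (by rw [Int.gcd_natCast_natCast]; exact hcop) :
        IsCoprime ((p ^ a : ℕ) : ℤ) (C.index : ℤ))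
      have h6 : (⟨n, hn⟩ : N) = ((⟨n, hn⟩ : N) ^ p ^ a) ^ u * ((⟨n, hn⟩ : N) ^ C.index) ^ v := by
        rw [← zpow_natCast, ← zpow_natCast, ← zpow_mul, ← zpow_mul, ← zpow_add,
          mul_comm _ u, mul_comm _ v, huv, zpow_one]
      rw [h6]
      exact mul_mem (zpow_mem h1 u) (zpow_mem h2 v)
    exact hnc (mem_subgroupOf.1 h5)
  · intro y hy
    obtain ⟨i, rfl⟩ := hPx y hy
    refine zpow_mem ?_ i
    obtain ⟨u, v, huv⟩ := (((Nat.prime_iff_prime_int.1 hp.out).coprime_iff_not_dvd).2 hpr).symm.pow_right (n := a)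
    have h6 : x = (x ^ (r - 1)) ^ u := by
      conv_lhs => rw [← zpow_one x, ← huv, zpow_add, zpow_mul' x v]
      have : x ^ ((p : ℤ) ^ a) = 1 := by
        rw [show ((p : ℤ) ^ a) = ((orderOf x : ℕ) : ℤ) by rw [ha]; push_cast; rfl, zpow_natCast,
          pow_orderOf_eq_one]
      rw [this, one_zpow, mul_one, zpow_mul']
    rw [h6]
    exact zpow_mem hxc u

end CfsgLib.FT
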