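import Cfsg.Agent.Lib.FT.SigmaCore
import Cfsg.Agent.Lib.FT.Elementary
import Cfsg.Agent.Lib.FT.BG12.CyclicSylow

/-!
# BG 12.1: the complement of `M_σ`
-/

set_option autoImplicit false

open Subgroup Cfsg CfsgLib.OddOrder CfsgLib.Techniques
open scoped commutatorElement

namespace CfsgLib.FT

universe u

variable {G : Type u} [Group G] [Finite G] {M E : Subgroup G} {p : ℕ}

theorem isComplement'_sigmaCompl (hE : IsComplIn E (sigmaCore M) M) :
    IsComplement' (E.subgroupOf M) (piCore (sigma M) M) := by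
  have he : (sigmaCore M).subgroupOf M = piCore (sigma M) M :=
    comap_map_eq_self_of_injective M.subtype_injective _
  refine isComplement'_of_disjoint_and_mul_eq_univ (disjoint_iff.2 ?_) ?_
  · rw [← he, eq_bot_iff]
    intro x hx
    have : (x : G) ∈ E ⊓ sigmaCore M := ⟨hx.1, hx.2⟩
    rw [hE.2.2.1, mem_bot] at this
    exact mem_bot.2 (Subtype.ext this)
  · refine Set.eq_univ_of_forall fun m => ?_
    obtain ⟨a, ha, b, hb, hab⟩ := hE.2.2.2 m m.2
    exact ⟨⟨a, hE.1 ha⟩, ha, ⟨b, hE.2.1 hb⟩, he.le (mem_subgroupOf.2 hb), Subtype.ext hab.symm⟩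

theorem card_sigmaCompl (hE : IsComplIn E (sigmaCore M) M) :
    Nat.card M = Nat.card E * Nat.card (sigmaCore M) := by
  rw [← (isComplement'_sigmaCompl hE).card_mul, CfsgLib.Base.card_subgroupOf hE.1,
    sigmaCore, CfsgLib.Base.card_map_subtype]

theorem relIndex_sigmaCompl (hE : IsComplIn E (sigmaCore M) M) :
    (sigmaCore M).relIndex M = Nat.card E := by
  rw [Subgroup.relIndex, sigmaCore, Subgroup.subgroupOf,
    comap_map_eq_self_of_injective M.subtype_injective,
    (isComplement'_sigmaCompl hE).index_eq_card, CfsgLib.Base.card_subgroupOf hE.1]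

theorem not_mem_sigma_of_dvd (h1403 : StmtS1403.{u}) (hG : IsMinSimpleOddOrder G) (hM : IsCoatom M)
    (hE : IsComplIn E (sigmaCore M) M) (hp : p.Prime) (hd : p ∣ Nat.card E) : p ∉ sigma M :=
  fun hs => (sigmaCore_hall h1403 hG hM).2.2 p hp hs (by rwa [relIndex_sigmaCompl hE])

theorem not_dvd_sigmaCore (hp : p ∉ sigma M) (hp' : p.Prime) : ¬ p ∣ Nat.card (sigmaCore M) :=
  fun hd => hp (CfsgLib.Base.piCore_primes _ _ p hp'
    (by rwa [sigmaCore, CfsgLib.Base.card_map_subtype] at hd))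

theorem dvd_sigmaCompl (hE : IsComplIn E (sigmaCore M) M) (hp : p ∉ sigma M) (hp' : p.Prime)
    (hd : p ∣ Nat.card M) : p ∣ Nat.card E :=
  ((Nat.Prime.dvd_mul hp').1 (card_sigmaCompl hE ▸ hd)).resolve_right (not_dvd_sigmaCore hp hp')

/-- A Sylow subgroup of the complement is one of `M`. -/
theorem sylIn_of_sigmaCompl (hE : IsComplIn E (sigmaCore M) M) [hp' : Fact p.Prime]
    (hp : p ∉ sigma M) {T : Subgroup G} (hT : SylIn p T E) : SylIn p T M := by
  refine ⟨hT.le.trans hE.1, hT.isPGroup, fun hd => ?_⟩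
  rw [← relIndex_mul_relIndex T E M hT.le hE.1] at hd
  rcases hp'.out.dvd_mul.1 hd with h | h
  · exact hT.not_dvd h
  · refine not_dvd_sigmaCore hp hp'.out ?_
    rwa [Subgroup.relIndex, (isComplement'_sigmaCompl hE).symm.index_eq_card, ← CfsgLib.Base.card_map_subtype] at h

/-- `E'` is nilpotent. -/
theorem isNilpotent_derived_sigmaCompl (h1403 : StmtS1403.{u}) (hG : IsMinSimpleOddOrder G)
    (hM : IsCoatom M) (hE : IsComplIn E (sigmaCore M) M) : Group.IsNilpotent ↥⁅E, E⁆ := by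
  haveI := maximal_solvable hG hM
  have hle : ⁅E, E⁆ ≤ M := (commutator_le_self E).trans hE.1
  set f := (QuotientGroup.mk' (piCore (alpha M) M)).comp (inclusion hle) with hf
  have hinj : Function.Injective f := by
    rw [← MonoidHom.ker_eq_bot_iff, eq_bot_iff]
    intro x hx
    have h1 : inclusion hle x ∈ piCore (alpha M) M := (QuotientGroup.eq_one_iff _).1 hx
    have h2 : (x : G) ∈ E ⊓ sigmaCore M :=
      ⟨commutator_le_self E x.2, alphaCore_le_sigmaCore h1403 hG hM ⟨_, h1, rfl⟩⟩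
    rw [hE.2.2.1, mem_bot] at h2
    exact mem_bot.2 (Subtype.ext h2)
  have hrange : f.range ≤ (commutator M).map (QuotientGroup.mk' (piCore (alpha M) M)) := by
    rintro _ ⟨x, rfl⟩
    refine ⟨inclusion hle x, ?_, rfl⟩
    have h1 : (x : G) ∈ (commutator M).map M.subtype := by
      rw [map_subtype_commutator]
      exact commutator_mono hE.1 hE.1 x.2
    obtain ⟨y, hy, hyx⟩ := h1
    rwa [show inclusion hle x = y from Subtype.ext hyx.symm]
  haveI := CfsgLib.Base.isNilpotent_of_le hrange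
    (isNilpotent_derived_quotient (maximal_odd hG M) fun p hp h => ⟨hp, h⟩)
  exact Group.nilpotent_of_mulEquiv (MonoidHom.ofInjective hinj).symm

theorem derived_le_sigmaCore_sup (hE : IsComplIn E (sigmaCore M) M) :
    commutator M ≤ ⁅E.subgroupOf M, E.subgroupOf M⁆ ⊔ piCore (sigma M) M := by
  have hπ : (E.subgroupOf M).map (QuotientGroup.mk' (piCore (sigma M) M)) = ⊤ := by
    rw [← map_top_of_surjective _ (QuotientGroup.mk'_surjective (piCore (sigma M) M)),
      map_eq_map_iff, QuotientGroup.ker_mk', top_sup_eq]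
    exact (isComplement'_sigmaCompl hE).sup_eq_top
  rw [← CfsgLib.Base.comap_map_mk' (piCore (sigma M) M), ← map_le_iff_le_comap,
    _root_.commutator_def, map_commutator, map_commutator, hπ,
    map_top_of_surjective _ (QuotientGroup.mk'_surjective _)]

theorem dvd_derived_sigmaCompl (hE : IsComplIn E (sigmaCore M) M) (hp : p ∉ sigma M)
    (hp' : p.Prime) (hd : p ∣ Nat.card ↥⁅M, M⁆) : p ∣ Nat.card ↥⁅E, E⁆ := by
  have h1 : Nat.card ↥⁅M, M⁆ = Nat.card (commutator M) := by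
    rw [← map_subtype_commutator, CfsgLib.Base.card_map_subtype]
  have h2 : Nat.card ↥⁅E.subgroupOf M, E.subgroupOf M⁆ = Nat.card ↥⁅E, E⁆ := by
    rw [← CfsgLib.Base.card_map_subtype, map_commutator,
      map_subgroupOf_eq_of_le hE.1]
  have h3 := (h1 ▸ hd).trans ((card_dvd_of_le (derived_le_sigmaCore_sup hE)).trans
    (CfsgLib.Base.card_sup_dvd _ _))
  rw [h2] at h3
  refine (hp'.dvd_mul.1 h3).resolve_right fun h => hp (CfsgLib.Base.piCore_primes _ _ p hp' h)

/-- Sylow subgroups of a nilpotent derived group are normal. -/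
theorem le_normalizer_inf_derived [hp : Fact p.Prime] (hn : Group.IsNilpotent ↥⁅E, E⁆)
    {T : Subgroup G} (hT : SylIn p T E) : E ≤ normalizer ((T ⊓ ⁅E, E⁆ : Subgroup G) : Set G) := by
  haveI := hn
  have hEn : E ≤ normalizer ((⁅E, E⁆ : Subgroup G) : Set G) := by
    refine le_normalizer_iff_cj.2 fun e he => ?_
    rw [cj_commutator, cj_eq_self_of_mem he]
  obtain ⟨S, hS⟩ := exists_sylow_of_sylIn (hT.inf_normal (commutator_le_self E) hEn)
  haveI : (S : Subgroup ↥⁅E, E⁆).Normal :=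
    S.normal_of_normalizerCondition Group.normalizerCondition_of_isNilpotent
  haveI := S.characteristic_of_normal ‹_›
  rw [← hS]
  exact hEn.trans (CfsgLib.Base.normalizer_le_normalizer_map_subtype _ _)

theorem isCyclic_of_tau (hG : IsMinSimpleOddOrder G) [hp : Fact p.Prime]
    (hr : PRankLE p 1 M) (hd : p ∣ Nat.card M) {T : Subgroup G} (hT : IsPGroup p T) (hTM : T ≤ M) :
    IsCyclic T :=
  isCyclic_of_pRankLE_one (sigma_odd hG hd) hT
    (CfsgLib.Base.pRankLE_of_injective (inclusion hTM) (inclusion_injective hTM) hr)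

/-- A Sylow subgroup for `p ∈ τ₃` lies in `E'` and is normal in `E`. -/
theorem tau3_sylow (h1403 : StmtS1403.{u}) (hG : IsMinSimpleOddOrder G) (hM : IsCoatom M)
    (hE : IsComplIn E (sigmaCore M) M) [hp : Fact p.Prime] (hp3 : p ∈ tau3 M) {T : Subgroup G}
    (hT : SylIn p T E) : T ≤ ⁅E, E⁆ ∧ E ≤ normalizer (T : Set G) ∧ IsCyclic T := by
  obtain ⟨-, hpσ, hd, hr⟩ := hp3
  have hdM : p ∣ Nat.card M := hd.trans (card_dvd_of_le (commutator_le_self M))
  have hc := isCyclic_of_tau hG hr hdM hT.isPGroup (hT.le.trans hE.1)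
  obtain ⟨S, hS⟩ := exists_sylow_of_sylIn hT
  have hSc : IsCyclic (S : Subgroup E) := by
    rw [← hS] at hc
    exact (MulEquiv.isCyclic (equivMapOfInjective _ _ E.subtype_injective)).2 hc
  have hdE : p ∣ Nat.card (commutator E) := by
    rw [← CfsgLib.Base.card_map_subtype, map_subtype_commutator]
    exact dvd_derived_sigmaCompl hE hpσ hp.out hd
  have hle : T ≤ ⁅E, E⁆ := by
    rw [← hS, ← map_subtype_commutator]
    exact map_mono (sylow_le_commutator_of_cyclic S hSc hdE)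
  refine ⟨hle, ?_, hc⟩
  have := le_normalizer_inf_derived (isNilpotent_derived_sigmaCompl h1403 hG hM hE) hT
  rwa [inf_eq_left.2 hle] at this

/-- BG 12.1: Hall `τ₁`-subgroups of `E` are cyclic. -/
theorem isCyclic_tau1 (h1403 : StmtS1403.{u}) (hG : IsMinSimpleOddOrder G) (hM : IsCoatom M)
    (hE : IsComplIn E (sigmaCore M) M) {E₁ : Subgroup G} (hE₁ : IsPiHallOf (tau1 M) E₁ E) :
    IsCyclic E₁ := by
  have hd : ∀ q : ℕ, q.Prime → q ∣ Nat.card E₁ → ¬ q ∣ Nat.card ↥⁅M, M⁆ :=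
    fun q hq h => (hE₁.2.1 q hq h).2.2.2.1
  have hinf : E₁ ⊓ ⁅E, E⁆ = ⊥ := by
    refine CfsgLib.Base.inf_eq_bot_of_coprime (Nat.coprime_of_dvd fun q hq h1 h2 => hd q hq h1 ?_)
    exact h2.trans (card_dvd_of_le (commutator_mono hE.1 hE.1))
  have hcomm : IsMulCommutative E₁ := by
    refine ⟨⟨fun a b => ?_⟩⟩
    have h : ⁅(a : G), (b : G)⁆ ∈ E₁ ⊓ ⁅E, E⁆ :=
      mem_inf.2 ⟨mul_mem (mul_mem (mul_mem a.2 b.2) (inv_mem a.2)) (inv_mem b.2),
        commutator_mem_commutator (hE₁.1 a.2) (hE₁.1 b.2)⟩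
    rw [hinf, mem_bot, commutatorElement_eq_one_iff_mul_comm] at h
    exact Subtype.ext h
  haveI : IsZGroup E₁ := ⟨fun q hq P => by
    haveI := Fact.mk hq
    by_cases hqd : q ∣ Nat.card E₁
    · have ht := hE₁.2.1 q hq hqd
      refine (MulEquiv.isCyclic (equivMapOfInjective _ _ E₁.subtype_injective)).2 ?_
      exact isCyclic_of_tau hG ht.2.2.2.2 ht.2.2.1 (P.isPGroup'.map _)
        ((map_subtype_le _).trans (hE₁.1.trans hE.1))
    · have : (P : Subgroup E₁) = ⊥ := by
        refine eq_bot_of_card_eq _ ?_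
        rw [Sylow.card_eq_multiplicity, Nat.factorization_eq_zero_of_not_dvd hqd, pow_zero]
      rw [this]
      infer_instance⟩
  letI : CommGroup E₁ := { (inferInstance : Group E₁) with mul_comm := hcomm.is_comm.comm }
  haveI : Group.IsNilpotent E₁ := CommGroup.isNilpotent
  infer_instance

/-- BG 12.1: the Hall `τ₃`-subgroup of `E` is cyclic, normal, and inside `E'`. -/
theorem tau3_hall (h1403 : StmtS1403.{u}) (hG : IsMinSimpleOddOrder G) (hM : IsCoatom M)
    (hE : IsComplIn E (sigmaCore M) M) {E₃ : Subgroup G} (hE₃ : IsPiHallOf (tau3 M) E₃ E) :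
    IsCyclic E₃ ∧ E₃ ≤ ⁅E, E⁆ ∧ E ≤ normalizer (E₃ : Set G) := by
  have key : ∀ (q : ℕ) [Fact q.Prime] (P : Sylow q E₃), q ∣ Nat.card E₃ →
      (P : Subgroup E₃).map E₃.subtype ≤ ⁅E, E⁆ ∧
        E ≤ normalizer (((P : Subgroup E₃).map E₃.subtype : Subgroup G) : Set G) ∧
        IsCyclic ((P : Subgroup E₃).map E₃.subtype) := by
    intro q hq P hd
    refine tau3_sylow h1403 hG hM hE (hE₃.2.1 q hq.out hd) ⟨(map_subtype_le _).trans hE₃.1,
      P.isPGroup'.map _, fun h => ?_⟩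
    rw [← relIndex_mul_relIndex _ _ _ (map_subtype_le (P : Subgroup E₃)) hE₃.1] at h
    rcases hq.out.dvd_mul.1 h with h' | h'
    · exact (sylIn_sylow_map P).not_dvd h'
    · exact hE₃.2.2 q hq.out (hE₃.2.1 q hq.out hd) h'
  have hle : E₃ ≤ ⁅E, E⁆ := by
    have htop : (⁅E, E⁆).subgroupOf E₃ = ⊤ := by
      refine eq_top_of_card_eq _ (Nat.dvd_antisymm (card_subgroup_dvd_card _)
        ((Nat.dvd_iff_prime_pow_dvd_dvd _ _).2 fun q k hq hk => ?_))
      haveI := Fact.mk hq
      rcases Nat.eq_zero_or_pos k with rfl | hk0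
      · simp
      obtain ⟨P⟩ : Nonempty (Sylow q E₃) := inferInstance
      refine dvd_trans ?_ (card_dvd_of_le (map_le_iff_le_comap.1 (key q P ?_).1))
      · exact Sylow.card_eq_multiplicity P ▸ Nat.pow_dvd_pow q
          ((hq.pow_dvd_iff_le_factorization Nat.card_pos.ne').1 hk)
      · exact (dvd_pow_self q hk0.ne').trans hk
    exact fun x hx => (htop ▸ mem_top (⟨x, hx⟩ : E₃) : (⟨x, hx⟩ : E₃) ∈ (⁅E, E⁆).subgroupOf E₃)
  haveI hn : Group.IsNilpotent E₃ :=
    CfsgLib.Base.isNilpotent_of_le hle (isNilpotent_derived_sigmaCompl h1403 hG hM hE)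
  haveI : IsZGroup E₃ := ⟨fun q hq P => by
    haveI := Fact.mk hq
    by_cases hqd : q ∣ Nat.card E₃
    · exact (MulEquiv.isCyclic (equivMapOfInjective _ _ E₃.subtype_injective)).2 (key q P hqd).2.2
    · have : (P : Subgroup E₃) = ⊥ := by
        refine eq_bot_of_card_eq _ ?_
        rw [Sylow.card_eq_multiplicity, Nat.factorization_eq_zero_of_not_dvd hqd, pow_zero]
      rw [this]
      infer_instance⟩
  refine ⟨inferInstance, hle, fun e he => ?_⟩
  have htop : (cj e E₃).subgroupOf E₃ = ⊤ := by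
    refine eq_top_of_card_eq _ (Nat.dvd_antisymm (card_subgroup_dvd_card _)
      ((Nat.dvd_iff_prime_pow_dvd_dvd _ _).2 fun q k hq hk => ?_))
    haveI := Fact.mk hq
    rcases Nat.eq_zero_or_pos k with rfl | hk0
    · simp
    obtain ⟨P⟩ : Nonempty (Sylow q E₃) := inferInstance
    have hd : q ∣ Nat.card E₃ := (dvd_pow_self q hk0.ne').trans hk
    refine (Sylow.card_eq_multiplicity P ▸ Nat.pow_dvd_pow q
      ((hq.pow_dvd_iff_le_factorization Nat.card_pos.ne').1 hk) : q ^ k ∣ Nat.card P).trans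
      (card_dvd_of_le (map_le_iff_le_comap.1 ?_))
    rw [← mem_normalizer_iff_cj.1 ((key q P hd).2.1 he)]
    exact cj_mono (map_subtype_le _)
  refine mem_normalizer_iff_cj.2 (eq_of_le_of_card_ge (fun x hx =>
    (htop ▸ mem_top (⟨x, hx⟩ : E₃) : (⟨x, hx⟩ : E₃) ∈ (cj e E₃).subgroupOf E₃)) ?_).symm
  rw [card_cj]

/-- BG 12.1 in the shape of row S1415. -/
theorem stmtS1415_of (h1403 : StmtS1403.{u}) : StmtS1415.{u} :=
  fun hG _ hM _ hE => ⟨isNilpotent_derived_sigmaCompl h1403 hG hM hE,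
    fun _ h => isCyclic_tau1 h1403 hG hM hE h, fun _ h => tau3_hall h1403 hG hM hE h⟩

end CfsgLib.FT
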