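import Cfsg.Agent.Lib.FT.BG12.Upstream
import Cfsg.Agent.Lib.FT.BG12.SigmaCompl
import Cfsg.Agent.Lib.FT.AlphaCentralizer
import Cfsg.Agent.Lib.Coprime.Action2
import Cfsg.Agent.Lib.OddOrder.FittingHall
import Cfsg.Agent.Lib.FT.BG13.General
import Cfsg.Agent.Lib.FT.Beta

/-!
# Shared tools for BG section 12
-/

set_option autoImplicit false

open Subgroup Cfsg CfsgLib.OddOrder CfsgLib.Techniques
open scoped commutatorElement

namespace CfsgLib.FT.BG12

universe u

/-- What section 12 assumes from sections 9 to 11. -/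
structure Up.{v} : Prop where
  s1403 : StmtS1403.{v}
  s1411 : StmtS1411.{v}
  s1412 : StmtS1412.{v}
  s1414 : StmtS1414.{v}
  s1453 : StmtS1453.{v}
  disjoint : SigmaDisjoint.{v}
  centRank : SigmaCentRank.{v}
  exceptional : Exceptional.{v}
  signalizer : MaxElemSignalizer.{v}
  maxStructure : MaxElemStructure.{v}
  betaCentRank : BetaCentRank.{v}
  betaPrimeSylow : BetaPrimeSylow.{v}

variable {G : Type u} [Group G] [Finite G] {M H X Y A : Subgroup G} {p : ℕ}

/-- A conjugate of `M` containing `X` is `M` when `C_G(X) ≤ M`. -/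
theorem cj_eq_of_centralizer_le (h1403 : StmtS1403.{u}) (hG : IsMinSimpleOddOrder G)
    (hM : IsCoatom M) [Fact p.Prime] (hp : p ∈ sigma M) (hXp : IsPGroup p X) (hX : X ≠ ⊥)
    (hXM : X ≤ M) (hC : centralizer (X : Set G) ≤ M) {g : G} (hXg : X ≤ cj g M) : cj g M = M := by
  obtain ⟨c, hc, he⟩ := exists_centralizer_cj_eq h1403 hG hM hp (Nat.card G) X le_add_self hXp hX
    1 g (by rwa [cj_one]) hXg
  rw [cj_one, cj_eq_self_of_mem (hC hc)] at he
  exact he.symm

/-- Maximal subgroups sharing `X` with `C_G(X)` inside the second are not conjugate. -/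
theorem not_conj_of_centralizer_le (h1403 : StmtS1403.{u}) (hG : IsMinSimpleOddOrder G)
    (hM : IsCoatom M) [Fact p.Prime] (hp : p ∈ sigma M) (hXp : IsPGroup p X) (hX : X ≠ ⊥)
    (hXM : X ≤ M) (hXH : X ≤ H) (hC : centralizer (X : Set G) ≤ H) (hne : H ≠ M) :
    ∀ g : G, H ≠ cj g M := by
  rintro g rfl
  obtain ⟨c, hc, he⟩ := exists_centralizer_cj_eq h1403 hG hM hp (Nat.card G) X le_add_self hXp hX
    g 1 hXH (by rwa [cj_one])
  rw [cj_one, cj_eq_self_of_mem (hC hc)] at he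
  exact hne he

theorem not_conj_symm (h : ∀ g : G, H ≠ cj g M) : ∀ g : G, M ≠ cj g H := fun g e =>
  h g⁻¹ (by rw [e, cj_inv_cj])

theorem le_sigmaCore_of_primes (h1403 : StmtS1403.{u}) (hG : IsMinSimpleOddOrder G)
    (hM : IsCoatom M) (hXM : X ≤ M) (hX : ∀ q : ℕ, q.Prime → q ∣ Nat.card X → q ∈ sigma M) :
    X ≤ sigmaCore M := by
  have hn : ((sigmaCore M).subgroupOf M).Normal :=
    normal_subgroupOf_of_le_normalizer (le_normalizer_sigmaCore M)
  intro x hx
  set m := ((sigmaCore M).subgroupOf M).index with hm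
  have h1 : (⟨x, hXM hx⟩ : M) ^ m ∈ (sigmaCore M).subgroupOf M :=
    ((sigmaCore M).subgroupOf M).pow_index_mem _
  have hcop : (orderOf x).Coprime m := Nat.coprime_of_dvd fun q hq a b =>
    (sigmaCore_hall h1403 hG hM).2.2 q hq (hX q hq (a.trans (orderOf_dvd_natCard _ hx))) b
  obtain ⟨k, hk⟩ := exists_pow_eq_self_of_coprime (x := x) hcop.symm
  rw [← hk]
  exact pow_mem (mem_subgroupOf.1 h1 : x ^ m ∈ sigmaCore M) k

theorem pgroup_le_sigmaCore (h1403 : StmtS1403.{u}) (hG : IsMinSimpleOddOrder G) (hM : IsCoatom M)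
    [hp' : Fact p.Prime] (hp : p ∈ sigma M) (hX : IsPGroup p X) (hXM : X ≤ M) :
    X ≤ sigmaCore M := by
  refine le_sigmaCore_of_primes h1403 hG hM hXM fun q hq hd => ?_
  obtain ⟨j, hj⟩ := IsPGroup.iff_card.1 hX
  rwa [(Nat.prime_dvd_prime_iff_eq hq hp'.out).1 (hq.dvd_of_dvd_pow (hj ▸ hd))]

theorem coprime_card_of_not_dvd [hp : Fact p.Prime] (hA : IsPGroup p A)
    (hX : ¬ p ∣ Nat.card X) : (Nat.card A).Coprime (Nat.card X) := by
  obtain ⟨j, hj⟩ := IsPGroup.iff_card.1 hA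
  exact hj ▸ (hp.out.coprime_iff_not_dvd.2 hX).pow_left j

theorem not_dvd_alphaCore [hp : Fact p.Prime] (h : p ∉ alpha M) :
    ¬ p ∣ Nat.card (alphaCore M) := fun hd =>
  h (CfsgLib.Base.piCore_primes _ _ p hp.out
    (by rwa [alphaCore, CfsgLib.Base.card_map_subtype] at hd))

/-- If `[X, A] ≤ Y` and `[Y, A] = 1` for a coprime action, then `A` centralises `X`. -/
theorem le_centralizer_of_commutator_trivial (hAX : A ≤ normalizer (X : Set G))
    (hcop : (Nat.card A).Coprime (Nat.card X)) (hA : Group.IsSolvable A) (hY : ⁅X, A⁆ ≤ Y)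
    (h : ⁅Y, A⁆ = ⊥) : A ≤ centralizer (X : Set G) := by
  have h1 := CfsgLib.Coprime.commutator_commutator_eq hAX hcop (Or.inl hA)
  have h2 : ⁅⁅X, A⁆, A⁆ = ⊥ := le_bot_iff.1 (h ▸ commutator_mono hY le_rfl)
  rw [← commutator_eq_bot_iff_le_centralizer, commutator_comm, ← h1, h2]

/-- Coprime parts of `M'` commute modulo `M_α`. -/
theorem commutator_le_alphaCore (hG : IsMinSimpleOddOrder G) (hM : IsCoatom M)
    (hX : X ≤ ⁅M, M⁆) (hY : Y ≤ ⁅M, M⁆) (hcop : (Nat.card X).Coprime (Nat.card Y)) :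
    ⁅X, Y⁆ ≤ alphaCore M := by
  haveI := maximal_solvable hG hM
  refine commutator_le.2 fun x hx y hy => ?_
  have hmem : ∀ {z : G}, z ∈ ⁅M, M⁆ → ∃ w : M, w ∈ commutator M ∧ (w : G) = z := fun {z} hz => by
    rw [← map_subtype_commutator] at hz
    exact hz
  obtain ⟨x', hx', rfl⟩ := hmem (hX hx)
  obtain ⟨y', hy', rfl⟩ := hmem (hY hy)
  set π := QuotientGroup.mk' (piCore (alpha M) M)
  have hc : (orderOf (π x')).Coprime (orderOf (π y')) := by
    have h1 := Subgroup.orderOf_dvd_natCard _ hx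
    have h2 := Subgroup.orderOf_dvd_natCard _ hy
    rw [Subgroup.orderOf_coe] at h1 h2
    exact (hcop.coprime_dvd_left ((orderOf_map_dvd π x').trans h1)).coprime_dvd_right
      ((orderOf_map_dvd π y').trans h2)
  have hcm : Commute (π x') (π y') := commute_of_isNilpotent
    (isNilpotent_derived_quotient (α := alpha M) (maximal_odd hG M) fun p hp h => ⟨hp, h⟩)
    (mem_map_of_mem π hx') (mem_map_of_mem π hy') hc
  refine Subgroup.mem_map.2 ⟨⁅x', y'⁆, ?_, map_commutatorElement _ _ _⟩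
  rw [← QuotientGroup.eq_one_iff]
  exact (map_commutatorElement π x' y').trans (commutatorElement_eq_one_iff_mul_comm.2 hcm)

/-- The maximal subgroup through a normaliser that is not uniquely in `M`. -/
theorem exists_other_maximal (hG : IsMinSimpleOddOrder G) {A₀ : Subgroup G} (hA₀ : A₀ ≠ ⊥)
    (hA₀t : A₀ ≠ ⊤)
    (h : ¬ (normalizer (A₀ : Set G) ≤ M ∧
      ∀ L : Subgroup G, IsCoatom L → normalizer (A₀ : Set G) ≤ L → L = M)) :
    ∃ L : Subgroup G, IsCoatom L ∧ normalizer (A₀ : Set G) ≤ L ∧ L ≠ M := by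
  by_cases hN : normalizer (A₀ : Set G) ≤ M
  · by_contra hno
    push Not at hno
    exact h ⟨hN, hno⟩
  · obtain ⟨L, hL, hNL⟩ := exists_maximal_ge (minSimple_normalizer_ne_top hG hA₀ hA₀t)
    exact ⟨L, hL, hNL, fun e => hN (e ▸ hNL)⟩

end CfsgLib.FT.BG12
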