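import Cfsg.Agent.Lib.FT.BG12.Fifteen

/-!
# The elementary subgroups of order `p²` of a complement of `M_σ`
-/

set_option autoImplicit false
set_option linter.unusedSectionVars false
set_option linter.style.haveILetI false

open Subgroup Cfsg CfsgLib.OddOrder CfsgLib.Techniques
open scoped commutatorElement

namespace CfsgLib.FT.BG12

open CfsgLib.FT.BG13 (ne_bot_of_card_prime isPGroup_of_card_prime dvd_of_pGroup_ne_bot)

universe u

variable {G : Type u} [Group G] [Finite G] {M E A : Subgroup G} {p : ℕ}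

/-- The primes of a complement. -/
theorem tau_of_dvd_compl (h1403 : StmtS1403.{u}) (hG : IsMinSimpleOddOrder G) (hM : IsCoatom M)
    (hE : IsComplIn E (sigmaCore M) M) (hp : p.Prime) (hd : p ∣ Nat.card E) :
    p ∈ tau1 M ∨ p ∈ tau2 M ∨ p ∈ tau3 M := by
  haveI := Fact.mk hp
  have hσ := not_mem_sigma_of_dvd h1403 hG hM hE hp hd
  have hdM : p ∣ Nat.card M := hd.trans (card_dvd_of_le hE.1)
  by_cases h1 : PRankLE p 1 M
  · by_cases hd' : p ∣ Nat.card ↥⁅M, M⁆
    · exact Or.inr (Or.inr ⟨hp, hσ, hd', h1⟩)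
    · exact Or.inl ⟨hp, hσ, hdM, hd', h1⟩
  · exact Or.inr (Or.inl ⟨hp, hσ, pRankLE_two_of_not_sigma h1403 hG hM hσ, h1⟩)

/-- A `σ(M)'`-subgroup of `M` has a conjugate in the complement. -/
theorem exists_cj_le_compl (hG : IsMinSimpleOddOrder G) (hM : IsCoatom M)
    (hE : IsComplIn E (sigmaCore M) M) {X : Subgroup G} (hXM : X ≤ M)
    (hX : ∀ q : ℕ, q.Prime → q ∣ Nat.card X → q ∉ sigma M) : ∃ m ∈ M, cj m X ≤ E :=
  exists_cj_le_of_supplement (maximal_solvable hG hM) hE.1 hXM
    (by rw [card_sigmaCompl hE, mul_comm]) fun q hq hd => not_dvd_sigmaCore (hX q hq hd) hq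

variable [hp' : Fact p.Prime]

theorem exists_elem_compl (hG : IsMinSimpleOddOrder G) (hM : IsCoatom M)
    (hE : IsComplIn E (sigmaCore M) M) (hp : p ∈ tau2 M) :
    ∃ A : Subgroup G, A ≤ E ∧ IsElementaryAbelian p A ∧ Nat.card A = p ^ 2 := by
  obtain ⟨T, hT⟩ := exists_sylIn (p := p) E
  obtain ⟨A, hAT, hA, hA2⟩ := exists_elementary_sq (M := T)
    fun h => hp.2.2.2 ((pRankLE_iff_sylIn (sylIn_of_sigmaCompl hE hp.2.1 hT)).2 h)
  exact ⟨A, hAT.trans hT.le, hA, hA2⟩

/-- The standing data: `A` elementary of order `p²` in the complement `E`. -/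
structure Elem (p : ℕ) (M E A : Subgroup G) : Prop where
  max : IsCoatom M
  compl : IsComplIn E (sigmaCore M) M
  sigma : p ∉ Cfsg.sigma M
  le : A ≤ E
  elem : IsElementaryAbelian p A
  card : Nat.card A = p ^ 2

namespace Elem

theorem le_max (d : Elem p M E A) : A ≤ M := d.le.trans d.compl.1

theorem isPGroup (d : Elem p M E A) : IsPGroup p A :=
  CfsgLib.Base.isPGroup_of_isElementaryAbelian d.elem

theorem ne_bot (d : Elem p M E A) : A ≠ ⊥ := fun e => by
  have h := d.card
  rw [e, card_bot] at h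
  exact (Nat.one_lt_pow two_ne_zero hp'.out.one_lt).ne h

theorem tau2 (d : Elem p M E A) (U : Up.{u}) (hG : IsMinSimpleOddOrder G) : p ∈ Cfsg.tau2 M :=
  tau2_of_le U.s1403 hG d.max d.sigma d.le_max d.elem d.card

theorem exceptional (d : Elem p M E A) (U : Up.{u}) (hG : IsMinSimpleOddOrder G) :
    ExceptionalConj M p A :=
  tau2_exceptional U hG d.max d.sigma d.le_max d.elem d.card

theorem normal (d : Elem p M E A) (U : Up.{u}) (hG : IsMinSimpleOddOrder G) :
    E ≤ normalizer (A : Set G) :=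
  le_normalizer_elem U hG d.max d.compl d.sigma d.le d.elem d.card

theorem eq_compl (d : Elem p M E A) (U : Up.{u}) (hG : IsMinSimpleOddOrder G) :
    M ⊓ normalizer (A : Set G) = E :=
  inf_normalizer_elem U hG d.max d.compl d.sigma d.le d.elem d.card

theorem centralizer_le (d : Elem p M E A) (U : Up.{u}) (hG : IsMinSimpleOddOrder G) :
    centralizer (A : Set G) ≤ E :=
  d.eq_compl U hG ▸
    le_inf (centralizer_le_maximal U hG d.max d.le_max d.elem d.card) (centralizer_le_normalizer _)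

theorem mem_compl (d : Elem p M E A) (U : Up.{u}) (hG : IsMinSimpleOddOrder G) {g : G}
    (hg : g ∈ M) (hn : g ∈ normalizer (A : Set G)) : g ∈ E :=
  (d.eq_compl U hG).le (mem_inf.2 ⟨hg, hn⟩)

theorem exists_not_mem (d : Elem p M E A) (U : Up.{u}) (hG : IsMinSimpleOddOrder G) :
    ∃ n ∈ normalizer (A : Set G), n ∉ M :=
  SetLike.not_le_iff_exists.1
    (normalizer_elem_not_le U hG d.max d.sigma d.le_max d.elem d.card)

theorem mem_of_pow (d : Elem p M E A) (U : Up.{u}) (hG : IsMinSimpleOddOrder G) {x : G}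
    (hx : x ∈ E) (hxp : x ^ p = 1) : x ∈ A :=
  le_elem_of_card U hG d.max d.compl d.sigma d.le d.elem d.card hx hxp

/-- The `p`-subgroups of `E` are abelian and centralise `A`. -/
theorem le_centralizer (d : Elem p M E A) (U : Up.{u}) (hG : IsMinSimpleOddOrder G)
    {T : Subgroup G} (hT : IsPGroup p T) (hTE : T ≤ E) :
    IsMulCommutative T ∧ T ≤ centralizer (A : Set G) := by
  obtain ⟨T', hT', hle⟩ := exists_sylIn_ge (p := p) hT hTE
  have hAT : A ≤ T' := hT'.le_of_normal d.isPGroup d.le (d.normal U hG)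
  have h := ((d.exceptional U hG).sylow T' (sylIn_of_sigmaCompl d.compl d.sigma hT')).1
  refine ⟨⟨⟨fun a b => Subtype.ext
    (congrArg (Subtype.val : T' → G) (h.is_comm.comm ⟨a, hle a.2⟩ ⟨b, hle b.2⟩))⟩⟩,
    fun t ht => mem_centralizer_iff.2 fun a ha => ?_⟩
  exact congrArg (Subtype.val : T' → G) (h.is_comm.comm ⟨a, hAT ha⟩ ⟨t, hle ht⟩)

theorem le_sylIn (d : Elem p M E A) (U : Up.{u}) (hG : IsMinSimpleOddOrder G)
    {T : Subgroup G} (hT : SylIn p T E) : A ≤ T :=
  hT.le_of_normal d.isPGroup d.le (d.normal U hG)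

theorem card_line (d : Elem p M E A) {a : G} (ha : a ∈ A) (ha1 : a ≠ 1) :
    Nat.card (zpowers a) = p :=
  card_zpowers_of_mem d.elem ha ha1

/-- Some line of `A` has a fixed point on `M_σ`. -/
theorem exists_fixed (d : Elem p M E A) (U : Up.{u}) (hG : IsMinSimpleOddOrder G) :
    ∃ L : Subgroup G, L ≤ A ∧ Nat.card L = p ∧
      sigmaCore M ⊓ centralizer (L : Set G) ≠ ⊥ := by
  by_contra h
  push Not at h
  haveI := d.elem.1
  refine sigmaCore_ne_bot U.s1403 hG d.max (le_bot_iff.1 ?_)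
  refine CfsgLib.Coprime.le_of_centralizer_le_of_not_isCyclic (not_isCyclic_of_sq d.elem d.card)
    (d.le_max.trans (le_normalizer_sigmaCore M))
    (coprime_card_of_not_dvd d.isPGroup (not_dvd_sigmaCore d.sigma hp'.out)) fun a ha ha1 => ?_
  rw [← centralizer_zpowers a]
  exact (h (zpowers a) (zpowers_le.2 ha) (d.card_line ha ha1)).le

/-- A line with a fixed point on `M_σ` has its centraliser in `M` alone. -/
theorem fixed_unique (d : Elem p M E A) (U : Up.{u}) (hG : IsMinSimpleOddOrder G)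
    {L : Subgroup G} (hLA : L ≤ A) (hL : L ≠ ⊥)
    (h : sigmaCore M ⊓ centralizer (L : Set G) ≠ ⊥) :
    centralizer (L : Set G) ≤ M ∧
      ∀ H : Subgroup G, IsCoatom H → centralizer (L : Set G) ≤ H → H = M :=
  centralizer_line_unique U hG d.max d.sigma d.le_max d.elem d.card hLA hL h

/-- Moving a fixed line: if `g L` has its centraliser in `M` for a fixed line `L`, then `g ∈ M`. -/
theorem mem_of_moved (d : Elem p M E A) (U : Up.{u}) (hG : IsMinSimpleOddOrder G)
    {L : Subgroup G} (hLA : L ≤ A) (hL : L ≠ ⊥)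
    (h : sigmaCore M ⊓ centralizer (L : Set G) ≠ ⊥) {g : G}
    (hg : centralizer ((cj g L : Subgroup G) : Set G) ≤ M) : g ∈ M := by
  have hC : centralizer (L : Set G) ≤ cj g⁻¹ M := by
    intro x hx
    have h1 : g * x * g⁻¹ ∈ centralizer ((cj g L : Subgroup G) : Set G) := by
      refine mem_centralizer_iff.2 ?_
      rintro _ ⟨y, hy, rfl⟩
      show g * y * g⁻¹ * (g * x * g⁻¹) = g * x * g⁻¹ * (g * y * g⁻¹)
      rw [show g * y * g⁻¹ * (g * x * g⁻¹) = g * (y * x) * g⁻¹ by group,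
        mem_centralizer_iff.1 hx y hy]
      group
    rw [mem_cj, inv_inv]
    exact hg h1
  have := mem_maximal_of_cj_eq hG d.max ((d.fixed_unique U hG hLA hL h).2 _ (isCoatom_cj d.max g⁻¹) hC)
  simpa using M.inv_mem this

end Elem

end CfsgLib.FT.BG12
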