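import Cfsg.Agent.Lib.FT.BG12.SigmaInter
import Cfsg.Agent.Lib.FT.BG13.Upstream
import Cfsg.Agent.Lib.FT.Transport

/-!
# BG 12.15 (d), (e) and 12.16
-/

set_option autoImplicit false
set_option linter.unusedSectionVars false
set_option linter.style.haveILetI false

open Subgroup Cfsg CfsgLib.OddOrder CfsgLib.Techniques
open scoped commutatorElement Pointwise

namespace CfsgLib.FT.BG12

universe u

variable {G : Type u} [Group G] [Finite G] {M H : Subgroup G}

theorem card_dvd_of_mul {K X Y : Subgroup G} (hY : Y ≤ normalizer (X : Set G))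
    (h : ∀ k ∈ K, ∃ a ∈ X, ∃ b ∈ Y, k = a * b) : Nat.card K ∣ Nat.card X * Nat.card Y := by
  have hle : K ≤ Y ⊔ X := fun k hk => by
    obtain ⟨a, ha, b, hb, rfl⟩ := h k hk
    exact mul_mem (mem_sup_right ha) (mem_sup_left hb)
  rw [mul_comm]
  exact (card_dvd_of_le hle).trans (CfsgLib.Coprime.card_sup_dvd hY)

theorem card_mul_relIndex {K L : Subgroup G} (h : K ≤ L) :
    Nat.card K * K.relIndex L = Nat.card L := by
  rw [← relIndex_bot_left, ← relIndex_bot_left, relIndex_mul_relIndex _ _ _ bot_le h]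

/-- A Sylow subgroup of a supplement of a `p'`-subgroup is one of the whole. -/
theorem sylIn_of_supplement {p : ℕ} [hp : Fact p.Prime] {L X Y T : Subgroup G} (hYL : Y ≤ L)
    (h : Nat.card L ∣ Nat.card X * Nat.card Y) (hX : ¬ p ∣ Nat.card X) (hT : SylIn p T Y) :
    SylIn p T L := by
  refine ⟨hT.le.trans hYL, hT.isPGroup, fun hd => ?_⟩
  rw [← relIndex_mul_relIndex _ _ _ hT.le hYL] at hd
  refine (hp.out.dvd_mul.1 hd).elim hT.not_dvd fun h2 => hX ?_
  have h3 : Nat.card Y * Y.relIndex L ∣ Nat.card Y * Nat.card X := by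
    rwa [card_mul_relIndex hYL, mul_comm]
  exact h2.trans ((Nat.mul_dvd_mul_iff_left Nat.card_pos).1 h3)

/-- Hall conjugation into a supplement. -/
theorem exists_cj_le_of_supplement {L X Y K : Subgroup G} (hL : Group.IsSolvable L) (hKL : K ≤ L)
    (hYL : Y ≤ L) (h : Nat.card L ∣ Nat.card X * Nat.card K)
    (hX : ∀ p : ℕ, p.Prime → p ∣ Nat.card Y → ¬ p ∣ Nat.card X) :
    ∃ g ∈ L, cj g Y ≤ K := by
  haveI : Group.IsSolvable K := CfsgLib.Coprime.isSolvable_of_le hKL hL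
  haveI := hL
  set π : Set ℕ := {p | p ∣ Nat.card Y} with hπ
  obtain ⟨W, hW, -⟩ := CfsgLib.Coprime.hallD_of_solvable (G := K) π
  set W' := W.map K.subtype with hW'
  have hW'L : W' ≤ L := (map_subtype_le W).trans hKL
  have hhall : IsPiHall π (W'.subgroupOf L) := by
    refine ⟨fun p hp hd => hW.1 p hp ?_, fun p hp hpπ hd => ?_⟩
    · rwa [CfsgLib.Base.card_subgroupOf hW'L, CfsgLib.Base.card_map_subtype] at hd
    · change p ∣ W'.relIndex L at hd
      rw [← relIndex_mul_relIndex _ _ _ (map_subtype_le W) hKL] at hd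
      rcases hp.dvd_mul.1 hd with h1 | h1
      · refine hW.2 p hp hpπ ?_
        rwa [Subgroup.relIndex, Subgroup.subgroupOf,
          comap_map_eq_self_of_injective K.subtype_injective] at h1
      · refine hX p hp hpπ (h1.trans ((Nat.mul_dvd_mul_iff_left (Nat.card_pos (α := K))).1 ?_))
        rwa [card_mul_relIndex hKL, mul_comm]
  obtain ⟨l, hl⟩ := (CfsgLib.Coprime.hallD_of_solvable (G := L) π).conj_le
    (U := Y.subgroupOf L) (fun p _ hd => by rwa [CfsgLib.Base.card_subgroupOf hYL] at hd) hhall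
  refine ⟨l, l.2, ?_⟩
  rintro _ ⟨y, hy, rfl⟩
  refine map_subtype_le W ?_
  exact hl (smul_mem_pointwise_smul (⟨y, hYL hy⟩ : L) _ (Y.subgroupOf L) hy)

/-- The primes of `α − β` are absent when another maximal subgroup shares a Sylow subgroup. -/
theorem alpha_eq_beta (U : Up.{u}) (hG : IsMinSimpleOddOrder G) (hM : IsCoatom M) (hH : IsCoatom H)
    (hne : H ≠ M) {q : ℕ} [Fact q.Prime] (hqM : q ∈ sigma M) (hqα : q ∉ alpha M) {S : Subgroup G}
    (hS : SylIn q S M) (hC : centralizer (S : Set G) ≤ H) : alpha M = beta M := by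
  refine subset_antisymm (fun p hpα => ?_) (fun p hp => hp.1)
  by_contra hpβ
  have hqβ : q ∉ beta M := fun h => hqα h.1
  haveI := Fact.mk hpα.1
  have hpσ : p ∈ sigma M := alpha_subset_sigma U.s1403 hG hM hpα
  have hpq : p ≠ q := fun e => hqα (e ▸ hpα)
  obtain ⟨-, -, -, ⟨K, hK, hKn⟩, -⟩ := U.s1414 hG M hM
  have hsyl : ∀ {r : ℕ} [Fact r.Prime], r ∈ sigma M → r ∉ beta M → ∀ {R : Subgroup G},
      SylIn r R K → SylIn r R M := by
    intro r hr hrσ hrβ R hR
    refine ⟨hR.le.trans (hK.1.trans (sigmaCore_le M)), hR.isPGroup, fun hd => ?_⟩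
    rw [← relIndex_mul_relIndex _ _ _ hR.le (hK.1.trans (sigmaCore_le M)),
      ← relIndex_mul_relIndex _ _ _ hK.1 (sigmaCore_le M)] at hd
    rcases hr.out.dvd_mul.1 hd with h | h
    · exact hR.not_dvd h
    rcases hr.out.dvd_mul.1 h with h | h
    · exact hK.2.2 r hr.out ⟨hr.out, hrβ⟩ h
    · exact (sigmaCore_hall U.s1403 hG hM).2.2 r hr.out hrσ h
  obtain ⟨P, hP⟩ := exists_sylIn (p := p) K
  obtain ⟨Q, hQ⟩ := exists_sylIn (p := q) K
  have hPM := hsyl hpσ hpβ hP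
  have hcent : P ≤ centralizer (Q : Set G) := fun a ha => mem_centralizer_iff.2 fun b hb =>
    (commute_of_isNilpotent hKn (hQ.le hb) (hP.le ha) (by
      obtain ⟨i, hi⟩ := IsPGroup.iff_orderOf.1 hQ.isPGroup ⟨b, hb⟩
      obtain ⟨j, hj⟩ := IsPGroup.iff_orderOf.1 hP.isPGroup ⟨a, ha⟩
      rw [Subgroup.orderOf_mk] at hi hj
      rw [hi, hj]
      exact ((Nat.coprime_primes Fact.out hpα.1).2 (Ne.symm hpq)).pow _ _)).eq
  obtain ⟨k, hk, hke⟩ := (hsyl hqM hqβ hQ).exists_conj_eq hS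
  have h1 : cj k⁻¹ P ≤ centralizer (S : Set G) := by
    rw [← cj_inv_cj k S, hke]
    rintro _ ⟨a, ha, rfl⟩
    refine mem_centralizer_iff.2 ?_
    rintro _ ⟨b, hb, rfl⟩
    rw [← map_mul, ← map_mul, mem_centralizer_iff.1 (hcent ha) b hb]
  have hP' : SylIn p (cj k⁻¹ P) M := hPM.cj_mem (inv_mem hk)
  have hu := inUniqueMaximal_of_pRank U.s1403 hG hpα.1 (isPGroup_ne_top hG hP'.isPGroup)
    fun h => hpα.2 ((pRankLE_iff_sylIn hP').2 h)
  exact hne (eq_of_inUniqueMaximal hu hM hP'.le hH (h1.trans hC))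

/-- BG 12.15 (d). -/
theorem inter_sigma_case (U : Up.{u}) (hG : IsMinSimpleOddOrder G) (hM : IsCoatom M) {q : ℕ}
    [hq' : Fact q.Prime] (hq : q ∈ sigma M) {X : Subgroup G} (hXq : IsPGroup q X) (hX1 : X ≠ ⊥)
    (hXM : X ≤ M) (hH : IsCoatom H) (hne : H ≠ M) (hN : normalizer (X : Set G) ≤ H)
    (hqH : q ∈ sigma H) :
    (∀ p ∈ tau1 H, p ∈ tau1 M ∪ alpha M) ∧
      (∀ m ∈ H, ∃ a ∈ piCoreOf (beta H) H, ∃ b ∈ M ⊓ H, m = a * b) ∧
      alpha M = beta M ∧ alphaCore M ≠ ⊥ := by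
  obtain ⟨S, hS, hXS⟩ := exists_sylIn_ge (p := q) hXq (le_inf hXM (le_normalizer.trans hN))
  obtain ⟨hnc, hNM, hSH⟩ := sylow_inter U hG hM hq hXq hX1 hXM hH hne hN hS hXS
  have hNH : normalizer (S : Set G) ≤ H := sigma_normalizer_le hqH hSH
  have hST : SylIn q S ⊤ := sigma_sylIn_top hqH hSH
  have hSM : SylIn q S M := hST.mono (hS.le.trans inf_le_left) le_top
  have hdM := U.disjoint hG M H hM hH hnc
  have hdH := U.disjoint hG H M hH hM (not_conj_symm hnc)
  have hqαM : q ∉ alpha M := fun h => hdM.2.1 q h hqH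
  have hqαH : q ∉ alpha H := fun h => hdH.2.1 q h hq
  have hMα : alphaCore M ≠ ⊥ := fun h =>
    (hdM.2.2 (isNilpotent_sigmaCore_of_alphaCore U.s1403 hG hM h)).2 q hq hqH
  have hαM := alpha_eq_beta U hG hM hH hne hq hqαM hSM
    ((centralizer_le_normalizer _).trans hNH)
  have hαH := alpha_eq_beta U hG hH hM (Ne.symm hne) hqH hqαH hSH
    ((centralizer_le_normalizer _).trans hNM)
  have hdecH : ∀ m ∈ H, ∃ a ∈ alphaCore H, ∃ b ∈ M ⊓ H, m = a * b := fun m hm => by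
    obtain ⟨a, ha, b, hb, rfl⟩ := exists_mul_normalizer U.s1403 hG hH hqH hSH m hm
    exact ⟨a, ha, b, ⟨hNM hb.2, hb.1⟩, rfl⟩
  refine ⟨?_, by rw [piCoreOf, ← hαH]; exact hdecH, hαM, hMα⟩
  intro r hr
  obtain ⟨hr1, hrσH, hrd, hrd', hrr⟩ := hr
  haveI := Fact.mk hr1
  have hrαH : r ∉ alpha H := fun h => hrσH (alpha_subset_sigma U.s1403 hG hH h)
  have hdMH : r ∣ Nat.card ↥(M ⊓ H) := (hr1.dvd_mul.1 (hrd.trans (card_dvd_of_mul
    (inf_le_right.trans (le_normalizer_alphaCore H)) hdecH))).resolve_left (not_dvd_alphaCore hrαH)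
  have hrM : r ∣ Nat.card M := hdMH.trans (card_dvd_of_le inf_le_left)
  by_cases hrα : r ∈ alpha M
  · exact Or.inr hrα
  refine Or.inl ?_
  set K := M ⊓ normalizer (S : Set G) with hK
  have hKH : K ≤ H := inf_le_right.trans hNH
  by_cases hrσ : r ∈ sigma M
  · exfalso
    have hrq : r ≠ q := fun e => hrσH (e ▸ hqH)
    have hSd : SylIn q S ⁅M, M⁆ :=
      hSM.mono (sylIn_le_derived U.s1403 hG hM hq hSM) (commutator_le_self M)
    obtain ⟨R, hR, hRle⟩ := U.betaPrimeSylow hG M hM r q hrq (fun h => hrα h.1)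
      (fun h => hqαM h.1) S hSd
    have hR1 : R = ⊥ := by
      by_contra h
      exact hrd' ((CfsgLib.FT.BG13.dvd_of_pGroup_ne_bot hR.isPGroup h).trans
        (card_dvd_of_le (hRle.trans (commutator_mono hKH hKH))))
    obtain ⟨T, hT⟩ := exists_sylIn (p := r) M
    have hd : r ∣ Nat.card ↥⁅M, M⁆ :=
      (CfsgLib.FT.BG13.dvd_of_pGroup_ne_bot hT.isPGroup (sylIn_ne_bot hT hrM)).trans
        (card_dvd_of_le (sylIn_le_derived U.s1403 hG hM hrσ hT))
    exact hR.not_dvd (by rwa [hR1, Subgroup.relIndex_bot_left])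
  have hdecM : ∀ m ∈ M, ∃ a ∈ alphaCore M, ∃ b ∈ K, m = a * b :=
    exists_mul_normalizer U.s1403 hG hM hq hSM
  have hKn : K ≤ normalizer (alphaCore M : Set G) := inf_le_left.trans (le_normalizer_alphaCore M)
  obtain ⟨T, hT⟩ := exists_sylIn (p := r) K
  have hTM : SylIn r T M :=
    sylIn_of_supplement inf_le_left (card_dvd_of_mul hKn hdecM) (not_dvd_alphaCore hrα) hT
  have h1 : PRankLE r 1 M := (pRankLE_iff_sylIn hTM).2 (CfsgLib.Base.pRankLE_of_injective
    (inclusion (hT.le.trans hKH)) (inclusion_injective _) hrr)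
  refine ⟨hr1, hrσ, hrM, fun hd => hrd' ?_, h1⟩
  have hle : ∀ x ∈ ⁅M, M⁆, x ∈ ⁅K, K⁆ ⊔ alphaCore M := by
    haveI hn : ((alphaCore M).subgroupOf M).Normal :=
      normal_subgroupOf_of_le_normalizer (le_normalizer_alphaCore M)
    set f := QuotientGroup.mk' ((alphaCore M).subgroupOf M) with hf
    have htop : (K.subgroupOf M).map f = ⊤ := by
      refine eq_top_iff.2 fun y _ => ?_
      obtain ⟨m, rfl⟩ := QuotientGroup.mk'_surjective _ y
      obtain ⟨a, ha, b, hb, hab⟩ := hdecM m m.2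
      refine ⟨⟨b, hb.1⟩, hb, QuotientGroup.eq.2 (mem_subgroupOf.2 ?_)⟩
      simp only [Subgroup.coe_mul, InvMemClass.coe_inv, hab]
      rw [show b⁻¹ * (a * b) = b⁻¹ * a * (b⁻¹)⁻¹ by group]
      exact (mem_normalizer_iff.1 (le_normalizer_alphaCore M (inv_mem hb.1)) a).1 ha
    intro x hx
    rw [← map_subtype_commutator] at hx
    obtain ⟨w, hw, rfl⟩ := hx
    have h2 : f w ∈ ⁅K.subgroupOf M, K.subgroupOf M⁆.map f := by
      rw [map_commutator, htop, ← map_top_of_surjective f (QuotientGroup.mk'_surjective _),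
        ← map_commutator, ← _root_.commutator_def]
      exact mem_map_of_mem f hw
    obtain ⟨c, hc, hce⟩ := h2
    have h3 : (c : G)⁻¹ * w ∈ alphaCore M := mem_subgroupOf.1 (QuotientGroup.eq.1 hce)
    have h4 : (c : G) ∈ ⁅K, K⁆ := by
      have := mem_map_of_mem M.subtype hc
      rwa [map_commutator, map_subgroupOf_eq_of_le inf_le_left] at this
    have h5 : (c : G) * ((c : G)⁻¹ * w) ∈ ⁅K, K⁆ ⊔ alphaCore M :=
      mul_mem (mem_sup_left h4) (mem_sup_right h3)
    rwa [mul_inv_cancel_left] at h5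
  have h5 : r ∣ Nat.card ↥⁅K, K⁆ * Nat.card (alphaCore M) :=
    (hd.trans (card_dvd_of_le hle)).trans (CfsgLib.Coprime.card_sup_dvd
      (((commutator_le_self K).trans hKn)))
  exact ((hr1.dvd_mul.1 h5).resolve_right (not_dvd_alphaCore hrα)).trans
    (card_dvd_of_le (commutator_mono hKH hKH))

/-- BG 12.15 (e). -/
theorem inter_tau2_case (U : Up.{u}) (hG : IsMinSimpleOddOrder G) (hM : IsCoatom M) {q : ℕ}
    [hq' : Fact q.Prime] (hq : q ∈ sigma M) {X : Subgroup G} (hXq : IsPGroup q X) (hX1 : X ≠ ⊥)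
    (hXM : X ≤ M) (hH : IsCoatom H) (hne : H ≠ M) (hN : normalizer (X : Set G) ≤ H)
    (hqH : q ∉ sigma H) :
    q ∈ tau2 H ∧ IsComplIn (M ⊓ H) (sigmaCore H) H ∧ Group.IsNilpotent (sigmaCore H) ∧
      (∀ p ∈ sigma H, p ∉ sigma M) ∧
      ∀ p ∈ sigma H, p ∣ Nat.card M → p ∈ beta H := by
  obtain ⟨S, hS, hXS⟩ := exists_sylIn_ge (p := q) hXq (le_inf hXM (le_normalizer.trans hN))
  obtain ⟨hnc, -, hSH⟩ := sylow_inter U hG hM hq hXq hX1 hXM hH hne hN hS hXS
  have hτ : q ∈ tau2 H :=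
    (sigma_or_tau2_of_normalizer_le U.s1403 hG hH hXq hX1 hN).resolve_left hqH
  obtain ⟨A, hAS, hA, hA2⟩ : ∃ A : Subgroup G, A ≤ S ∧ IsElementaryAbelian q A ∧
      Nat.card A = q ^ 2 := exists_elementary_sq fun h => hτ.2.2.2 ((pRankLE_iff_sylIn hSH).2 h)
  have hAH : A ≤ H := hAS.trans hSH.le
  have hAM : A ≤ M := hAS.trans (hS.le.trans inf_le_left)
  have hAp := CfsgLib.Base.isPGroup_of_isElementaryAbelian hA
  have hinf : sigmaCore H ⊓ M = ⊥ := inter_other U hG hH hqH hAH hA hA2 hM (Ne.symm hne) hAM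
  have hex := tau2_exceptional U hG hH hqH hAH hA hA2
  have hNA : normalizer (A : Set G) ≤ M :=
    normalizer_le_of_not_isCyclic U hG hM hq hAp hAM (not_isCyclic_of_sq hA hA2)
  -- a complement containing `A`
  have hhall := sigmaCore_hall U.s1403 hG hH
  have hcop : (Nat.card (sigmaCore H)).Coprime ((sigmaCore H).relIndex H) :=
    CfsgLib.Coprime.coprime_of_pi hhall.2.1 hhall.2.2
  obtain ⟨E₀, hE₀H, hE₀c, hE₀⟩ :=
    CfsgLib.Coprime.exists_complement_in (sigmaCore_le H) (le_normalizer_sigmaCore H) hcop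
  have hE₀' : IsComplIn E₀ (sigmaCore H) H := by
    refine ⟨hE₀H, sigmaCore_le H,
      CfsgLib.Base.inf_eq_bot_of_coprime (by rw [hE₀c]; exact hcop.symm), fun m hm => ?_⟩
    rw [← hE₀, sup_comm] at hm
    obtain ⟨a, ha, b, hb, rfl⟩ := (CfsgLib.Coprime.mem_sup_iff_of_le_normalizer
      (hE₀H.trans (le_normalizer_sigmaCore H))).1 hm
    exact ⟨a, ha, b, hb, rfl⟩
  obtain ⟨T, hT⟩ := exists_sylIn (p := q) E₀
  obtain ⟨h, hh, hle⟩ := (sylIn_of_sigmaCompl hE₀' hqH hT).exists_conj hAp hAH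
  set E := cj h⁻¹ E₀ with hEdef
  have hE : IsComplIn E (sigmaCore H) H := by
    have h1 := (isComplIn_map_iff (MulAut.conj h⁻¹) E₀ (sigmaCore H) H).2 hE₀'
    change IsComplIn (cj h⁻¹ E₀) (cj h⁻¹ (sigmaCore H)) (cj h⁻¹ H) at h1
    rwa [mem_normalizer_iff_cj.1 (le_normalizer_sigmaCore H (inv_mem hh)),
      cj_eq_self_of_mem (inv_mem hh)] at h1
  have hAE : A ≤ E := cj_inv_cj h A ▸ cj_mono (hle.trans hT.le)
  have hEM : E ≤ M := inf_normalizer_elem U hG hH hE hqH hAE hA hA2 ▸ inf_le_right.trans hNA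
  have hcompl : IsComplIn (M ⊓ H) (sigmaCore H) H := by
    refine ⟨inf_le_right, sigmaCore_le H, le_bot_iff.1 (hinf ▸ le_inf inf_le_right
      (inf_le_left.trans inf_le_left)), fun m hm => ?_⟩
    obtain ⟨a, ha, b, hb, rfl⟩ := hE.2.2.2 m hm
    exact ⟨a, ⟨hEM ha, hE.1 ha⟩, b, hb, rfl⟩
  have hdis := (U.disjoint hG H M hH hM (not_conj_symm hnc)).2.2 hex.nil
  refine ⟨hτ, hcompl, hex.nil, hdis.2, fun r hr hrM => ?_⟩
  by_contra hrβ
  haveI := Fact.mk hr.1
  have hrσM : r ∉ sigma M := hdis.2 r hr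
  have hrq : r ≠ q := fun e => hrσM (e ▸ hq)
  -- `q < r`
  have hlt : q < r := by
    refine lt_of_le_of_ne ((U.s1414 hG H hH).2.2.2.2 r hr.1 hr.2.1 hrβ |>.2.2 q hq'.out ?_) (Ne.symm hrq)
    set O := pPrimeCore r H with hO
    have hOn : O.Normal := pPrimeCore_normal r H
    by_contra hno
    have hAO : ∀ a : H, (a : G) ∈ A → a ∈ O := fun a ha => by
      by_contra haO
      refine hno ?_
      have h1 : orderOf (QuotientGroup.mk' O a) = q :=
        orderOf_eq_prime (by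
          rw [← map_pow, show a ^ q = 1 from Subtype.ext (by
            rw [SubmonoidClass.coe_pow, OneMemClass.coe_one]; exact hA.2 _ ha), map_one])
          fun e => haO ((QuotientGroup.eq_one_iff a).1 e)
      rw [index_eq_card, ← h1]
      exact orderOf_dvd_natCard _
    obtain ⟨R, hR⟩ := exists_sylIn (p := r) (sigmaCore H)
    obtain ⟨R₀, hR₀⟩ := exists_sylow_of_sylIn hR
    haveI := hex.nil
    haveI : (R₀ : Subgroup ↥(sigmaCore H)).Normal :=
      R₀.normal_of_normalizerCondition Group.normalizerCondition_of_isNilpotent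
    haveI := R₀.characteristic_of_normal ‹_›
    have hRn : H ≤ normalizer (R : Set G) := by
      rw [← hR₀]
      exact (le_normalizer_sigmaCore H).trans (CfsgLib.Base.normalizer_le_normalizer_map_subtype _ _)
    have hRne : R ≠ ⊥ := sylIn_ne_bot hR (by
      refine (hr.1.dvd_mul.1 ?_).resolve_right (hhall.2.2 r hr.1 hr)
      rw [card_mul_relIndex (sigmaCore_le H)]
      exact hr.2.1)
    refine hRne (le_bot_iff.1 (hex.cent ▸ le_inf hR.le ?_))
    intro x hx
    refine mem_centralizer_iff.2 fun a ha => ?_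
    haveI hRN : (R.subgroupOf H).Normal := normal_subgroupOf_of_le_normalizer hRn
    have hxH : x ∈ H := sigmaCore_le H (hR.le hx)
    have hcop' : (Nat.card ↥(R.subgroupOf H)).Coprime (Nat.card O) := by
      rw [CfsgLib.Base.card_subgroupOf (hR.le.trans (sigmaCore_le H))]
      obtain ⟨j, hj⟩ := IsPGroup.iff_card.1 hR.isPGroup
      exact hj ▸ (CfsgLib.Base.pPrimeCore_coprime r H).symm.pow_left j
    have hdisj : Disjoint (R.subgroupOf H) O :=
      disjoint_iff.2 (CfsgLib.Base.inf_eq_bot_of_coprime hcop')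
    exact (congrArg Subtype.val (Subgroup.commute_of_normal_of_disjoint (R.subgroupOf H) O hRN hOn
      hdisj ⟨x, hxH⟩ ⟨a, hAH ha⟩ hx (hAO ⟨a, hAH ha⟩ ha)).eq).symm
  -- a Sylow `r`-subgroup of `M` normalised by `A`
  have hqβ : q ∉ beta M := fun h => not_ideal U.s1403 hG hH hqH hτ.2.2.2 h.2
  set O := pPrimeCore q M with hO
  have hrO : ¬ r ∣ O.index := fun h =>
    (not_le.2 hlt) ((U.s1414 hG M hM).2.2.2.2 q hq'.out hq.2.1 hqβ |>.2.2 r hr.1 h)
  set O' := O.map M.subtype with hO'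
  haveI hOn : O.Normal := pPrimeCore_normal q M
  have hAn : A ≤ normalizer (O' : Set G) :=
    hAM.trans (CfsgLib.Base.le_normalizer_map_pPrimeCore M)
  have hcA : (Nat.card A).Coprime (Nat.card O') := by
    rw [hO', CfsgLib.Base.card_map_subtype, hA2]
    exact (CfsgLib.Base.pPrimeCore_coprime q M).symm.pow_left 2
  obtain ⟨R₀, hR₀⟩ := CfsgLib.Coprime.exists_invariant_sylow (p := r) hAn hcA
    (Or.inl (minSimple_solvable hG (ne_top_of_le_maximal hM hAM)))
  set R := (R₀ : Subgroup O').map O'.subtype with hR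
  have hRM : R ≤ M := (map_subtype_le _).trans (map_subtype_le _)
  have hrO' : r ∣ Nat.card O' := by
    rw [hO', CfsgLib.Base.card_map_subtype]
    exact (hr.1.dvd_mul.1 (O.card_mul_index.symm ▸ hrM)).resolve_right hrO
  have hRne : R ≠ ⊥ := sylIn_ne_bot (sylIn_sylow_map R₀) hrO'
  have hRp : IsPGroup r R := R₀.isPGroup'.map _
  have hRA : R ≤ centralizer (A : Set G) := by
    rw [← commutator_eq_bot_iff_le_centralizer, eq_bot_iff]
    have h1 : ⁅R, A⁆ ≤ R := CfsgLib.Coprime.commutator_le_of_le_normalizer hR₀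
    have h2 : ⁅R, A⁆ ≤ sigmaCore M := (commutator_mono hRM (pgroup_le_sigmaCore U.s1403 hG hM hq hAp hAM)).trans
      (le_normalizer_iff_commutator_le_right.1 (le_normalizer_sigmaCore M))
    refine le_trans (le_inf h1 h2) (le_of_eq (CfsgLib.Base.inf_eq_bot_of_coprime ?_))
    exact coprime_card_of_not_dvd hRp (not_dvd_sigmaCore hrσM hr.1)
  have hRH : R ≤ M ⊓ H :=
    le_inf hRM (hRA.trans (centralizer_le_maximal U hG hH hAH hA hA2))
  exact not_mem_sigma_of_dvd U.s1403 hG hH hcompl hr.1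
    ((CfsgLib.FT.BG13.dvd_of_pGroup_ne_bot hRp hRne).trans (card_dvd_of_le hRH)) hr

/-- The Proposition used by BG section 13. -/
theorem p1215_of (U : Up.{u}) : BG13.P1215.{u} := by
  intro G _ _ hG M hM q _ hq X hXq hX1 hXM H hH hne hN
  refine ⟨fun hqH => inter_sigma_case U hG hM hq hXq hX1 hXM hH hne hN hqH, fun hqH => ?_⟩
  have h := inter_tau2_case U hG hM hq hXq hX1 hXM hH hne hN hqH
  exact ⟨h.1, h.2.2.2.2, h.2.1⟩

/-- BG 12.16. -/
theorem exists_cj_le_sigmaCore (U : Up.{u}) (hG : IsMinSimpleOddOrder G) (hM : IsCoatom M)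
    {Y : Subgroup G} (hY1 : Y ≠ ⊥) (hY : ∀ p : ℕ, p.Prime → p ∣ Nat.card Y → p ∈ sigma M) :
    ∃ g : G, cj g Y ≤ sigmaCore M := by
  suffices h : ∃ g : G, cj g Y ≤ M by
    obtain ⟨g, hg⟩ := h
    exact ⟨g, le_sigmaCore_of_primes U.s1403 hG hM hg fun p hp hd => hY p hp (card_cj g Y ▸ hd)⟩
  have hYt : Y ≠ ⊤ := fun e => by
    have h1 : sigmaCore M = M := le_antisymm (sigmaCore_le M)
      (le_sigmaCore_of_primes U.s1403 hG hM le_rfl fun p hp hd => hY p hp
        (hd.trans (card_dvd_of_le (e ▸ le_top))))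
    have h2 := derived_lt hG hM
    exact h2.not_ge (h1.symm.le.trans (sigmaCore_le_derived U.s1403 hG hM))
  haveI : Group.IsSolvable Y := minSimple_solvable hG hYt
  haveI : Nontrivial Y := (nontrivial_iff_ne_bot _).2 hY1
  obtain ⟨q, N, hq, hNn, hN1, hNp⟩ := CfsgLib.Coprime.exists_normal_pgroup (G := Y)
  haveI := Fact.mk hq
  set X₀ := N.map Y.subtype with hX₀
  have hX₀p : IsPGroup q X₀ := hNp.map _
  have hX₀1 : X₀ ≠ ⊥ := (map_eq_bot_iff_of_injective _ Y.subtype_injective).not.2 hN1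
  have hqσ : q ∈ sigma M := hY q hq
    ((CfsgLib.FT.BG13.dvd_of_pGroup_ne_bot hX₀p hX₀1).trans (card_dvd_of_le (map_subtype_le N)))
  obtain ⟨T, hT⟩ := exists_sylIn (p := q) M
  obtain ⟨z, -, hz⟩ := (sigma_sylIn_top hqσ hT).exists_conj hX₀p le_top
  set X := cj z X₀ with hX
  set Y' := cj z Y with hY'
  suffices h : ∃ g : G, cj g Y' ≤ M by
    obtain ⟨g, hg⟩ := h
    exact ⟨g * z, (cj_mul g z Y).symm ▸ hg⟩
  have hY'σ : ∀ p : ℕ, p.Prime → p ∣ Nat.card Y' → p ∈ sigma M := fun p hp hd =>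
    hY p hp (card_cj z Y ▸ hd)
  have hXM : X ≤ M := hz.trans hT.le
  have hX1 : X ≠ ⊥ := fun e => hX₀1 (cj_eq_bot_iff.1 e)
  have hYN : Y' ≤ normalizer (X : Set G) := by
    rw [hY', hX, ← cj_normalizer]
    refine cj_mono ?_
    rw [hX₀]
    refine le_trans ?_ (le_normalizer_map Y.subtype)
    rw [normalizer_eq_top, ← MonoidHom.range_eq_map, range_subtype]
  obtain ⟨H, hH, hNH⟩ := exists_maximal_ge
    (minSimple_normalizer_ne_top hG hX1 (ne_top_of_le_maximal hM hXM))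
  by_cases hne : H = M
  · exact ⟨1, by rw [cj_one]; exact hne ▸ hYN.trans hNH⟩
  have hHs : Group.IsSolvable H := maximal_solvable hG hH
  suffices h : ∃ g ∈ H, cj g Y' ≤ M ⊓ H by
    obtain ⟨g, -, hg⟩ := h
    exact ⟨g, hg.trans inf_le_left⟩
  obtain ⟨S, hS, hXS⟩ := exists_sylIn_ge (p := q) (isPGroup_cj hX₀p) (le_inf hXM (le_normalizer.trans hNH))
  have hnc := (sylow_inter U hG hM hqσ (isPGroup_cj hX₀p) hX1 hXM hH hne hNH hS hXS).1
  by_cases hqH : q ∈ sigma H
  · obtain ⟨-, hdec, -, -⟩ :=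
      inter_sigma_case U hG hM hqσ (isPGroup_cj hX₀p) hX1 hXM hH hne hNH hqH
    refine exists_cj_le_of_supplement hHs inf_le_right (hYN.trans hNH)
      (card_dvd_of_mul (inf_le_right.trans (le_normalizer_piCoreOf _ H)) hdec) fun p hp hd hd' => ?_
    exact (U.disjoint hG H M hH hM (not_conj_symm hnc)).2.1 p (piCoreOf_primes _ H p hp hd').1
      (hY'σ p hp hd)
  · obtain ⟨-, hcompl, -, hdis, -⟩ :=
      inter_tau2_case U hG hM hqσ (isPGroup_cj hX₀p) hX1 hXM hH hne hNH hqH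
    refine exists_cj_le_of_supplement (X := sigmaCore H) hHs inf_le_right (hYN.trans hNH) ?_
      fun p hp hd hd' => hdis p ((sigmaCore_hall U.s1403 hG hH).2.1 p hp hd') (hY'σ p hp hd)
    rw [card_sigmaCompl hcompl, mul_comm]

/-- BG 12.16 in the shape of row S1425. -/
theorem stmtS1425_of (U : Up.{u}) : StmtS1425.{u} :=
  fun hG _ hM _ hY1 hY => exists_cj_le_sigmaCore U hG hM hY1 hY

end CfsgLib.FT.BG12
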