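import Cfsg.Agent.Lib.FT.BG12.Context

/-!
# Generation by centralisers for a group acting modulo a centralising subgroup
-/

set_option autoImplicit false
set_option linter.style.haveILetI false

open Subgroup CfsgLib.Techniques
open scoped commutatorElement

namespace CfsgLib.FT.BG12

variable {G : Type*} [Group G] [Finite G]

/-- Generation by the centralisers of `y` and the `x y^i` when these commute and have `q`-th powers
trivial modulo a subgroup `Z` centralising everything. -/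
theorem le_of_centralizer_le_mod {q : ℕ} (hq : q.Prime) {Z W K R : Subgroup G}
    (hWZ : W ≤ centralizer (Z : Set G)) (hKZ : K ≤ centralizer (Z : Set G))
    (hZW : Z ≤ W) (hWK : W ≤ normalizer (K : Set G))
    (hcop : (Nat.card W).Coprime (Nat.card K)) (hqK : (Nat.card K).Coprime q)
    (hWW : ⁅W, W⁆ ≤ Z) {x y : G} (hx : x ∈ W) (hy : y ∈ W) (hxq : x ^ q ∈ Z) (hyq : y ^ q ∈ Z)
    (hRy : K ⊓ centralizer {y} ≤ R) (hRx : ∀ i < q, K ⊓ centralizer {x * y ^ i} ≤ R) :
    K ≤ R := by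
  set L := centralizer (Z : Set G) with hL
  have hZL : Z ≤ L := hZW.trans hWZ
  haveI hn : (Z.subgroupOf L).Normal := by
    refine ⟨fun z hz g => ?_⟩
    have hc : (g : G) * z = z * g := (mem_centralizer_iff.1 g.2 z hz).symm
    have : g * z * g⁻¹ = z := Subtype.ext (by
      simp only [Subgroup.coe_mul, InvMemClass.coe_inv]
      rw [hc, mul_inv_cancel_right])
    rwa [this]
  set f := QuotientGroup.mk' (Z.subgroupOf L) with hf
  have hKW : K ⊓ W = ⊥ := CfsgLib.Base.inf_eq_bot_of_coprime hcop.symm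
  set A : Subgroup (L ⧸ Z.subgroupOf L) := (W.subgroupOf L).map f with hA
  set K' : Subgroup (L ⧸ Z.subgroupOf L) := (K.subgroupOf L).map f with hK'
  set R' : Subgroup (L ⧸ Z.subgroupOf L) := ((K ⊓ R).subgroupOf L).map f with hR'
  haveI : IsMulCommutative A := ⟨⟨fun a b => by
    obtain ⟨a', ha', hae⟩ := a.2
    obtain ⟨b', hb', hbe⟩ := b.2
    apply Subtype.ext
    simp only [Subgroup.coe_mul, ← hae, ← hbe, ← map_mul]
    apply (QuotientGroup.eq).2
    rw [mem_subgroupOf]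
    have h1 : ⁅(b' : G)⁻¹, (a' : G)⁻¹⁆ ∈ Z := hWW (commutator_mem_commutator (W.inv_mem hb') (W.inv_mem ha'))
    convert h1 using 1
    simp only [Subgroup.coe_mul, InvMemClass.coe_inv, commutatorElement_def]
    group⟩⟩
  have hdA : Nat.card A ∣ Nat.card W :=
    (CfsgLib.Base.card_subgroupOf hWZ) ▸ card_map_dvd _ _
  have hdK : Nat.card K' ∣ Nat.card K :=
    (CfsgLib.Base.card_subgroupOf hKZ) ▸ card_map_dvd _ _
  have hnorm : A ≤ normalizer (K' : Set (L ⧸ Z.subgroupOf L)) := by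
    refine le_trans (map_mono ?_) (le_normalizer_map f)
    intro w hw
    rw [mem_normalizer_iff]
    intro k
    simp only [mem_subgroupOf, Subgroup.coe_mul, InvMemClass.coe_inv]
    exact mem_normalizer_iff.1 (hWK hw) k
  have key : ∀ b ∈ W, (hb : b ∈ L) → K ⊓ centralizer {b} ≤ R →
      K' ⊓ centralizer {f ⟨b, hb⟩} ≤ R' := by
    rintro b hbW hbL hle _ ⟨⟨k, hk, rfl⟩, hc⟩
    refine ⟨k, ?_, rfl⟩
    have h1 : f (k * ⟨b, hbL⟩) = f (⟨b, hbL⟩ * k) := by
      rw [map_mul, map_mul]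
      exact mem_centralizer_singleton_iff.1 hc
    have h2 : ((⟨b, hbL⟩ * k : L) : G)⁻¹ * ((k * ⟨b, hbL⟩ : L) : G) ∈ Z :=
      mem_subgroupOf.1 ((QuotientGroup.eq (s := Z.subgroupOf L)).1 h1.symm)
    have h3 : (k : G)⁻¹ * (b⁻¹ * k * b) = 1 := by
      rw [← mem_bot, ← hKW]
      refine ⟨K.mul_mem (K.inv_mem hk) ?_, ?_⟩
      · have := (mem_normalizer_iff.1 (hWK (W.inv_mem hbW)) k).1 hk
        rwa [inv_inv] at this
      · have h4 : (k : G)⁻¹ * (b⁻¹ * k * b) = (b * k)⁻¹ * (k * b) := by group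
        change _ ∈ W
        rw [h4]
        exact hZW h2
    refine ⟨hk, hle ⟨hk, mem_centralizer_singleton_iff.2 ?_⟩⟩
    calc (k : G) * b = b * k * ((k : G)⁻¹ * (b⁻¹ * k * b)) := by group
      _ = b * k := by rw [h3, mul_one]
  have hone : ∀ w : G, (hw : w ∈ L) → w ^ q ∈ Z →
      (f ⟨w, hw⟩) ^ q ∈ centralizer (K' : Set (L ⧸ Z.subgroupOf L)) := by
    intro w hw h
    have : f (⟨w, hw⟩ ^ q) = 1 := (QuotientGroup.eq_one_iff _).2 (by
      rw [mem_subgroupOf, SubmonoidClass.coe_pow]; exact h)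
    rw [← map_pow, this]
    exact one_mem _
  have h := CfsgLib.Coprime.le_of_centralizer_le hq hnorm
    ((hcop.coprime_dvd_left hdA).coprime_dvd_right hdK) (hqK.coprime_dvd_left hdK)
    (x := f ⟨x, hWZ hx⟩) (y := f ⟨y, hWZ hy⟩) (mem_map_of_mem f hx) (mem_map_of_mem f hy)
    (hone x _ hxq) (hone y _ hyq) (key y hy _ hRy) (fun i hi => by
      rw [← map_pow, ← map_mul]
      exact key (x * y ^ i) (W.mul_mem hx (W.pow_mem hy i)) _ (hRx i hi))
  intro k hk
  obtain ⟨r, ⟨hrK, hrR⟩, hre⟩ := h (mem_map_of_mem f (show (⟨k, hKZ hk⟩ : L) ∈ K.subgroupOf L from hk))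
  have h2 : (r : G)⁻¹ * k ∈ Z := mem_subgroupOf.1 ((QuotientGroup.eq (s := Z.subgroupOf L)).1 hre)
  have h3 : (r : G)⁻¹ * k = 1 := by
    rw [← mem_bot, ← hKW]
    exact ⟨K.mul_mem (K.inv_mem hrK) hk, hZW h2⟩
  rwa [← inv_mul_eq_one.1 h3]

end CfsgLib.FT.BG12
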