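import Cfsg.Agent.Lib.FT.BG12.TwoElem
import Cfsg.Agent.Lib.Coprime.Gaschutz

/-!
# Invariant complements in abelian groups, and lines of elementary groups of order `p²`
-/

set_option autoImplicit false
set_option linter.unusedSectionVars false
set_option linter.style.haveILetI false

open Subgroup Cfsg CfsgLib.Techniques

namespace CfsgLib.FT.BG12

variable {G : Type*} [Group G] [Finite G]

/-- A complemented invariant subgroup of an abelian group has an invariant complement under a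
coprime action. -/
theorem exists_invariant_compl {Z H K U : Subgroup G} [IsMulCommutative Z]
    (hKZ : K ≤ Z) (hUZ : U ≤ Z) (hUK : U ⊓ K = ⊥) (hKU : K ⊔ U = Z)
    (hHZ : H ≤ normalizer (Z : Set G)) (hHK : H ≤ normalizer (K : Set G))
    (hcop : (Nat.card H).Coprime (Nat.card Z)) :
    ∃ C : Subgroup G, C ≤ Z ∧ H ≤ normalizer (C : Set G) ∧ C ⊓ K = ⊥ ∧ K ⊔ C = Z ∧
      Nat.card C = Nat.card U := by
  set W := H ⊔ Z with hW
  have hZW : Z ≤ W := le_sup_right
  have hKW : K ≤ W := hKZ.trans hZW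
  have hZK : Z ≤ centralizer (K : Set G) :=
    (le_centralizer_iff_isMulCommutative.2 ‹_›).trans (centralizer_le hKZ)
  haveI hKn : (K.subgroupOf W).Normal :=
    normal_subgroupOf_of_le_normalizer (sup_le hHK (hZK.trans (centralizer_le_normalizer _)))
  haveI : IsMulCommutative (K.subgroupOf W) := ⟨⟨fun a b => Subtype.ext (Subtype.ext
    (congrArg (Subtype.val : Z → G) (mul_comm' (⟨(a : W), hKZ a.2⟩ : Z) ⟨(b : W), hKZ b.2⟩)))⟩⟩
  have hidx : (Z.subgroupOf W).index ∣ Nat.card H := by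
    have h1 := CfsgLib.Coprime.card_sup_mul_card_inf hHZ
    have h2 : Nat.card Z * (Z.subgroupOf W).index = Nat.card W := by
      rw [← CfsgLib.Base.card_subgroupOf hZW]
      exact (Z.subgroupOf W).card_mul_index
    rw [← hW, ← h2, mul_assoc, mul_comm (Nat.card H)] at h1
    exact ⟨_, (Nat.eq_of_mul_eq_mul_left Nat.card_pos h1).symm⟩
  obtain ⟨C₀, hC₀⟩ := CfsgLib.Coprime.gaschutz_exists (K.subgroupOf W) (Z.subgroupOf W)
    (fun x hx => hKZ hx)
    (by rw [CfsgLib.Base.card_subgroupOf hKW]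
        exact (hcop.symm.coprime_dvd_left (card_dvd_of_le hKZ)).coprime_dvd_right hidx)
    (U.subgroupOf W) (fun x hx => hUZ hx)
    (by rw [eq_bot_iff]
        intro x hx
        have : (x : G) ∈ U ⊓ K := hx
        rw [hUK, mem_bot] at this
        exact mem_bot.2 (Subtype.ext this))
    (by rw [← subgroupOf_sup hKW (hUZ.trans hZW), hKU])
  set C₁ := C₀.map W.subtype with hC₁
  set C := C₁ ⊓ Z with hC
  have hsup : K ⊔ C₁ = W := by
    have h := congrArg (Subgroup.map W.subtype) hC₀.sup_eq_top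
    rwa [Subgroup.map_sup, map_subgroupOf_eq_of_le hKW, ← MonoidHom.range_eq_map,
      range_subtype] at h
  have hCK : C ⊓ K = ⊥ := by
    rw [eq_bot_iff]
    rintro x ⟨⟨⟨y, hy, rfl⟩, -⟩, hx⟩
    have h : y ∈ K.subgroupOf W ⊓ C₀ := ⟨hx, hy⟩
    rw [hC₀.disjoint.eq_bot, mem_bot] at h
    rw [h]; exact one_mem _
  have hKC : K ⊔ C = Z := by
    refine le_antisymm (sup_le hKZ inf_le_right) fun z hz => ?_
    obtain ⟨⟨⟨a, ha⟩, ⟨b, hb⟩⟩, he⟩ := hC₀.2 ⟨z, hZW hz⟩
    have he' : (a : G) * b = z := congrArg Subtype.val he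
    rw [← he']
    refine mul_mem_sup ha ⟨⟨b, hb, rfl⟩, ?_⟩
    exact (Z.mul_mem_cancel_left (hKZ ha)).1 (he'.symm ▸ hz)
  refine ⟨C, inf_le_right, ?_, hCK, hKC, ?_⟩
  · refine (le_sup_left : H ≤ W).trans (hsup.symm.le.trans (sup_le ?_ ?_))
    · exact le_trans ((le_centralizer_iff_isMulCommutative.2 ‹_›).trans' hKZ)
        ((centralizer_le (inf_le_right : C ≤ Z)).trans (centralizer_le_normalizer _))
    · exact CfsgLib.Coprime.le_normalizer_inf_inf le_normalizer
        ((map_subtype_le C₀).trans (sup_le hHZ le_normalizer))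
  · have e1 := CfsgLib.Coprime.card_sup_of_inf_eq_bot
      ((le_centralizer_iff_isMulCommutative.2 ‹_›).trans'
        (inf_le_right : C ≤ Z) |>.trans ((centralizer_le hKZ).trans (centralizer_le_normalizer _))) hCK
    have e2 := CfsgLib.Coprime.card_sup_of_inf_eq_bot
      ((le_centralizer_iff_isMulCommutative.2 ‹_›).trans'
        hUZ |>.trans ((centralizer_le hKZ).trans (centralizer_le_normalizer _))) hUK
    rw [sup_comm, hKC] at e1
    rw [sup_comm, hKU] at e2
    exact Nat.eq_of_mul_eq_mul_right Nat.card_pos (e1.symm.trans e2)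

variable {p : ℕ} [hp : Fact p.Prime] {A : Subgroup G}

/-- There are `p + 1` lines. -/
theorem card_lines (hA : IsElementaryAbelian p A) (hA2 : Nat.card A = p ^ 2) :
    Nat.card {L : Subgroup G // L ≤ A ∧ Nat.card L = p} = p + 1 := by
  classical
  set Ln := {L : Subgroup G // L ≤ A ∧ Nat.card L = p}
  let F : (Σ L : Ln, {x : (L.1 : Subgroup G) // x ≠ 1}) → {a : A // a ≠ 1} := fun s =>
    ⟨⟨s.2.1, s.1.2.1 s.2.1.2⟩, fun e => s.2.2 (Subtype.ext (congrArg (Subtype.val : A → G) e))⟩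
  have hzp : ∀ (L : Ln) (x : (L.1 : Subgroup G)), x ≠ 1 → zpowers (x : G) = L.1 := fun L x hx => by
    refine eq_of_le_of_card_ge (zpowers_le.2 x.2) ?_
    rw [L.2.2, card_zpowers_of_mem hA (L.2.1 x.2) fun e => hx (Subtype.ext e)]
  have hF : Function.Bijective F := by
    refine ⟨?_, ?_⟩
    · rintro ⟨L, x, hx⟩ ⟨L', x', hx'⟩ he
      have hxx : (x : G) = x' := congrArg (fun a : {a : A // a ≠ 1} => ((a.1 : A) : G)) he
      have hL : L = L' := Subtype.ext (by rw [← hzp L x hx, hxx, hzp L' x' hx'])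
      subst hL
      cases Subtype.ext hxx
      rfl
    · rintro ⟨⟨a, ha⟩, ha1⟩
      have hc := card_zpowers_of_mem hA ha fun e => ha1 (Subtype.ext e)
      exact ⟨⟨⟨zpowers a, zpowers_le.2 ha, hc⟩, ⟨a, mem_zpowers a⟩,
        fun e => ha1 (Subtype.ext (congrArg (fun y : (zpowers a : Subgroup G) => (y : G)) e))⟩, rfl⟩
  have h := Nat.card_eq_of_bijective F hF
  haveI : Fintype Ln := Fintype.ofFinite Ln
  have hsub : ∀ (X : Type _) [Group X] [Finite X], Nat.card {x : X // x ≠ 1} = Nat.card X - 1 := by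
    intro X _ _
    haveI : Fintype X := Fintype.ofFinite X
    rw [Nat.card_eq_fintype_card, Nat.card_eq_fintype_card, Fintype.card_subtype_compl,
      Fintype.card_subtype_eq]
  rw [Nat.card_sigma, hsub A, hA2,
    Finset.sum_congr rfl (fun L _ => (hsub _).trans (by rw [L.2.2])), Finset.sum_const,
    Finset.card_univ, ← Nat.card_eq_fintype_card, smul_eq_mul] at h
  obtain ⟨m, rfl⟩ : ∃ m, p = m + 2 := ⟨p - 2, by have := hp.out.two_le; omega⟩
  rw [show (m + 2) ^ 2 - 1 = (m + 2 + 1) * (m + 2 - 1) by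
    rw [show m + 2 - 1 = m + 1 by omega, sq]; ring_nf; omega] at h
  exact Nat.eq_of_mul_eq_mul_right (by omega) h

/-- An `r`-subgroup without a fixed line has `r ∣ p + 1`. -/
theorem dvd_succ_of_no_fixed_line (hA : IsElementaryAbelian p A) (hA2 : Nat.card A = p ^ 2)
    {r : ℕ} [hr : Fact r.Prime] {R : Subgroup G} (hR : IsPGroup r R)
    (hRA : R ≤ normalizer (A : Set G))
    (hno : ∀ L : Subgroup G, L ≤ A → Nat.card L = p → ¬ R ≤ normalizer (L : Set G)) : r ∣ p + 1 := by
  set Ln := {L : Subgroup G // L ≤ A ∧ Nat.card L = p}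
  letI : MulAction R Ln :=
    { smul := fun g L => ⟨cj (g : G) L.1,
        (cj_mono L.2.1).trans (mem_normalizer_iff_cj.1 (hRA g.2)).le, (card_cj _ _).trans L.2.2⟩
      one_smul := fun L => Subtype.ext (cj_one L.1)
      mul_smul := fun g h L => Subtype.ext (cj_mul (g : G) (h : G) L.1) }
  have h := hR.card_modEq_card_fixedPoints Ln
  have h0 : Nat.card (MulAction.fixedPoints R Ln) = 0 := by
    rw [Nat.card_eq_zero]
    exact Or.inl ⟨fun L => hno L.1.1 L.1.2.1 L.1.2.2 fun g hg =>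
      mem_normalizer_iff_cj.2 (congrArg Subtype.val (L.2 ⟨g, hg⟩))⟩
  rw [card_lines hA hA2, h0] at h
  exact Nat.modEq_zero_iff_dvd.1 h

/-- With `r ∣ p + 1`, an `r`-element fixing a vector of `A` centralises `A`. -/
theorem mem_centralizer_of_fixed (hA : IsElementaryAbelian p A) (hA2 : Nat.card A = p ^ 2)
    {r : ℕ} [hr : Fact r.Prime] (hr2 : r ≠ 2) (hrp : r ≠ p) (hd : r ∣ p + 1) {w : G} {k : ℕ}
    (hw : orderOf w = r ^ k) (hwA : w ∈ normalizer (A : Set G)) {a : G} (ha : a ∈ A) (ha1 : a ≠ 1)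
    (hfix : w * a = a * w) : w ∈ centralizer (A : Set G) := by
  haveI := hA.1
  have hcop : (Nat.card (zpowers w)).Coprime (Nat.card A) := by
    rw [Nat.card_zpowers, hw, hA2]
    exact ((Nat.coprime_primes hr.out hp.out).2 hrp).pow k 2
  set L := zpowers a with hL
  have hLc := card_zpowers_of_mem hA ha ha1
  have hLA : L ≤ A := zpowers_le.2 ha
  have hwL : zpowers w ≤ normalizer (L : Set G) := by
    refine (zpowers_le.2 ?_).trans (centralizer_le_normalizer _)
    rw [hL, centralizer_zpowers, mem_centralizer_singleton_iff]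
    exact hfix
  obtain ⟨b, hb, hbL⟩ : ∃ b ∈ A, b ∉ L := SetLike.exists_of_lt (lt_of_le_of_ne hLA fun e => by
    have h1 := congrArg (fun X : Subgroup G => Nat.card X) e
    simp only [hL, hLc, hA2] at h1
    have := hp.out.two_le
    nlinarith) |>.imp fun b h => ⟨h.1, h.2⟩
  have hb1 : b ≠ 1 := fun e => hbL (e ▸ one_mem _)
  have hbc := card_zpowers_of_mem hA hb hb1
  have hdis : zpowers b ⊓ L = ⊥ := by
    by_contra h
    obtain ⟨q, hq, -, X, hX, hXc⟩ := CfsgLib.FT.BG13.exists_card_prime h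
    have hqp : q = p := (Nat.prime_dvd_prime_iff_eq hq hp.out).1
      (hbc ▸ hXc ▸ card_dvd_of_le (hX.trans inf_le_left))
    refine hbL (hX.trans inf_le_right ?_)
    rw [eq_of_le_of_card_ge (hX.trans inf_le_left) (by rw [hXc, hbc, hqp])]
    exact mem_zpowers b
  have hsup : L ⊔ zpowers b = A := by
    refine eq_of_le_of_card_ge (sup_le hLA (zpowers_le.2 hb)) ?_
    rw [sup_comm, CfsgLib.Coprime.card_sup_of_inf_eq_bot ((le_centralizer_iff_isMulCommutative.2
      ‹_› |>.trans' (zpowers_le.2 hb)).trans ((centralizer_le hLA).trans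
        (centralizer_le_normalizer _))) hdis, hbc, hLc, hA2, sq]
  obtain ⟨C, hCA, hCn, -, hLC, hCc⟩ := exists_invariant_compl hLA (zpowers_le.2 hb) hdis hsup
    (zpowers_le.2 hwA) hwL hcop
  rw [hbc] at hCc
  -- `w` centralises the complement
  have hwC : w ∈ centralizer (C : Set G) := by
    haveI : IsCyclic C := isCyclic_of_prime_card hCc
    set φ := (normalizerMonoidHom C).comp (inclusion hCn) with hφ
    have hd1 : orderOf (φ ⟨w, mem_zpowers w⟩) ∣ r ^ k :=
      (orderOf_map_dvd φ _).trans (by rw [Subgroup.orderOf_mk, hw])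
    have hd2 : orderOf (φ ⟨w, mem_zpowers w⟩) ∣ p - 1 := by
      refine (_root_.orderOf_dvd_natCard _).trans ?_
      rw [IsCyclic.card_mulAut, hCc, Nat.totient_prime hp.out]
    have hco : (r ^ k).Coprime (p - 1) := by
      refine Nat.Coprime.pow_left k ((hr.out.coprime_iff_not_dvd).2 fun h => hr2 ?_)
      have h2 : r ∣ (p + 1) - (p - 1) := Nat.dvd_sub hd h
      rw [show (p + 1) - (p - 1) = 2 by have := hp.out.two_le; omega] at h2
      exact (Nat.prime_dvd_prime_iff_eq hr.out Nat.prime_two).1 h2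
    have h1 : φ ⟨w, mem_zpowers w⟩ = 1 :=
      orderOf_eq_one_iff.1 (Nat.eq_one_of_dvd_coprimes hco hd1 hd2)
    refine mem_centralizer_iff.2 fun c hc => ?_
    have h2 : w * c * w⁻¹ = c :=
      congrArg (fun f : MulAut C => ((f ⟨c, hc⟩ : C) : G)) h1
    calc c * w = w * c * w⁻¹ * w := by rw [h2]
      _ = w * c := by group
  refine mem_centralizer_iff.2 fun x hx => ?_
  suffices h : A ≤ centralizer ({w} : Set G) from mem_centralizer_singleton_iff.1 (h hx)
  rw [← hLC]
  refine sup_le (zpowers_le.2 (mem_centralizer_singleton_iff.2 hfix.symm)) fun c hc => ?_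
  exact mem_centralizer_singleton_iff.2 (mem_centralizer_iff.1 hwC c hc)

end CfsgLib.FT.BG12
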