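import Cfsg.Agent.Lib.FT.BG12.Sigma
import Cfsg.Agent.Lib.FT.BG12.Generation
import Cfsg.Agent.Lib.FT.SylowNormalizer

/-!
# BG 12.13: nonabelian `p`-subgroups lie in a unique maximal subgroup
-/

set_option autoImplicit false
set_option linter.unusedSectionVars false
set_option linter.style.haveILetI false

open Subgroup Cfsg CfsgLib.OddOrder CfsgLib.Techniques
open scoped commutatorElement

namespace CfsgLib.FT.BG12

open CfsgLib.FT.BG13 (ne_bot_of_card_prime)

universe u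

variable {G : Type u} [Group G] [Finite G] {M H : Subgroup G} {p : ℕ}

/-- `M` is the only maximal subgroup over the normaliser of `X`. -/
def UniqN (M X : Subgroup G) : Prop :=
  normalizer (X : Set G) ≤ M ∧ ∀ L : Subgroup G, IsCoatom L → normalizer (X : Set G) ≤ L → L = M

theorem uniqN_cj (hM : IsCoatom M) {X : Subgroup G} {g : G} (hg : g ∈ M) (h : UniqN M X) :
    UniqN M (cj g X) := by
  have hN : normalizer ((cj g X : Subgroup G) : Set G) = cj g (normalizer (X : Set G)) :=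
    (cj_normalizer g X).symm
  refine ⟨?_, fun L hL hle => ?_⟩
  · rw [hN, ← cj_eq_self_of_mem hg]
    exact cj_mono h.1
  · rw [hN] at hle
    have h1 := h.2 (cj g⁻¹ L) (isCoatom_cj hL g⁻¹) (cj_inv_cj g (normalizer (X : Set G)) ▸ cj_mono hle)
    rw [← cj_cj_inv g L, h1, cj_eq_self_of_mem hg]

/-- `M_σ` is nilpotent when `M_α = 1`. -/
theorem isNilpotent_sigmaCore_of_alphaCore (h1403 : StmtS1403.{u}) (hG : IsMinSimpleOddOrder G)
    (hM : IsCoatom M) (hMα : alphaCore M = ⊥) : Group.IsNilpotent (sigmaCore M) := by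
  haveI := maximal_solvable hG hM
  set f := (QuotientGroup.mk' (piCore (alpha M) M)).comp (inclusion (sigmaCore_le M)) with hf
  have hinj : Function.Injective f := by
    rw [← MonoidHom.ker_eq_bot_iff, eq_bot_iff]
    intro x hx
    have h1 : inclusion (sigmaCore_le M) x ∈ piCore (alpha M) M := (QuotientGroup.eq_one_iff _).1 hx
    have h2 : (x : G) ∈ alphaCore M := ⟨_, h1, rfl⟩
    rw [hMα, mem_bot] at h2
    exact mem_bot.2 (Subtype.ext h2)
  have hrange : f.range ≤ (commutator M).map (QuotientGroup.mk' (piCore (alpha M) M)) := by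
    rintro _ ⟨x, rfl⟩
    have h1 : (x : G) ∈ (commutator M).map M.subtype := by
      rw [map_subtype_commutator]
      exact sigmaCore_le_derived h1403 hG hM x.2
    obtain ⟨y, hy, hyx⟩ := h1
    exact ⟨y, hy, congrArg (QuotientGroup.mk' _) (Subtype.ext hyx)⟩
  haveI := CfsgLib.Base.isNilpotent_of_le hrange
    (isNilpotent_derived_quotient (maximal_odd hG M) fun p hp h => ⟨hp, h⟩)
  exact Group.nilpotent_of_mulEquiv (MonoidHom.ofInjective hinj).symm

variable [hp' : Fact p.Prime]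

/-- `H = H_α N_H(T)` for a Sylow subgroup `T` with `p ∈ σ(H)`. -/
theorem exists_mul_normalizer (h1403 : StmtS1403.{u}) (hG : IsMinSimpleOddOrder G)
    (hH : IsCoatom H) (hp : p ∈ sigma H) {T : Subgroup G} (hT : SylIn p T H) :
    ∀ h ∈ H, ∃ a ∈ alphaCore H, ∃ b ∈ H ⊓ normalizer (T : Set G), h = a * b := by
  haveI := maximal_solvable hG hH
  set f := QuotientGroup.mk' (piCore (alpha H) H) with hf
  have hDn := isNilpotent_derived_quotient (α := alpha H) (maximal_odd hG H) fun q hq h => ⟨hq, h⟩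
  set D := (commutator H).map f with hD
  haveI hDnorm : D.Normal := (inferInstance : (commutator H).Normal).map f (QuotientGroup.mk'_surjective _)
  obtain ⟨S⟩ : Nonempty (Sylow p D) := inferInstance
  haveI := hDn
  haveI hSn : (S : Subgroup D).Normal :=
    S.normal_of_normalizerCondition Group.normalizerCondition_of_isNilpotent
  haveI := S.characteristic_of_normal hSn
  haveI hSs : Subsingleton (Sylow p D) := (Sylow.unique_of_normal S hSn).instSubsingleton
  haveI hSm : ((S : Subgroup D).map D.subtype).Normal := inferInstance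
  set N₀ : Subgroup H := ((S : Subgroup D).map D.subtype).comap f with hN₀
  set N := N₀.map H.subtype with hN
  have hNH : N ≤ H := map_subtype_le _
  have hnN : H ≤ normalizer (N : Set G) := by
    intro h hh
    rw [mem_normalizer_iff_cj]
    refine eq_of_le_of_card_ge ?_ (card_cj h N).ge
    rintro _ ⟨_, ⟨n, hn, rfl⟩, rfl⟩
    exact ⟨⟨h, hh⟩ * n * ⟨h, hh⟩⁻¹, (inferInstance : N₀.Normal).conj_mem n hn _, rfl⟩
  have hTD : ∀ t : H, (t : G) ∈ T → f t ∈ (S : Subgroup D).map D.subtype := by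
    intro t ht
    have h1 : t ∈ commutator H := by
      have h := sylIn_le_derived h1403 hG hH hp hT ht
      rw [← map_subtype_commutator] at h
      obtain ⟨w, hw, hwt⟩ := h
      rwa [← (Subtype.ext hwt : w = t)]
    have hfD : f t ∈ D := mem_map_of_mem f h1
    have hp2 : IsPGroup p (zpowers (⟨f t, hfD⟩ : D)) := by
      obtain ⟨k, hk⟩ := hT.isPGroup ⟨t, ht⟩
      have h2 : (⟨f t, hfD⟩ : D) ^ p ^ k = 1 := Subtype.ext (by
        have h3 : t ^ p ^ k = 1 := Subtype.ext (by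
          rw [SubmonoidClass.coe_pow, OneMemClass.coe_one]
          exact congrArg Subtype.val hk)
        rw [SubmonoidClass.coe_pow, ← map_pow, h3, map_one]; rfl)
      obtain ⟨i, -, hi⟩ := (Nat.dvd_prime_pow hp'.out).1 (orderOf_dvd_of_pow_eq_one h2)
      exact IsPGroup.of_card (n := i) (by rw [Nat.card_zpowers, hi])
    obtain ⟨S', hS'⟩ := hp2.exists_le_sylow
    exact ⟨⟨f t, hfD⟩, Subsingleton.elim S' S ▸ hS' (mem_zpowers _), rfl⟩
  have hTN : T ≤ N := fun t ht => ⟨⟨t, hT.le ht⟩, hTD ⟨t, hT.le ht⟩ ht, rfl⟩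
  have hαN : alphaCore H ≤ N := by
    rintro _ ⟨a, ha, rfl⟩
    refine ⟨a, ?_, rfl⟩
    rw [SetLike.mem_coe, hN₀, mem_comap]
    rw [show f a = 1 from (QuotientGroup.eq_one_iff a).2 ha]
    exact one_mem _
  have hsup : N ≤ T ⊔ alphaCore H := by
    refine relIndex_eq_one.1 (by_contra fun hne => ?_)
    obtain ⟨q, hq, hd⟩ := Nat.exists_prime_and_dvd hne
    have hd1 : q ∣ T.relIndex N := hd.trans (relIndex_dvd_of_le_left _ le_sup_left)
    have hd2 : q ∣ (alphaCore H).relIndex N := hd.trans (relIndex_dvd_of_le_left _ le_sup_right)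
    have hαeq : (alphaCore H).relIndex N = Nat.card ((S : Subgroup D).map D.subtype) := by
      rw [hN, alphaCore, relIndex_map_map_of_injective _ _ H.subtype_injective]
      have h := relIndex_comap (⊥ : Subgroup (H ⧸ piCore (alpha H) H)) f N₀
      rw [MonoidHom.comap_bot, QuotientGroup.ker_mk', map_comap_eq_self_of_surjective
        (QuotientGroup.mk'_surjective _), relIndex_bot_left] at h
      exact h
    rw [hαeq] at hd2
    have hqp : q = p := CfsgLib.FT.BG13.eq_of_dvd_card_pGroup (S.isPGroup'.map _) hq hd2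
    subst hqp
    exact (hT.mono hTN hNH).not_dvd hd1
  intro h hh
  obtain ⟨a, ha, c, hc, rfl⟩ := hT.frattini hNH hnN hh
  rw [inf_of_le_left hTN] at ha
  have hTn : T ≤ normalizer (alphaCore H : Set G) := hT.le.trans (le_normalizer_alphaCore H)
  obtain ⟨t, ht, x, hx, rfl⟩ := (CfsgLib.Coprime.mem_sup_iff_of_le_normalizer hTn).1 (hsup hc)
  exact ⟨t * x * t⁻¹, (mem_normalizer_iff.1 (hTn ht) x).1 hx, t * a,
    mul_mem ⟨hT.le ht, le_normalizer ht⟩ ha, by group⟩

theorem le_of_alphaCore_le (h1403 : StmtS1403.{u}) (hG : IsMinSimpleOddOrder G) (hH : IsCoatom H)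
    (hp : p ∈ sigma H) {T : Subgroup G} (hT : SylIn p T H) (hTM : normalizer (T : Set G) ≤ M)
    (hα : alphaCore H ≤ M) : H ≤ M := fun h hh => by
  obtain ⟨a, ha, b, hb, rfl⟩ := exists_mul_normalizer h1403 hG hH hp hT h hh
  exact mul_mem (hα ha) (hTM hb.2)

/-- The shape of a nonabelian Sylow subgroup of rank two used below. -/
structure P1Data (p : ℕ) (P₁ Z₀ T : Subgroup G) : Prop where
  le : P₁ ≤ T
  pow : ∀ a ∈ P₁, a ^ p = 1
  zle : Z₀ ≤ P₁
  zcard : Nat.card Z₀ = p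
  zcent : T ≤ centralizer (Z₀ : Set G)
  comm : ∀ a ∈ P₁, ∀ b ∈ P₁, ⁅a, b⁆ ∈ Z₀
  mem_of_comm : ∀ a ∈ P₁, (∀ b ∈ P₁, b * a = a * b) → a ∈ Z₀
  nab : ¬ IsMulCommutative P₁

theorem exists_P1Data (U : Up.{u}) (hG : IsMinSimpleOddOrder G) {T : Subgroup G}
    (hT : SylIn p T ⊤) (hr : PRankLE p 2 T) (hna : ¬ IsMulCommutative T) :
    ∃ P₁ Z₀ : Subgroup G, P1Data p P₁ Z₀ T := by
  obtain ⟨S, rfl⟩ := hT.to_sylow
  obtain ⟨P₁, P₂, e1, e2, e3, e4, e5, e6, e7⟩ := (U.s1412 hG p S hr).resolve_left hna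
  set Z₀ := P₁ ⊓ centralizer (P₁ : Set G) with hZ
  have hP₁ : P₁ ≤ (S : Subgroup G) := e1 ▸ le_sup_left
  have hpow : ∀ a ∈ P₁, a ^ p = 1 := fun a ha => by
    have h := Monoid.pow_exponent_eq_one (⟨a, ha⟩ : P₁)
    rw [e5] at h
    exact congrArg Subtype.val h
  have hZ2 : Z₀ ≤ P₂ := e7 ▸ (closure_le _).2 fun x hx => hx.1
  have hcyc : IsCyclic Z₀ :=
    haveI := e6
    isCyclic_of_injective (inclusion hZ2) (inclusion_injective _)
  have hcc := commutator_eq_center_of_card_cube e4 e3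
  have hmem : ∀ a, (ha : a ∈ P₁) → (a ∈ Z₀ ↔ (⟨a, ha⟩ : P₁) ∈ center P₁) := fun a ha =>
    ⟨fun h => mem_center_iff.2 fun w => Subtype.ext (mem_centralizer_iff.1 h.2 w w.2),
      fun h => ⟨ha, mem_centralizer_iff.2 fun w hw =>
        congrArg Subtype.val (mem_center_iff.1 h ⟨w, hw⟩)⟩⟩
  refine ⟨P₁, Z₀, hP₁, hpow, inf_le_left, ?_, ?_, ?_, ?_, e3⟩
  · haveI : Nontrivial P₁ := Finite.one_lt_card_iff_nontrivial.1
      (e4 ▸ Nat.one_lt_pow (by norm_num) hp'.out.one_lt)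
    haveI := (IsPGroup.of_card e4).center_nontrivial
    obtain ⟨c, hc⟩ := exists_ne (1 : center P₁)
    obtain ⟨g, hg⟩ := hcyc.exists_generator
    have hgp : orderOf g ∣ p := orderOf_dvd_of_pow_eq_one (Subtype.ext (hpow g g.2.1))
    rcases (Nat.dvd_prime hp'.out).1 hgp with h | h
    · exfalso
      have h1 : Nat.card Z₀ = 1 := (orderOf_eq_card_of_forall_mem_zpowers hg).symm.trans h
      refine hc (Subtype.ext (Subtype.ext ?_))
      have h2 := (hmem _ (c : P₁).2).2 (Subtype.eta (c : P₁) _ ▸ c.2)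
      rw [eq_bot_of_card_eq _ h1, mem_bot] at h2
      exact h2
    · exact (orderOf_eq_card_of_forall_mem_zpowers hg).symm.trans h
  · rw [← e1]
    exact sup_le (fun a ha => mem_centralizer_iff.2 fun z hz => (mem_centralizer_iff.1 hz.2 a ha).symm)
      (fun b hb => mem_centralizer_iff.2 fun z hz => e2 z hz.1 b hb)
  · intro a ha b hb
    refine (hmem _ (commutator_le_self P₁ (commutator_mem_commutator ha hb))).2 ?_
    rw [← hcc]
    exact commutator_mem_commutator (mem_top (⟨a, ha⟩ : P₁)) (mem_top (⟨b, hb⟩ : P₁))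
  · exact fun a ha h => ⟨ha, mem_centralizer_iff.2 h⟩

section
variable {P₁ Z₀ T : Subgroup G}

theorem P1Data.sup_elementary (d : P1Data p P₁ Z₀ T) {y : G} (hy : y ∈ P₁) (hy0 : y ∉ Z₀) :
    IsElementaryAbelian p (Z₀ ⊔ zpowers y) ∧ Nat.card ↥(Z₀ ⊔ zpowers y) = p ^ 2 := by
  have hZc : IsMulCommutative Z₀ := by
    haveI := isCyclic_of_prime_card d.zcard
    letI := IsCyclic.commGroup (α := Z₀)
    exact ⟨⟨mul_comm⟩⟩
  have hZe : IsElementaryAbelian p Z₀ := ⟨hZc, fun a ha => d.pow a (d.zle ha)⟩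
  have hc : zpowers y ≤ centralizer (Z₀ : Set G) := zpowers_le.2 (d.zcent (d.le hy))
  have hye : orderOf y = p := orderOf_eq_prime (d.pow y hy) fun e => hy0 (e ▸ one_mem _)
  refine ⟨CfsgLib.Base.isElementaryAbelian_sup hZe
    (CfsgLib.Base.isElementaryAbelian_zpowers (d.pow y hy))
    (CfsgLib.Base.le_centralizer_comm.1 hc), ?_⟩
  have h0 : zpowers y ⊓ Z₀ = ⊥ := by
    by_contra h
    obtain ⟨q, hq, hqd, Y, hY, hYc⟩ := CfsgLib.FT.BG13.exists_card_prime h
    refine hy0 (((eq_of_le_of_card_ge (hY.trans inf_le_left) ?_) ▸ (hY.trans inf_le_right))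
      (mem_zpowers y))
    have hqp : q = p := (Nat.prime_dvd_prime_iff_eq hq hp'.out).1
      (d.zcard ▸ hYc ▸ card_dvd_of_le (hY.trans inf_le_right))
    rw [Nat.card_zpowers, hye, hYc, hqp]
  rw [sup_comm, CfsgLib.Coprime.card_sup_of_inf_eq_bot
    (hc.trans (centralizer_le_normalizer _)) h0, Nat.card_zpowers, hye, d.zcard, sq]

theorem P1Data.exists_noncomm (d : P1Data p P₁ Z₀ T) {y : G} (hy : y ∈ P₁) (hy0 : y ∉ Z₀) :
    ∃ x ∈ P₁, x * y ≠ y * x := by
  by_contra h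
  push Not at h
  exact hy0 (d.mem_of_comm y hy h)

/-- The lines of `Z₀ ⟨y⟩` other than `Z₀` are conjugate under `P₁`. -/
theorem P1Data.exists_conj (d : P1Data p P₁ Z₀ T) {y a : G} (hy : y ∈ P₁) (hy0 : y ∉ Z₀)
    (ha : a ∈ Z₀ ⊔ zpowers y) (ha0 : a ∉ Z₀) :
    ∃ g ∈ P₁, cj g (zpowers y) = zpowers a := by
  rw [sup_comm] at ha
  obtain ⟨b, hb, z, hz, rfl⟩ := (CfsgLib.Coprime.mem_sup_iff_of_le_normalizer
    ((zpowers_le.2 (d.zcent (d.le hy))).trans (centralizer_le_normalizer _))).1 ha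
  have hb0 : b ∉ Z₀ := fun h => ha0 (mul_mem h hz)
  have hbP : b ∈ P₁ := zpowers_le.2 hy hb
  have hzy : zpowers b = zpowers y := by
    refine eq_of_le_of_card_ge (zpowers_le.2 hb) ?_
    rw [Nat.card_zpowers, Nat.card_zpowers,
      orderOf_eq_prime (d.pow y hy) fun e => hy0 (e ▸ one_mem _),
      orderOf_eq_prime (d.pow b hbP) fun e => hb0 (e ▸ one_mem _)]
  obtain ⟨x, hx, hxb⟩ := d.exists_noncomm hbP hb0
  have hw : ⁅x, b⁆ ∈ Z₀ := d.comm x hx b hbP
  have hgen : zpowers ⁅x, b⁆ = Z₀ := by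
    refine eq_of_le_of_card_ge (zpowers_le.2 hw) ?_
    rw [Nat.card_zpowers, orderOf_eq_prime (d.pow _ (d.zle hw))
      fun e => hxb (commutatorElement_eq_one_iff_mul_comm.1 e), d.zcard]
  obtain ⟨i, hi⟩ := mem_powers_iff_mem_zpowers.2 (hgen.symm ▸ hz : z ∈ zpowers ⁅x, b⁆)
  have hcw : ∀ c ∈ P₁, c * ⁅x, b⁆ = ⁅x, b⁆ * c := fun c hc =>
    (mem_centralizer_iff.1 (d.zcent (d.le hc)) _ hw).symm
  have hpow : ∀ j : ℕ, x ^ j * b * (x ^ j)⁻¹ = b * ⁅x, b⁆ ^ j := by
    intro j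
    induction j with
    | zero => simp
    | succ j ih =>
      have h1 : x * b * x⁻¹ = b * ⁅x, b⁆ := by
        rw [hcw b hbP, commutatorElement_def]; group
      have h2 : Commute x (⁅x, b⁆ ^ j) := (show Commute x ⁅x, b⁆ from hcw x hx).pow_right j
      calc x ^ (j + 1) * b * (x ^ (j + 1))⁻¹ = x * (x ^ j * b * (x ^ j)⁻¹) * x⁻¹ := by
            rw [pow_succ']; group
        _ = (x * b) * (⁅x, b⁆ ^ j * x⁻¹) := by rw [ih]; group
        _ = (x * b) * (x⁻¹ * ⁅x, b⁆ ^ j) := by rw [(h2.inv_left).eq]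
        _ = (x * b * x⁻¹) * ⁅x, b⁆ ^ j := by group
        _ = b * ⁅x, b⁆ ^ (j + 1) := by rw [h1, pow_succ', mul_assoc]
  refine ⟨x ^ i, pow_mem hx i, ?_⟩
  rw [← hzy, cj, MonoidHom.map_zpowers]
  congr 1
  show x ^ i * b * (x ^ i)⁻¹ = b * z
  rw [hpow]
  exact congrArg (b * ·) hi

/-- 12.3 for a line without unique maximal subgroup over its normaliser. -/
theorem alphaCore_inf_centralizer_le (U : Up.{u}) (hG : IsMinSimpleOddOrder G) (hH : IsCoatom H)
    (hp : p ∉ alpha H) {A L : Subgroup G} (hAH : A ≤ H) (hA : IsElementaryAbelian p A)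
    (hA2 : Nat.card A = p ^ 2) (hLA : L ≤ A) (hL : Nat.card L = p) (hu : ¬ UniqN H L) :
    alphaCore H ⊓ centralizer (L : Set G) ≤ centralizer (A : Set G) := by
  obtain ⟨L', hL', hNL, hne⟩ := exists_other_maximal hG (ne_bot_of_card_prime hL)
    (ne_top_of_le_maximal hH (hLA.trans hAH)) hu
  refine le_trans (le_inf inf_le_left ?_) (CfsgLib.Base.le_centralizer_comm.1
    ((cent_inter U hG hH hL' hne hAH hA hA2 hLA hL hNL).2 hp))
  exact inf_le_right.trans ((centralizer_le_normalizer _).trans hNL)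

/-- The generation step of 12.13. -/
theorem alphaCore_le_or (U : Up.{u}) (hG : IsMinSimpleOddOrder G) (hM : IsCoatom M)
    (hH : IsCoatom H) (hne : M ≠ H) (hTM : T ≤ M) (hTH : T ≤ H) (d : P1Data p P₁ Z₀ T)
    (hpM : p ∉ alpha M) (hpH : p ∉ alpha H) (hz : ¬ UniqN H Z₀) :
    alphaCore H ≤ M ∨ alphaCore M ≤ H := by
  have hZT : Z₀ ≤ T := d.zle.trans d.le
  have hle : ∀ y ∈ P₁, Z₀ ⊔ zpowers y ≤ T := fun y hy => sup_le hZT (zpowers_le.2 (d.le hy))
  have hline : ∀ a ∈ P₁, a ∉ Z₀ → Nat.card (zpowers a) = p := fun a ha ha0 => by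
    rw [Nat.card_zpowers, orderOf_eq_prime (d.pow a ha) fun e => ha0 (e ▸ one_mem _)]
  have hzp : ∀ a ∈ Z₀, a ≠ 1 → centralizer ({a} : Set G) = centralizer (Z₀ : Set G) := by
    intro a ha ha1
    rw [← centralizer_zpowers a]
    congr 2
    refine eq_of_le_of_card_ge (zpowers_le.2 ha) ?_
    rw [d.zcard, Nat.card_zpowers, orderOf_eq_prime (d.pow a (d.zle ha)) ha1]
  have hgen : ∀ {L R : Subgroup G}, IsCoatom L → T ≤ L → p ∉ alpha L → ∀ y ∈ P₁, y ∉ Z₀ →
      (∀ a ∈ Z₀ ⊔ zpowers y, a ∉ Z₀ → alphaCore L ⊓ centralizer ({a} : Set G) ≤ R) →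
      alphaCore L ⊓ centralizer (Z₀ : Set G) ≤ R → alphaCore L ≤ R := by
    intro L R hL hTL hpL y hy hy0 h1 h2
    obtain ⟨hA, hA2⟩ := d.sup_elementary hy hy0
    haveI := hA.1
    refine CfsgLib.Coprime.le_of_centralizer_le_of_not_isCyclic (not_isCyclic_of_sq hA hA2)
      (((hle y hy).trans hTL).trans (le_normalizer_alphaCore L))
      (coprime_card_of_not_dvd (CfsgLib.Base.isPGroup_of_isElementaryAbelian hA)
        (not_dvd_alphaCore hpL)) fun a ha ha1 => ?_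
    by_cases ha0 : a ∈ Z₀
    · rw [hzp a ha0 ha1]; exact h2
    · exact h1 a ha ha0
  by_cases hy : ∃ y ∈ P₁, y ∉ Z₀ ∧ ∀ a ∈ Z₀ ⊔ zpowers y, a ∉ Z₀ → ¬ UniqN H (zpowers a)
  · obtain ⟨y, hy1, hy0, hall⟩ := hy
    obtain ⟨hA, hA2⟩ := d.sup_elementary hy1 hy0
    refine Or.inl (le_trans (hgen hH hTH hpH y hy1 hy0 (fun a ha ha0 => ?_) ?_)
      (centralizer_le_maximal U hG hM ((hle y hy1).trans hTM) hA hA2))
    · rw [← centralizer_zpowers a]
      exact alphaCore_inf_centralizer_le U hG hH hpH ((hle y hy1).trans hTH) hA hA2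
        (zpowers_le.2 ha) (hline a (sup_le d.zle (zpowers_le.2 hy1) ha) ha0) (hall a ha ha0)
    · exact alphaCore_inf_centralizer_le U hG hH hpH ((hle y hy1).trans hTH) hA hA2
        le_sup_left d.zcard hz
  push Not at hy
  refine Or.inr ?_
  -- every line outside `Z₀` has its normaliser in `H` alone
  have hnu : ∀ y ∈ P₁, y ∉ Z₀ → ¬ UniqN M (zpowers y) := by
    intro y hy1 hy0 hu
    obtain ⟨a, ha, ha0, hua⟩ := hy y hy1 hy0
    obtain ⟨g, hg, he⟩ := d.exists_conj hy1 hy0 ha ha0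
    have := uniqN_cj hM (hTM (d.le hg)) hu
    rw [he] at this
    exact hne ((this.2 H hH hua.1).symm)
  have hcent : ∀ y ∈ P₁, y ∉ Z₀ →
      alphaCore M ⊓ centralizer ({y} : Set G) ≤ centralizer ((Z₀ ⊔ zpowers y : Subgroup G) : Set G) := by
    intro y hy1 hy0
    obtain ⟨hA, hA2⟩ := d.sup_elementary hy1 hy0
    rw [← centralizer_zpowers y]
    exact alphaCore_inf_centralizer_le U hG hM hpM ((hle y hy1).trans hTM) hA hA2 le_sup_right
      (hline y hy1 hy0) (hnu y hy1 hy0)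
  -- `M_α` centralises `Z₀`
  obtain ⟨y, hy1, hy0⟩ : ∃ y ∈ P₁, y ∉ Z₀ := by
    by_contra h
    push Not at h
    refine d.nab ⟨⟨fun a b => Subtype.ext ?_⟩⟩
    exact (mem_centralizer_iff.1 (d.zcent (d.le b.2)) a (h a a.2))
  obtain ⟨x, hx, hxy⟩ := d.exists_noncomm hy1 hy0
  have hMZ : alphaCore M ≤ centralizer (Z₀ : Set G) := hgen hM hTM hpM y hy1 hy0
    (fun a ha ha0 => (hcent a (sup_le d.zle (zpowers_le.2 hy1) ha) ha0).trans
      (centralizer_le (SetLike.coe_subset_coe.2 le_sup_left))) inf_le_right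
  have hH' : ∀ w ∈ P₁, w ∉ Z₀ → alphaCore M ⊓ centralizer ({w} : Set G) ≤ H := fun w hw hw0 =>
    (hcent w hw hw0).trans (centralizer_le_maximal U hG hH ((hle w hw).trans hTH)
      (d.sup_elementary hw hw0).1 (d.sup_elementary hw hw0).2)
  have hP1p : IsPGroup p P₁ := fun a => ⟨1, Subtype.ext (by simpa using d.pow a a.2)⟩
  refine le_of_centralizer_le_mod hp'.out (Z := Z₀) (W := P₁) (d.le.trans d.zcent) hMZ d.zle
    ((d.le.trans hTM).trans (le_normalizer_alphaCore M))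
    (coprime_card_of_not_dvd hP1p (not_dvd_alphaCore hpM))
    ((hp'.out.coprime_iff_not_dvd.2 (not_dvd_alphaCore hpM)).symm)
    (commutator_le.2 d.comm) hx hy1 (d.pow x hx ▸ one_mem _) (d.pow y hy1 ▸ one_mem _)
    (hH' y hy1 hy0) fun i _ => hH' _ (mul_mem hx (pow_mem hy1 i)) fun hin => ?_
  have h1 : y * (x * y ^ i) = x * y ^ i * y :=
    (mem_centralizer_iff.1 (d.zcent (d.le hy1)) _ hin).symm
  refine hxy (mul_right_cancel (b := y ^ i) ?_)
  calc x * y * y ^ i = x * y ^ i * y := by rw [mul_assoc, mul_assoc, ← pow_succ', pow_succ]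
    _ = y * (x * y ^ i) := h1.symm
    _ = y * x * y ^ i := (mul_assoc _ _ _).symm

end

/-- BG 12.13. -/
theorem inUniqueMaximal_of_nonabelian (U : Up.{u}) (hG : IsMinSimpleOddOrder G) {P : Subgroup G}
    (hP : IsPGroup p P) (hna : ¬ IsMulCommutative P) : InUniqueMaximal P := by
  have hPt : P ≠ ⊤ := isPGroup_ne_top hG hP
  by_cases hr : PRankLE p 2 P
  swap
  · exact inUniqueMaximal_of_pRank U.s1403 hG hp'.out hPt hr
  have hPc : ¬ IsCyclic P := fun h => hna (by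
    letI := h.commGroup; exact ⟨⟨mul_comm⟩⟩)
  obtain ⟨M, hM, hPM⟩ := exists_maximal_ge hPt
  refine ⟨M, ⟨hM, hPM⟩, fun H ⟨hH, hPH⟩ => ?_⟩
  by_contra hne
  have hσ : ∀ {L : Subgroup G}, IsCoatom L → P ≤ L → p ∈ sigma L := fun {L} hL hPL => by
    by_contra h
    exact hna (isMulCommutative_of_not_sigma U hG hL h hP hPL)
  have hpM := hσ hM hPM
  have hpH := hσ hH hPH
  obtain ⟨A, hAP, hA, hA2⟩ := exists_sq_of_not_isCyclic hG hP hPc
  have hA1 : A ≠ ⊥ := fun e => hp'.out.ne_one (by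
    rw [e, card_bot] at hA2; exact ((pow_eq_one_iff).1 hA2.symm).resolve_right two_ne_zero)
  have hnc : ∀ g : G, H ≠ cj g M := fun g e => hne (e.trans (cj_eq_of_centralizer_le U.s1403 hG hM
    hpM (hP.to_le hAP) hA1 (hAP.trans hPM)
    (centralizer_le_maximal U hG hM (hAP.trans hPM) hA hA2) (hAP.trans (e ▸ hPH))))
  have hdM := U.disjoint hG M H hM hH hnc
  have hdH := U.disjoint hG H M hH hM (not_conj_symm hnc)
  have hαM : p ∉ alpha M := fun h => hdM.2.1 p h hpH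
  have hαH : p ∉ alpha H := fun h => hdH.2.1 p h hpM
  obtain ⟨T, hT, hPT⟩ := exists_sylIn_ge (p := p) hP (le_inf hPM hPH)
  have hTna : ¬ IsMulCommutative T := fun h => hna ⟨⟨fun a b => Subtype.ext
    (congrArg (Subtype.val : T → G) (h.is_comm.comm ⟨a, hPT a.2⟩ ⟨b, hPT b.2⟩))⟩⟩
  have hTc : ¬ IsCyclic T := fun h => hTna (by
    letI := h.commGroup; exact ⟨⟨mul_comm⟩⟩)
  have hTM : T ≤ M := hT.le.trans inf_le_left
  have hTH : T ≤ H := hT.le.trans inf_le_right
  have hNM := normalizer_le_of_not_isCyclic U hG hM hpM hT.isPGroup hTM hTc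
  have hNH := normalizer_le_of_not_isCyclic U hG hH hpH hT.isPGroup hTH hTc
  obtain ⟨T₁, hT₁, hle⟩ := exists_sylIn_ge (p := p) hT.isPGroup (le_top : T ≤ ⊤)
  have heq : T = T₁ := by
    by_contra hn
    have h := lt_inf_normalizer' hT₁.isPGroup (lt_of_le_of_ne hle hn)
    exact h.ne (hT.eq_of_le (hT₁.isPGroup.to_le inf_le_left) h.le
      (inf_le_right.trans (le_inf hNM hNH))).symm
  subst heq
  have hTsM : SylIn p T M := hT₁.mono hTM le_top
  have hTsH : SylIn p T H := hT₁.mono hTH le_top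
  have hT2 : PRankLE p 2 T := (pRankLE_iff_sylIn hTsM).1 (by
    by_contra h
    exact hαM ⟨hp'.out, h⟩)
  obtain ⟨P₁, Z₀, d⟩ := exists_P1Data U hG hT₁ hT2 hTna
  have hor : alphaCore H ≤ M ∨ alphaCore M ≤ H := by
    by_cases hz : UniqN H Z₀
    · exact (alphaCore_le_or U hG hH hM hne hTH hTM d hαH hαM fun h =>
        hne (h.2 H hH hz.1)).symm
    · exact alphaCore_le_or U hG hM hH (Ne.symm hne) hTM hTH d hαM hαH hz
  rcases hor with h | h
  · exact hne ((hH.le_iff.1 (le_of_alphaCore_le U.s1403 hG hH hpH hTsH hNM h)).resolve_left hM.1).symm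
  · exact hne ((hM.le_iff.1 (le_of_alphaCore_le U.s1403 hG hM hpM hTsM hNH h)).resolve_left hH.1)

/-- BG 12.13 in the shape of row S1422. -/
theorem stmtS1422_of (U : Up.{u}) : StmtS1422.{u} :=
  fun hG _ _ _ hP hna => inUniqueMaximal_of_nonabelian U hG hP hna

end CfsgLib.FT.BG12
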