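import Cfsg.Agent.Lib.FT.BG12.RegularCyclic
import Cfsg.Agent.Lib.Coprime.Hall

/-!
# BG 12.11: a subgroup of `E` of the same exponent acting freely on `M_σ`
-/

set_option autoImplicit false
set_option linter.unusedSectionVars false
set_option linter.style.haveILetI false

open Subgroup Cfsg CfsgLib.OddOrder CfsgLib.Techniques
open scoped commutatorElement Pointwise

namespace CfsgLib.FT.BG12

universe u

variable {G : Type u} [Group G] [Finite G] {M E A : Subgroup G}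

/-- The hypothesis of BG 12.11. -/
def FreeTau13 (M E : Subgroup G) : Prop :=
  ∀ e ∈ E, e ≠ 1 → (∀ p : ℕ, p.Prime → p ∣ orderOf e → p ∈ Cfsg.tau1 M ∪ Cfsg.tau3 M) →
    Cfsg.sigmaCore M ⊓ Subgroup.centralizer ({e} : Set G) = ⊥

theorem FreeTau13.of_prime (h : FreeTau13 M E) (h1403 : StmtS1403.{u}) (hG : IsMinSimpleOddOrder G)
    (hM : IsCoatom M) (hE : IsComplIn E (sigmaCore M) M) {r : ℕ} (hr : r.Prime) (hr2 : r ∉ tau2 M)
    {f : G} (hf : f ∈ E) (hf1 : f ≠ 1) {k : ℕ} (hfk : f ^ r ^ k = 1) :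
    sigmaCore M ⊓ centralizer ({f} : Set G) = ⊥ := by
  refine h f hf hf1 fun q hq hd => ?_
  have hqr : q = r := (Nat.prime_dvd_prime_iff_eq hq hr).1
    (hq.dvd_of_dvd_pow (hd.trans (orderOf_dvd_of_pow_eq_one hfk)))
  subst hqr
  rcases tau_of_dvd_compl h1403 hG hM hE hq (hd.trans (Subgroup.orderOf_dvd_natCard E hf))
    with h | h | h
  · exact Or.inl h
  · exact absurd h hr2
  · exact Or.inr h

/-- Freeness only has to be checked on elements of order in `τ₂(M)`. -/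
theorem free_of_prime_order (h : FreeTau13 M E) (h1403 : StmtS1403.{u}) (hG : IsMinSimpleOddOrder G)
    (hM : IsCoatom M) (hE : IsComplIn E (sigmaCore M) M) {E₀ : Subgroup G} (hle : E₀ ≤ E)
    (h2 : ∀ q ∈ tau2 M, ∀ x ∈ E₀, orderOf x = q → sigmaCore M ⊓ centralizer ({x} : Set G) = ⊥) :
    ∀ e ∈ E₀, e ≠ 1 → sigmaCore M ⊓ centralizer ({e} : Set G) = ⊥ := by
  intro e he he1
  obtain ⟨q, hq, hd⟩ := Nat.exists_prime_and_dvd fun h0 => he1 (orderOf_eq_one_iff.1 h0)
  have hxo : orderOf (e ^ (orderOf e / q)) = q := orderOf_pow_orderOf_div (orderOf_pos e).ne' hd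
  set x := e ^ (orderOf e / q) with hx
  have hxE : x ∈ E₀ := pow_mem he _
  refine le_bot_iff.1 (le_trans (inf_le_inf_left (sigmaCore M) (fun y hy =>
    mem_centralizer_singleton_iff.2
      ((show Commute y e from mem_centralizer_singleton_iff.1 hy).pow_right _).eq))
    (le_of_eq (b := ⊥) (a := sigmaCore M ⊓ centralizer ({x} : Set G)) ?_))
  by_cases hq2 : q ∈ tau2 M
  · exact h2 q hq2 x hxE hxo
  · exact h.of_prime h1403 hG hM hE hq hq2 (hle hxE)
      (fun e0 => hq.ne_one (hxo.symm.trans (orderOf_eq_one_iff.2 e0)))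
      (k := 1) (by rw [pow_one]; exact hxo ▸ pow_orderOf_eq_one x)

/-- The exponent is detected on elements of prime-power order. -/
theorem exponent_eq_of_primary {E₀ : Subgroup G} (hle : E₀ ≤ E)
    (h : ∀ q : ℕ, q.Prime → ∀ z ∈ E, ∀ k, orderOf z = q ^ k → z ^ Monoid.exponent E₀ = 1) :
    Monoid.exponent E₀ = Monoid.exponent E := by
  refine Nat.dvd_antisymm (Monoid.exponent_dvd_of_monoidHom (inclusion hle) (inclusion_injective hle))
    (Monoid.exponent_dvd_of_forall_pow_eq_one fun e => ?_)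
  refine orderOf_dvd_iff_pow_eq_one.1 ((Nat.dvd_iff_prime_pow_dvd_dvd _ _).2 fun q k hq hd => ?_)
  rw [← Subgroup.orderOf_coe] at hd
  have ho : orderOf ((e : G) ^ (orderOf (e : G) / q ^ k)) = q ^ k :=
    orderOf_pow_orderOf_div (orderOf_pos _).ne' hd
  exact ho ▸ orderOf_dvd_of_pow_eq_one (h q hq _ (pow_mem e.2 _) k ho)

namespace Elem

variable {p : ℕ} [hp' : Fact p.Prime]

/-- BG 12.11 when the Sylow subgroups for `τ₂(M)` are nonabelian. -/
theorem exists_regular_nonabelian (d : Elem p M E A) (U : Up.{u}) (hG : IsMinSimpleOddOrder G)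
    (hna : ∀ S : Sylow p G, ¬ IsMulCommutative (S : Subgroup G)) (h : FreeTau13 M E) :
    ∃ E₀ : Subgroup G, E₀ ≤ E ∧ Monoid.exponent E₀ = Monoid.exponent E ∧
      ∀ e ∈ E₀, e ≠ 1 → sigmaCore M ⊓ centralizer ({e} : Set G) = ⊥ := by
  haveI := d.elem.1
  have hfl := d.fixed_line U hG hna
  set A₀ := A ⊓ centralizer (sigmaCore M : Set G) with hA₀
  have hA₀E : A₀ ≤ E := inf_le_left.trans d.le
  have hdec : ∀ X : Subgroup G, IsPGroup p X → X ≤ E →
      ∃ Y T : Subgroup G, Y ≤ T ∧ T ≤ E ∧ IsPGroup p T ∧ X ≤ T ∧ A₀ ⊓ Y = ⊥ ∧ A₀ ⊔ Y = T ∧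
        Y ≤ centralizer (A : Set G) := by
    intro X hX hXE
    obtain ⟨S, Z₀, Y, hAS, hXS, hZA, hZc, hZS, -, -, hY, hd, -⟩ := d.exists_structure U hG hna hX hXE
    have hne : A₀ ≠ Z₀ := by
      intro e
      refine hna S (isMulCommutative_of_not_sigma U hG d.max d.sigma S.isPGroup' (hZS.trans ?_))
      refine (d.fixed_unique U hG hZA (CfsgLib.FT.BG13.ne_bot_of_card_prime hZc) ?_).1
      rw [inf_eq_left.2 (CfsgLib.Base.le_centralizer_comm.1 (e ▸ inf_le_right))]
      exact sigmaCore_ne_bot U.s1403 hG d.max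
    obtain ⟨h1, h2⟩ := hd A₀ inf_le_left hfl.1 hne
    exact ⟨Y, (S : Subgroup G) ⊓ centralizer (A : Set G), hY,
      inf_le_right.trans (d.centralizer_le U hG), S.isPGroup'.to_le inf_le_left, hXS, h1, h2,
      hY.trans inf_le_right⟩
  have hEA : E ≤ normalizer (A₀ : Set G) := CfsgLib.Coprime.le_normalizer_inf_inf (d.normal U hG)
    (d.compl.1.trans (CfsgLib.Coprime.le_normalizer_centralizer (le_normalizer_sigmaCore M)))
  obtain ⟨T, hT⟩ := exists_sylIn (p := p) E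
  obtain ⟨Y, T₁, hYT₁, hT₁E, hT₁p, hTT₁, hAY, hAYT, -⟩ := hdec T hT.isPGroup hT.le
  obtain rfl : T₁ = T := hT.eq_of_le hT₁p hTT₁ hT₁E
  haveI : (A₀.subgroupOf E).Normal := normal_subgroupOf_of_le_normalizer hEA
  haveI : IsMulCommutative (A₀.subgroupOf E) := ⟨⟨fun a b => Subtype.ext (Subtype.ext
    (congrArg (Subtype.val : A → G) (mul_comm' (⟨(a : E), a.2.1⟩ : A) ⟨(b : E), b.2.1⟩)))⟩⟩
  have hAT : A₀ ≤ T₁ := hAYT ▸ le_sup_left
  obtain ⟨C₀, hC₀⟩ := CfsgLib.Coprime.gaschutz_exists (A₀.subgroupOf E) (T₁.subgroupOf E)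
    (fun x hx => hAT hx)
    (by
      rw [CfsgLib.Base.card_subgroupOf hA₀E, hfl.1]
      exact hp'.out.coprime_iff_not_dvd.2 hT.not_dvd)
    (Y.subgroupOf E) (fun x hx => hYT₁ hx)
    (by
      rw [eq_bot_iff]
      intro x hx
      have h0 : (x : G) ∈ A₀ ⊓ Y := ⟨hx.2, hx.1⟩
      rw [hAY, mem_bot] at h0
      exact mem_bot.2 (Subtype.ext h0))
    (by rw [← subgroupOf_sup hA₀E (hYT₁.trans hT.le), hAYT])
  set E₀ := C₀.map E.subtype with hE₀
  have hE₀E : E₀ ≤ E := map_subtype_le _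
  have hinf : A₀ ⊓ E₀ = ⊥ := by
    rw [eq_bot_iff]
    rintro x ⟨hx, y, hy, rfl⟩
    have h0 : y ∈ A₀.subgroupOf E ⊓ C₀ := ⟨hx, hy⟩
    rw [hC₀.disjoint.eq_bot, mem_bot] at h0
    rw [h0]; exact one_mem _
  have hp2 := d.tau2 U hG
  refine ⟨E₀, hE₀E, exponent_eq_of_primary hE₀E fun q hq z hz k hzk => ?_,
    free_of_prime_order h U.s1403 hG d.max d.compl hE₀E fun q hq x hx hxo => ?_⟩
  swap
  · have hqp : q = p := (d.tau2_eq U hG hna).le hq
    subst hqp
    by_contra hne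
    have hxA := d.mem_fixed_line U hG hna (hE₀E hx) (k := 1)
      (by rw [pow_one]; exact hxo ▸ pow_orderOf_eq_one x) hne
    have hx1 : x = 1 := mem_bot.1 (hinf.le (mem_inf.2 ⟨hxA, hx⟩))
    exact hp'.out.ne_one (hxo.symm.trans (orderOf_eq_one_iff.2 hx1))
  set n := Monoid.exponent E₀ with hn
  -- `z ^ n` lies in the fixed line
  have hzn : z ^ n ∈ A₀ := by
    obtain ⟨⟨⟨a, ha⟩, ⟨c, hc⟩⟩, he⟩ := hC₀.2 ⟨z, hz⟩
    have hcn : c ^ n = 1 := by
      have h1 := Monoid.pow_exponent_eq_one (G := E₀) ⟨(c : G), ⟨c, hc, rfl⟩⟩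
      exact Subtype.ext ((SubmonoidClass.coe_pow c n).trans (congrArg (fun w : E₀ => (w : G)) h1))
    have hf : QuotientGroup.mk' (A₀.subgroupOf E) ((⟨z, hz⟩ : E) ^ n) = 1 := by
      rw [map_pow, ← show a * c = ⟨z, hz⟩ from he, map_mul,
        show QuotientGroup.mk' (A₀.subgroupOf E) a = 1 from (QuotientGroup.eq_one_iff a).2 ha,
        one_mul, ← map_pow, hcn, map_one]
    exact mem_subgroupOf.1 ((QuotientGroup.eq_one_iff _).1 hf)
  have hznp : (z ^ n) ^ p = 1 := d.elem.2 _ hzn.1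
  haveI := Fact.mk hq
  by_cases hqp : q = p
  · subst hqp
    have hzp : IsPGroup q (zpowers z) := IsPGroup.of_card (n := k) (by rw [Nat.card_zpowers, hzk])
    obtain ⟨Y', T', hY', -, -, hzT', hAY', hAYT', hYA⟩ := hdec _ hzp (zpowers_le.2 hz)
    have hnorm : A₀ ≤ normalizer (Y' : Set G) :=
      (inf_le_left.trans (CfsgLib.Base.le_centralizer_comm.1 hYA)).trans (centralizer_le_normalizer _)
    obtain ⟨a, ha, y, hy, hay⟩ := (CfsgLib.Coprime.mem_sup_iff_of_le_normalizer hnorm).1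
      (hAYT'.symm ▸ hzT' (mem_zpowers z) : z ∈ A₀ ⊔ Y')
    have hqn : q ∣ n := by
      have hd : q ∣ Nat.card E₀ := by
        have h1 : Nat.card (A₀.subgroupOf E) * Nat.card C₀ = Nat.card E := hC₀.card_mul
        rw [CfsgLib.Base.card_subgroupOf hA₀E, hfl.1] at h1
        have h2 : q ^ 2 ∣ q * Nat.card C₀ := h1 ▸ d.card ▸ card_dvd_of_le d.le
        rw [hE₀, CfsgLib.Base.card_map_subtype]
        rw [sq] at h2
        exact Nat.dvd_of_mul_dvd_mul_left hq.pos h2
      obtain ⟨w, hw⟩ := exists_prime_orderOf_dvd_card' (G := E₀) q hd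
      exact hw ▸ Monoid.order_dvd_exponent w
    have hcomm : Commute a y := mem_centralizer_iff.1 (hYA hy) a ha.1
    have hzy : z ^ n = y ^ n := by
      obtain ⟨m, hm⟩ := hqn
      rw [← hay, hcomm.mul_pow, hm, pow_mul a, d.elem.2 a ha.1, one_pow, one_mul]
    exact mem_bot.1 (hAY'.le (mem_inf.2 ⟨hzn, hzy.symm ▸ pow_mem hy n⟩))
  · have h1 : (z ^ n) ^ q ^ k = 1 := by
      rw [← pow_mul, mul_comm, pow_mul, ← hzk, pow_orderOf_eq_one, one_pow]
    exact orderOf_eq_one_iff.1 (Nat.eq_one_of_dvd_coprimes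
      (((Nat.coprime_primes hq hp'.out).2 hqp).pow_left k)
      (orderOf_dvd_of_pow_eq_one h1) (orderOf_dvd_of_pow_eq_one hznp))

/-- The normaliser of `A` normalises the normal Sylow subgroup of `E`. -/
theorem normalizer_le_normalizer_sylow (d : Elem p M E A) (U : Up.{u}) (hG : IsMinSimpleOddOrder G)
    (hab : ∃ S : Sylow p G, IsMulCommutative (S : Subgroup G)) {T : Subgroup G} (hT : SylIn p T E) :
    normalizer (A : Set G) ≤ normalizer (T : Set G) := by
  have hC := d.centralizer_le U hG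
  have hTC := (d.le_centralizer U hG hT.isPGroup hT.le).2
  intro n hn
  refine mem_normalizer_iff_cj.2 (eq_of_le_of_card_ge ?_ (card_cj n T).ge)
  have hCn := mem_normalizer_iff_cj.1
    (CfsgLib.Coprime.le_normalizer_centralizer (le_refl (normalizer (A : Set G))) hn)
  refine (hT.mono hTC hC).le_of_normal (isPGroup_cj hT.isPGroup) ?_ ?_
  · rw [← hCn]; exact cj_mono hTC
  · rw [← hCn, ← cj_normalizer]
    exact cj_mono (hC.trans (d.sylow_normal U hG hab hT))

/-- The cyclic subgroup for a prime of `τ₂(M)` with abelian Sylow subgroups. -/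
theorem exists_regular_cyclic (d : Elem p M E A) (U : Up.{u}) (hG : IsMinSimpleOddOrder G)
    (hab : ∃ S : Sylow p G, IsMulCommutative (S : Subgroup G)) (h : FreeTau13 M E)
    {H : Subgroup G} (hHE : H ≤ E)
    (hH : ∀ q : ℕ, q.Prime → q ∣ Nat.card H → q ∉ Cfsg.tau2 M) :
    ∃ Y : Subgroup G, Y ≤ E ∧ IsPGroup p Y ∧ H ≤ normalizer (Y : Set G) ∧
      (∀ x ∈ Y, orderOf x = p → sigmaCore M ⊓ centralizer ({x} : Set G) = ⊥) ∧
      ∀ z ∈ E, ∀ k, orderOf z = p ^ k → ∃ y ∈ Y, orderOf z ∣ orderOf y := by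
  haveI := d.elem.1
  obtain ⟨T, hT⟩ := exists_sylIn (p := p) E
  haveI hTc : IsMulCommutative T := (d.le_centralizer U hG hT.isPGroup hT.le).1
  have hAT : A ≤ T := d.le_sylIn U hG hT
  obtain ⟨s, hs⟩ : ∃ s, Monoid.exponent T = p ^ s := by
    obtain ⟨j, hj⟩ := IsPGroup.iff_card.1 hT.isPGroup
    obtain ⟨s, -, hs⟩ := (Nat.dvd_prime_pow hp'.out).1
      (hj ▸ Group.exponent_dvd_nat_card (G := T))
    exact ⟨s, hs⟩
  obtain ⟨⟨a₀, ha₀⟩, ha₁⟩ := ne_bot_iff_exists_ne_one.1 d.ne_bot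
  obtain ⟨a, rfl⟩ : ∃ a, s = a + 1 := by
    refine ⟨s - 1, ?_⟩
    rcases s with _ | s
    · exfalso
      refine ha₁ (Subtype.ext ?_)
      have h1 := Monoid.pow_exponent_eq_one (G := T) ⟨a₀, hAT ha₀⟩
      rw [hs, pow_zero, pow_one] at h1
      exact congrArg (fun w : T => (w : G)) h1
    · rfl
  set I := powSub T (p ^ a) with hI
  have hIA : I ≤ A := by
    rintro _ ⟨t, ht, rfl⟩
    refine d.mem_of_pow U hG (hT.le (pow_mem ht _)) ?_
    rw [← pow_mul, ← pow_succ, ← hs]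
    exact congrArg Subtype.val (Monoid.pow_exponent_eq_one (G := T) ⟨t, ht⟩)
  have hI1 : I ≠ ⊥ := by
    intro e
    have h1 : Monoid.exponent T ∣ p ^ a := Monoid.exponent_dvd_of_forall_pow_eq_one fun t =>
      Subtype.ext (mem_bot.1 (e.le ⟨(t : G), t.2, rfl⟩))
    rw [hs] at h1
    exact absurd (Nat.le_of_dvd (pow_pos hp'.out.pos a) h1)
      (Nat.pow_lt_pow_right hp'.out.one_lt (Nat.lt_succ_self a)).not_ge
  have hHN : H ≤ normalizer (A : Set G) := hHE.trans (d.normal U hG)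
  have hHT : H ≤ normalizer (T : Set G) := hHE.trans (d.sylow_normal U hG hab hT)
  have hNT := d.normalizer_le_normalizer_sylow U hG hab hT
  obtain ⟨n, hn, hnM⟩ := d.exists_not_mem U hG
  -- a good invariant line of powers
  obtain ⟨L, hLI, hLc, hHL, hgood⟩ : ∃ L : Subgroup G, L ≤ I ∧ Nat.card L = p ∧
      H ≤ normalizer (L : Set G) ∧ sigmaCore M ⊓ centralizer (L : Set G) = ⊥ := by
    obtain ⟨k, hk, hk'⟩ := (Nat.dvd_prime_pow hp'.out).1 (d.card ▸ card_dvd_of_le hIA)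
    interval_cases k
    · exact absurd (card_eq_one.1 (hk'.trans (pow_zero p))) hI1
    · refine ⟨I, le_rfl, hk'.trans (pow_one p), le_normalizer_powSub hHT _, by_contra fun hbad => ?_⟩
      refine hnM (d.mem_of_moved U hG hIA hI1 hbad ?_)
      rw [mem_normalizer_iff_cj.1 (le_normalizer_powSub hNT _ hn)]
      exact (d.fixed_unique U hG hIA hI1 hbad).1
    · have hIeq : I = A := eq_of_le_of_card_ge hIA (by rw [hk', d.card])
      obtain ⟨L, hLA, hLc, hHL⟩ := exists_invariant_line d.elem d.card hHN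
        (hG.1.of_dvd_nat (card_subgroup_dvd_card H))
        ((commutator_mono hHN hHN).trans (d.normalizer_derived_le U hG hab))
        fun e he r hr hrH ⟨j, hj⟩ => by
          haveI := Fact.mk hr
          exact d.exists_line_fixed U hG hab (hH r hr hrH) (fun f hf hf1 hfr =>
              h.of_prime U.s1403 hG d.max d.compl hr (hH r hr hrH) hf hf1 (k := 1)
                (by rwa [pow_one]))
            (hHE he) (hrH.trans (card_dvd_of_le hHE)) hj
      by_cases hb : sigmaCore M ⊓ centralizer (L : Set G) = ⊥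
      · exact ⟨L, hIeq ▸ hLA, hLc, hHL, hb⟩
      have hL1 := CfsgLib.FT.BG13.ne_bot_of_card_prime hLc
      have hnL : cj n L ≤ A := (cj_mono hLA).trans (mem_normalizer_iff_cj.1 hn).le
      refine ⟨cj n L, hIeq ▸ hnL, (card_cj n L).trans hLc, fun x hx => ?_, by_contra fun hbad => ?_⟩
      · rw [← cj_normalizer, mem_cj]
        have hc : ⁅x⁻¹, n⁻¹⁆ ∈ normalizer (L : Set G) := centralizer_le_normalizer _
          (Subgroup.centralizer_le hLA (d.normalizer_derived_le U hG hab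
            (commutator_mem_commutator (inv_mem (hHN hx)) (inv_mem hn))))
        rw [show n⁻¹ * x * n = x * ⁅x⁻¹, n⁻¹⁆ by rw [commutatorElement_def]; group]
        exact mul_mem (hHL hx) hc
      · refine hnM (d.mem_of_moved U hG hLA hL1 hb (d.fixed_unique U hG hnL ?_ hbad).1)
        exact fun e => hL1 (cj_eq_bot_iff.1 e)
  have hcop : (Nat.card H).Coprime p :=
    (hp'.out.coprime_iff_not_dvd.2 fun hd => hH p hp'.out hd (d.tau2 U hG)).symm
  obtain ⟨Y, hLY, hYc, hYcard, hHY, hYT⟩ := exists_invariant_cyclic (A := A) d.elem d.card hHT hcop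
    hT.isPGroup (fun t ht htp => d.mem_of_pow U hG (hT.le ht) htp) hLc hHL hLI a le_rfl
  have hYT' : Y ≤ T := hYT.trans (powSub_le T _)
  refine ⟨Y, hYT'.trans hT.le, hT.isPGroup.to_le hYT', hHY, fun x hx hxo => ?_, fun z hz k hzk => ?_⟩
  · have hxL : zpowers x = L := eq_of_card_eq_of_isCyclic (C := Y) (zpowers_le.2 hx) hLY
      (by rw [Nat.card_zpowers, hxo, hLc])
    rw [← centralizer_zpowers, hxL]
    exact hgood
  · obtain ⟨⟨y, hy⟩, hgen⟩ := hYc.exists_generator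
    refine ⟨y, hy, ?_⟩
    have hyo : orderOf y = p ^ (a + 1) := by
      rw [← hYcard, ← orderOf_eq_card_of_forall_mem_zpowers hgen, Subgroup.orderOf_mk]
    rw [hyo, ← hs]
    have hzT := d.mem_sylow U hG hab hT hz (k := k) (hzk ▸ pow_orderOf_eq_one z)
    rw [← Subgroup.orderOf_mk z hzT]
    exact Monoid.order_dvd_exponent _

end Elem

/-- BG 12.11 when every prime of `τ₂(M)` has abelian Sylow subgroups. -/
theorem exists_regular_abelian (U : Up.{u}) (hG : IsMinSimpleOddOrder G) (hM : IsCoatom M)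
    (hE : IsComplIn E (sigmaCore M) M)
    (hab : ∀ p ∈ tau2 M, ∃ S : Sylow p G, IsMulCommutative (S : Subgroup G)) (h : FreeTau13 M E) :
    ∃ E₀ : Subgroup G, E₀ ≤ E ∧ Monoid.exponent E₀ = Monoid.exponent E ∧
      ∀ e ∈ E₀, e ≠ 1 → sigmaCore M ⊓ centralizer ({e} : Set G) = ⊥ := by
  haveI : Group.IsSolvable E := minSimple_solvable hG (ne_top_of_le_maximal hM hE.1)
  obtain ⟨H₀, hH₀, -⟩ := CfsgLib.Coprime.hallD_of_solvable (G := E) {q | q ∉ tau2 M}
  set H := H₀.map E.subtype with hH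
  have hHE : H ≤ E := map_subtype_le _
  have hHp : ∀ q : ℕ, q.Prime → q ∣ Nat.card H → q ∉ tau2 M := fun q hq hd =>
    hH₀.1 q hq (by rwa [hH, CfsgLib.Base.card_map_subtype] at hd)
  have key : ∀ p : ℕ, ∃ Y : Subgroup G, p ∈ tau2 M → Y ≤ E ∧ IsPGroup p Y ∧
      H ≤ normalizer (Y : Set G) ∧
      (∀ x ∈ Y, orderOf x = p → sigmaCore M ⊓ centralizer ({x} : Set G) = ⊥) ∧
      ∀ z ∈ E, ∀ k, orderOf z = p ^ k → ∃ y ∈ Y, orderOf z ∣ orderOf y := by
    intro p
    by_cases hp : p ∈ tau2 M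
    swap
    · exact ⟨⊥, fun h => absurd h hp⟩
    haveI := Fact.mk hp.1
    obtain ⟨A, hAE, hA, hA2⟩ := exists_elem_compl hG hM hE hp
    have d : Elem p M E A := ⟨hM, hE, hp.2.1, hAE, hA, hA2⟩
    obtain ⟨Y, hY⟩ := d.exists_regular_cyclic U hG (hab p hp) h hHE hHp
    exact ⟨Y, fun _ => hY⟩
  choose Y hY using key
  set S := {x : G | ∃ p ∈ tau2 M, x ∈ Y p} with hS
  set W := closure S with hW
  have hSE : ∀ x ∈ S, x ∈ E := fun x ⟨p, hp, hx⟩ => (hY p hp).1 hx
  have hWE : W ≤ E := (closure_le _).2 hSE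
  have hpow : ∀ {p : ℕ}, p ∈ tau2 M → ∀ x ∈ Y p, ∃ i, x ^ p ^ i = 1 := fun {p} hp x hx => by
    obtain ⟨i, hi⟩ := (hY p hp).2.1 ⟨x, hx⟩
    exact ⟨i, congrArg Subtype.val hi⟩
  -- primary `τ₂`-elements commute
  have hcomm : ∀ {p q : ℕ}, p ∈ tau2 M → q ∈ tau2 M → ∀ x ∈ E, ∀ y ∈ E, ∀ {i j : ℕ},
      x ^ p ^ i = 1 → y ^ q ^ j = 1 → Commute x y := by
    intro p q hp hq x hx y hy i j hxi hyj
    haveI := Fact.mk hp.1
    haveI := Fact.mk hq.1
    by_cases hne : q = p
    swap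
    · exact commute_parts_ne U hG hM hE hp hq hne hx hy hxi hyj
    subst hne
    obtain ⟨A, hAE, hA, hA2⟩ := exists_elem_compl hG hM hE hp
    have d : Elem q M E A := ⟨hM, hE, hp.2.1, hAE, hA, hA2⟩
    obtain ⟨T, hT⟩ := exists_sylIn (p := q) E
    haveI := (d.le_centralizer U hG hT.isPGroup hT.le).1
    exact comm_of_le (d.mem_sylow U hG (hab q hp) hT hx hxi)
      (d.mem_sylow U hG (hab q hp) hT hy hyj)
  haveI hWc : IsMulCommutative W := isMulCommutative_closure (by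
    rintro x ⟨p, hp, hx⟩ y ⟨q, hq, hy⟩
    obtain ⟨i, hi⟩ := hpow hp x hx
    obtain ⟨j, hj⟩ := hpow hq y hy
    exact (hcomm hp hq x ((hY p hp).1 hx) y ((hY q hq).1 hy) hi hj).eq)
  have hHW : H ≤ normalizer (W : Set G) := by
    refine le_normalizer_iff_cj.2 fun e he => eq_of_le_of_card_ge ?_ (card_cj e W).ge
    rw [hW, cj, MonoidHom.map_closure]
    refine closure_mono ?_
    rintro _ ⟨x, ⟨p, hp, hx⟩, rfl⟩
    exact ⟨p, hp, (mem_normalizer_iff.1 ((hY p hp).2.2.1 he) x).1 hx⟩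
  -- orders of elements of `W`
  have hWord : ∀ y ∈ W, ∀ q : ℕ, q.Prime → q ∣ orderOf y → q ∈ tau2 M := by
    intro y hy
    induction hy using closure_induction with
    | mem x hx =>
      obtain ⟨p, hp, hx⟩ := hx
      intro q hq hd
      obtain ⟨i, hi⟩ := hpow hp x hx
      rwa [(Nat.prime_dvd_prime_iff_eq hq hp.1).1
        (hq.dvd_of_dvd_pow (hd.trans (orderOf_dvd_of_pow_eq_one hi)))]
    | one => intro q hq hd; rw [orderOf_one, Nat.dvd_one] at hd; exact absurd hd hq.ne_one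
    | mul x y hx hy ihx ihy =>
      intro q hq hd
      have h1 := hd.trans ((comm_of_le (T := W) hx hy).orderOf_mul_dvd_lcm.trans
        (Nat.lcm_dvd_mul _ _))
      exact (hq.dvd_mul.1 h1).elim (ihx q hq) (ihy q hq)
    | inv x hx ih => intro q hq hd; exact ih q hq (by rwa [orderOf_inv] at hd)
  have hWpart : ∀ {p : ℕ}, p ∈ tau2 M → ∀ x ∈ W, orderOf x = p → x ∈ Y p := by
    intro p hp x hx hxo
    set N := Nat.card E with hN
    set m := N / p ^ N.factorization p with hm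
    have hWm : ∀ y ∈ W, y ^ m ∈ Y p := by
      intro y hy
      induction hy using closure_induction with
      | mem z hz =>
        obtain ⟨q, hq, hz⟩ := hz
        by_cases hqp : q = p
        · subst hqp; exact pow_mem hz m
        obtain ⟨i, hi⟩ := hpow hq z hz
        have hd : orderOf z ∣ m := by
          refine Nat.Coprime.dvd_of_dvd_mul_left ?_ (m := p ^ N.factorization p) ?_
          · exact (((Nat.coprime_primes hq.1 hp.1).2 hqp).pow i _).coprime_dvd_left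
              (orderOf_dvd_of_pow_eq_one hi)
          · rw [hm, Nat.ordProj_mul_ordCompl_eq_self N p]
            exact Subgroup.orderOf_dvd_natCard E ((hY q hq).1 hz)
        rw [orderOf_dvd_iff_pow_eq_one.1 hd]
        exact one_mem _
      | one => rw [one_pow]; exact one_mem _
      | mul a b ha hb iha ihb => rw [(comm_of_le (T := W) ha hb).mul_pow]; exact mul_mem iha ihb
      | inv a ha ih => rw [inv_pow]; exact inv_mem ih
    have hco : m.Coprime (orderOf x) := by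
      rw [hxo]
      exact (Nat.coprime_ordCompl hp.1 (Nat.card_pos (α := E)).ne').symm
    obtain ⟨i, hi⟩ := exists_pow_eq_self_of_coprime (x := x) hco
    rw [← hi]
    exact pow_mem (hWm x hx) i
  set E₀ := H ⊔ W with hE₀
  have hE₀E : E₀ ≤ E := sup_le hHE hWE
  refine ⟨E₀, hE₀E, exponent_eq_of_primary hE₀E fun q hq z hz k hzk => ?_,
    free_of_prime_order h U.s1403 hG hM hE hE₀E fun q hq x hx hxo => ?_⟩
  · by_cases hq2 : q ∈ tau2 M
    · obtain ⟨y, hy, hd⟩ := (hY q hq2).2.2.2.2 z hz k hzk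
      refine orderOf_dvd_iff_pow_eq_one.1 (hd.trans ?_)
      have hy' : y ∈ E₀ := mem_sup_right (subset_closure ⟨q, hq2, hy⟩)
      rw [← Subgroup.orderOf_mk y hy']
      exact Monoid.order_dvd_exponent _
    · obtain ⟨g, hg⟩ := (CfsgLib.Coprime.hallD_of_solvable (G := E) _).conj_le
        (U := zpowers (⟨z, hz⟩ : E)) (fun r hr hd => by
          rw [Nat.card_zpowers, Subgroup.orderOf_mk, hzk] at hd
          rw [(Nat.prime_dvd_prime_iff_eq hr hq).1 (hr.dvd_of_dvd_pow hd)]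
          exact hq2) hH₀
      have h1 : (g : G) * z * (g : G)⁻¹ ∈ E₀ := mem_sup_left
        ⟨_, hg (Subgroup.smul_mem_pointwise_smul _ (MulAut.conj g) _ (mem_zpowers (⟨z, hz⟩ : E))), rfl⟩
      have h2 := Monoid.pow_exponent_eq_one (G := E₀) ⟨_, h1⟩
      have h3 : ((g : G) * z * (g : G)⁻¹) ^ Monoid.exponent E₀ = 1 := congrArg Subtype.val h2
      rw [conj_pow, conj_eq_one_iff] at h3
      exact h3
  · obtain ⟨e, he, y, hy, hey⟩ := (CfsgLib.Coprime.mem_sup_iff_of_le_normalizer hHW).1 hx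
    have hxy : Commute x y := by
      refine (mem_centralizer_singleton_iff.1
        ((closure_le (centralizer ({x} : Set G))).2 ?_ hy) : y * x = x * y).symm
      rintro w ⟨p, hp, hw⟩
      obtain ⟨i, hi⟩ := hpow hp w hw
      exact mem_centralizer_singleton_iff.2 (hcomm hp hq w ((hY p hp).1 hw) x (hE₀E hx) hi (j := 1)
        (by rw [pow_one]; exact hxo ▸ pow_orderOf_eq_one x)).eq
    have he1 : e = 1 := by
      by_contra he1
      obtain ⟨r, hr, hd⟩ := Nat.exists_prime_and_dvd fun h0 => he1 (orderOf_eq_one_iff.1 h0)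
      have hee : e = x * y⁻¹ := eq_mul_inv_iff_mul_eq.2 hey
      refine hHp r hr (hd.trans (Subgroup.orderOf_dvd_natCard H he)) ?_
      rcases hr.dvd_mul.1 (hd.trans (hee ▸ (hxy.inv_right.orderOf_mul_dvd_lcm.trans
        (Nat.lcm_dvd_mul _ _)))) with h0 | h0
      · rwa [(Nat.prime_dvd_prime_iff_eq hr hq.1).1 (hxo ▸ h0)]
      · exact hWord y hy r hr (by rwa [orderOf_inv] at h0)
    refine (hY q hq).2.2.2.1 x ?_ hxo
    exact hWpart hq x (by rw [← hey, he1, one_mul]; exact hy) hxo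

/-- BG 12.11 in the shape of row S1421. -/
theorem stmtS1421_of (U : Up.{u}) : StmtS1421.{u} := by
  intro G _ _ hG M hM E hE h
  refine ⟨⟨hatTau2 M E, hatTau2_le M E, le_normalizer_hatTau2 hE, hatTau2_comm U hG hM hE,
    fun x hx hx1 e he => ?_⟩, ?_⟩
  · refine mem_of_primary_parts _ e fun q hq hqe z hz ⟨k, hzk⟩ => ?_
    have hzE : z ∈ E := zpowers_le.2 he.1 hz
    have hzx : z ∈ centralizer ({x} : Set G) := zpowers_le.2 he.2 hz
    by_cases hz1 : z = 1
    · exact hz1 ▸ one_mem _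
    by_cases hq2 : q ∈ tau2 M
    · refine mem_hatTau2 hzE ⟨hE.1 hzE, x, hx, hx1, mem_centralizer_singleton_iff.1 hzx⟩
        fun r hr hd => ?_
      rwa [(Nat.prime_dvd_prime_iff_eq hr hq).1
        (hr.dvd_of_dvd_pow (hd.trans (orderOf_dvd_of_pow_eq_one hzk)))]
    · have hbot := FreeTau13.of_prime h U.s1403 hG hM hE hq hq2 hzE hz1 hzk
      exact absurd (mem_bot.1 (hbot.le (mem_inf.2
        ⟨hx, mem_centralizer_singleton_iff.2 (mem_centralizer_singleton_iff.1 hzx).symm⟩))) hx1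
  by_cases hna : ∃ p ∈ tau2 M, ∀ S : Sylow p G, ¬ IsMulCommutative (S : Subgroup G)
  · obtain ⟨p, hp, hna⟩ := hna
    haveI := Fact.mk hp.1
    obtain ⟨A, hAE, hA, hA2⟩ := exists_elem_compl hG hM hE hp
    have d : Elem p M E A := ⟨hM, hE, hp.2.1, hAE, hA, hA2⟩
    exact d.exists_regular_nonabelian U hG hna h
  · push Not at hna
    exact exists_regular_abelian U hG hM hE hna h

end CfsgLib.FT.BG12
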