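import Cfsg.Agent.Lib.FT.BG12.RegularLines

/-!
# BG 12.11: invariant cyclic subgroups of greatest order
-/

set_option autoImplicit false
set_option linter.unusedSectionVars false
set_option linter.style.haveILetI false

open Subgroup Cfsg CfsgLib.OddOrder CfsgLib.Techniques
open scoped commutatorElement

namespace CfsgLib.FT.BG12

universe u

variable {G : Type u} [Group G] [Finite G] {M E A : Subgroup G} {p : ℕ} [hp' : Fact p.Prime]

theorem comm_of_le {T : Subgroup G} [IsMulCommutative T] {x y : G} (hx : x ∈ T) (hy : y ∈ T) :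
    Commute x y :=
  congrArg (Subtype.val : T → G) (mul_comm' (⟨x, hx⟩ : T) ⟨y, hy⟩)

/-- The subgroup of `n`-th powers in an abelian subgroup. -/
def powSub (T : Subgroup G) [IsMulCommutative T] (n : ℕ) : Subgroup G where
  carrier := {x | ∃ t ∈ T, t ^ n = x}
  one_mem' := ⟨1, one_mem T, one_pow n⟩
  mul_mem' := by
    rintro _ _ ⟨s, hs, rfl⟩ ⟨t, ht, rfl⟩
    exact ⟨s * t, mul_mem hs ht, (comm_of_le hs ht).mul_pow n⟩
  inv_mem' := by
    rintro _ ⟨s, hs, rfl⟩
    exact ⟨s⁻¹, inv_mem hs, inv_pow s n⟩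

theorem powSub_le (T : Subgroup G) [IsMulCommutative T] (n : ℕ) : powSub T n ≤ T := by
  rintro _ ⟨t, ht, rfl⟩
  exact pow_mem ht n

theorem le_normalizer_powSub {T H : Subgroup G} [IsMulCommutative T]
    (h : H ≤ normalizer (T : Set G)) (n : ℕ) : H ≤ normalizer (powSub T n : Set G) := by
  refine le_normalizer_iff_cj.2 fun e he => eq_of_le_of_card_ge ?_ (card_cj e _).ge
  refine cj_le_iff.2 ?_
  rintro _ ⟨t, ht, rfl⟩
  exact ⟨e * t * e⁻¹, (mem_normalizer_iff.1 (h he) t).1 ht, conj_pow⟩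

theorem orderOf_of_pow_prime {x : G} {s : ℕ} (hx : orderOf (x ^ p) = p ^ (s + 1)) {N : ℕ}
    (hN : x ^ p ^ N = 1) : orderOf x = p ^ (s + 2) := by
  obtain ⟨j, -, hj⟩ := (Nat.dvd_prime_pow hp'.out).1 (orderOf_dvd_of_pow_eq_one hN)
  rcases j with _ | j
  · rw [pow_zero, orderOf_eq_one_iff] at hj
    rw [hj, one_pow, orderOf_one] at hx
    exact absurd hx.symm (Nat.one_lt_pow (Nat.succ_ne_zero s) hp'.out.one_lt).ne'
  have h := orderOf_pow_of_dvd hp'.out.ne_zero (hj ▸ dvd_pow_self p (Nat.succ_ne_zero j) : p ∣ orderOf x)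
  rw [hx, hj, pow_succ (n := j), Nat.mul_div_cancel _ hp'.out.pos] at h
  rw [hj, ← Nat.pow_right_injective hp'.out.two_le h]

/-- An invariant line of powers extends to an invariant cyclic subgroup. -/
theorem exists_invariant_cyclic {T H L : Subgroup G} [IsMulCommutative T]
    (hA : IsElementaryAbelian p A) (hA2 : Nat.card A = p ^ 2) (hHT : H ≤ normalizer (T : Set G))
    (hcop : (Nat.card H).Coprime p) (hTp : IsPGroup p T) (hAT : ∀ t ∈ T, t ^ p = 1 → t ∈ A)
    {a : ℕ} (hLc : Nat.card L = p) (hHL : H ≤ normalizer (L : Set G))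
    (hL : L ≤ powSub T (p ^ a)) :
    ∀ k, k ≤ a → ∃ Y : Subgroup G, L ≤ Y ∧ IsCyclic Y ∧ Nat.card Y = p ^ (k + 1) ∧
      H ≤ normalizer (Y : Set G) ∧ Y ≤ powSub T (p ^ (a - k))
  | 0, _ => ⟨L, le_rfl, isCyclic_of_prime_card hLc, by rw [hLc, zero_add, pow_one], hHL, hL⟩
  | k + 1, hk => by
    obtain ⟨Y, hLY, hYc, hYcard, hHY, hY⟩ :=
      exists_invariant_cyclic hA hA2 hHT hcop hTp hAT hLc hHL hL k (by omega)
    set n := p ^ (a - (k + 1)) with hn
    have hnp : p ^ (a - k) = n * p := by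
      rw [hn, ← pow_succ]; congr 1; omega
    set P := powSub T n with hP
    have hPT : P ≤ T := powSub_le T n
    let Z : Subgroup G :=
      { carrier := {u | u ∈ P ∧ u ^ p ∈ Y}
        one_mem' := ⟨one_mem _, by rw [one_pow]; exact one_mem Y⟩
        mul_mem' := fun {u v} hu hv => ⟨mul_mem hu.1 hv.1, by
          rw [(comm_of_le (hPT hu.1) (hPT hv.1)).mul_pow]; exact mul_mem hu.2 hv.2⟩
        inv_mem' := fun {u} hu => ⟨inv_mem hu.1, by rw [inv_pow]; exact inv_mem hu.2⟩ }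
    have hZT : Z ≤ T := fun u hu => hPT hu.1
    haveI : IsMulCommutative Z :=
      ⟨⟨fun u v => Subtype.ext (comm_of_le (hZT u.2) (hZT v.2)).eq⟩⟩
    have hYP : Y ≤ P := by
      intro y hy
      obtain ⟨t, ht, hty⟩ := hY hy
      exact ⟨t ^ p, pow_mem ht p, by rw [← pow_mul, mul_comm, ← hnp, hty]⟩
    have hYZ : Y ≤ Z := fun y hy => ⟨hYP hy, pow_mem hy p⟩
    have hHZ : H ≤ normalizer (Z : Set G) := by
      refine le_normalizer_iff_cj.2 fun e he => eq_of_le_of_card_ge ?_ (card_cj e Z).ge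
      refine cj_le_iff.2 fun u hu =>
        ⟨(mem_normalizer_iff.1 (le_normalizer_powSub hHT n he) u).1 hu.1, ?_⟩
      rw [conj_pow]
      exact (mem_normalizer_iff.1 (hHY he) _).1 hu.2
    obtain ⟨⟨y, hy⟩, hgen⟩ := hYc.exists_generator
    have hyo : orderOf y = p ^ (k + 1) := by
      rw [← hYcard, ← orderOf_eq_card_of_forall_mem_zpowers hgen, Subgroup.orderOf_mk]
    have hYy : ∀ x ∈ Y, x ∈ zpowers y := fun x hx => by
      obtain ⟨i, hi⟩ := mem_zpowers_iff.1 (hgen ⟨x, hx⟩)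
      exact ⟨i, congrArg Subtype.val hi⟩
    obtain ⟨t, ht, hty⟩ := hY hy
    set u := t ^ n with hu
    have huy : u ^ p = y := by rw [hu, ← pow_mul, ← hnp, hty]
    have huZ : u ∈ Z := ⟨⟨t, ht, rfl⟩, huy ▸ hy⟩
    have hord : ∀ c ∈ Z, c ^ p = y → orderOf c = p ^ (k + 2) := by
      intro c hc hcy
      obtain ⟨N, hN⟩ := hTp ⟨c, hZT hc⟩
      exact orderOf_of_pow_prime (hcy ▸ hyo) (congrArg Subtype.val hN)
    have hzp : zpowers u ≤ Z := zpowers_le.2 huZ
    have hfin : ∀ C : Subgroup G, C ≤ Z → H ≤ normalizer (C : Set G) →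
        Nat.card C = p ^ (k + 2) → (∃ c ∈ C, c ^ p = y) →
        ∃ Y' : Subgroup G, L ≤ Y' ∧ IsCyclic Y' ∧ Nat.card Y' = p ^ (k + 1 + 1) ∧
          H ≤ normalizer (Y' : Set G) ∧ Y' ≤ powSub T n := by
      intro C hCZ hCH hCc ⟨c, hc, hcy⟩
      have hCe : zpowers c = C := eq_of_le_of_card_ge (zpowers_le.2 hc) (by
        rw [Nat.card_zpowers, hord c (hCZ hc) hcy, hCc])
      refine ⟨C, ?_, hCe ▸ inferInstance, hCc, hCH, hCZ.trans fun x hx => hx.1⟩
      intro x hx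
      obtain ⟨i, rfl⟩ := mem_zpowers_iff.1 (hYy x (hLY hx))
      exact zpow_mem (hcy ▸ pow_mem hc p) i
    have hZsplit : ∀ v ∈ Z, ∃ i : ℤ, (u ^ i)⁻¹ * v ∈ Z ⊓ A := by
      intro v hv
      obtain ⟨i, hi⟩ := mem_zpowers_iff.1 (hYy _ hv.2)
      have hm : (u ^ i)⁻¹ * v ∈ Z := mul_mem (inv_mem (zpow_mem huZ i)) hv
      refine ⟨i, hm, hAT _ (hZT hm) ?_⟩
      rw [(comm_of_le (hZT (inv_mem (zpow_mem huZ i))) (hZT hv)).mul_pow, inv_pow, ← hi,
        show (u ^ i) ^ p = (u ^ p) ^ i by rw [← zpow_natCast, ← zpow_mul, mul_comm, zpow_mul,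
          zpow_natCast], huy, inv_mul_cancel]
    by_cases hsmall : Z ⊓ A ≤ L
    · refine hfin Z le_rfl hHZ ?_ ⟨u, huZ, huy⟩
      have hZu : Z = zpowers u := by
        refine le_antisymm (fun v hv => ?_) hzp
        obtain ⟨i, hi⟩ := hZsplit v hv
        obtain ⟨m, hm⟩ := mem_zpowers_iff.1 (hYy _ (hLY (hsmall hi)))
        refine mem_zpowers_iff.2 ⟨i + p * m, ?_⟩
        rw [zpow_add, zpow_mul, zpow_natCast, huy, hm, mul_inv_cancel_left]
      rw [hZu, Nat.card_zpowers, hord u huZ huy]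
    obtain ⟨b, hb, hbL⟩ := SetLike.not_le_iff_exists.1 hsmall
    have hLA : L ≤ A := fun x hx => hAT x (hPT (hYP (hLY hx))) (by
      have h := pow_card_eq_one' (G := L) (x := ⟨x, hx⟩)
      rw [hLc] at h
      exact congrArg Subtype.val h)
    have hbc := card_zpowers_of_mem hA hb.2 fun e => hbL (e ▸ one_mem _)
    have hLb : L ≠ zpowers b := fun e => hbL (e ▸ mem_zpowers b)
    have hLbA := lines_sup hA hA2 hLA (zpowers_le.2 hb.2) hLc hbc hLb
    have hAZ : A ≤ Z := hLbA ▸ sup_le (hLY.trans hYZ) (zpowers_le.2 hb.1)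
    haveI := hA.1
    have hHA : H ≤ normalizer (A : Set G) := by
      refine le_normalizer_iff_cj.2 fun e he => eq_of_le_of_card_ge ?_ (card_cj e A).ge
      refine cj_le_iff.2 fun x hx => hAT _ ((mem_normalizer_iff.1 (hHT he) x).1 (hZT (hAZ hx))) ?_
      rw [conj_pow, hA.2 x hx, mul_one, mul_inv_cancel]
    have hcopA : (Nat.card H).Coprime (Nat.card A) := hA2 ▸ hcop.pow_right 2
    obtain ⟨D, hDA, hHD, hDL, -, hDc⟩ := exists_invariant_compl hLA (zpowers_le.2 hb.2)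
      (by rw [inf_comm]; exact lines_inf hLc hbc hLb) hLbA hHA hHL hcopA
    rw [hbc] at hDc
    have hUD : zpowers u ⊓ D = ⊥ := by
      refine eq_bot_iff.2 fun x hx => by_contra fun hx1 => ?_
      obtain ⟨l, hl, hl1⟩ : ∃ l ∈ L, l ≠ 1 := by
        obtain ⟨⟨l, hl⟩, hl1⟩ := ne_bot_iff_exists_ne_one.1
          (CfsgLib.FT.BG13.ne_bot_of_card_prime hLc)
        exact ⟨l, hl, fun e => hl1 (Subtype.ext e)⟩
      have hL' : L ≤ zpowers u := by
        intro z hz
        obtain ⟨i, rfl⟩ := mem_zpowers_iff.1 (hYy z (hLY hz))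
        exact zpow_mem (huy ▸ pow_mem (mem_zpowers u) p) i
      have hDu : D ≤ zpowers u := zpowers_eq_line hDc hx.2 hx1 ▸ zpowers_le.2 hx.1
      have hDL' : D = L := eq_of_card_eq_of_isCyclic (C := zpowers u) hDu hL' (by rw [hDc, hLc])
      rw [hDL', inf_idem] at hDL
      exact hl1 (mem_bot.1 (hDL.le hl))
    have hDUZ : D ⊔ zpowers u = Z := by
      refine le_antisymm (sup_le (hDA.trans hAZ) hzp) fun v hv => ?_
      obtain ⟨i, hi⟩ := hZsplit v hv
      have hA' : A ≤ D ⊔ zpowers u := by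
        have hne : D ≠ L := fun e => CfsgLib.FT.BG13.ne_bot_of_card_prime hLc
          (by rw [e, inf_idem] at hDL; exact hDL)
        refine (lines_sup hA hA2 hDA hLA hDc hLc hne).ge.trans (sup_le_sup_left ?_ D)
        intro z hz
        obtain ⟨i, rfl⟩ := mem_zpowers_iff.1 (hYy z (hLY hz))
        exact zpow_mem (huy ▸ pow_mem (mem_zpowers u) p) i
      rw [← mul_inv_cancel_left (u ^ i) v]
      exact mul_mem (mem_sup_right (zpow_mem (mem_zpowers u) i)) (hA' hi.2)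
    have hZp : IsPGroup p Z := hTp.to_le hZT
    obtain ⟨j, hj⟩ := IsPGroup.iff_card.1 hZp
    obtain ⟨C, hCZ, hHC, -, hDC, hCc⟩ := exists_invariant_compl (hDA.trans hAZ) hzp hUD hDUZ hHZ hHD
      (hj ▸ hcop.pow_right j)
    refine hfin C hCZ hHC (by rw [hCc, Nat.card_zpowers, hord u huZ huy]) ?_
    have hDCn : D ≤ normalizer (C : Set G) := fun d hd => centralizer_le_normalizer _
      (mem_centralizer_iff.2 fun c hc => (comm_of_le (hZT (hCZ hc)) (hZT (hAZ (hDA hd)))).eq)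
    obtain ⟨d, hd, c, hc, hdc⟩ :=
      (CfsgLib.Coprime.mem_sup_iff_of_le_normalizer hDCn).1 (hDC.symm ▸ huZ : u ∈ D ⊔ C)
    refine ⟨c, hc, ?_⟩
    rw [← huy, ← hdc, (comm_of_le (hZT (hAZ (hDA hd))) (hZT (hCZ hc))).mul_pow, hA.2 d (hDA hd),
      one_mul]

end CfsgLib.FT.BG12
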