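import Cfsg.Agent.Lib.FT.BG12.Tau2Abelian

/-!
# BG 12.10: elements for the primes in `τ₂(M)`
-/

set_option autoImplicit false
set_option linter.unusedSectionVars false
set_option linter.style.haveILetI false

open Subgroup Cfsg CfsgLib.OddOrder CfsgLib.Techniques
open scoped commutatorElement

namespace CfsgLib.FT.BG12

universe u

variable {G : Type u} [Group G] [Finite G] {M E : Subgroup G}

/-- Two primes of `τ₂(M)` force abelian Sylow subgroups. -/
theorem Elem.abelian_of_ne {p q : ℕ} [Fact p.Prime] {A : Subgroup G} (d : Elem p M E A)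
    (U : Up.{u}) (hG : IsMinSimpleOddOrder G) (hq : q ∈ Cfsg.tau2 M) (hne : q ≠ p) :
    ∃ S : Sylow p G, IsMulCommutative (S : Subgroup G) := by
  by_contra h
  push Not at h
  exact hne ((d.tau2_eq U hG h).le hq)

/-- Primary `τ₂`-parts of distinct primes commute. -/
theorem commute_parts_ne (U : Up.{u}) (hG : IsMinSimpleOddOrder G) (hM : IsCoatom M)
    (hE : IsComplIn E (sigmaCore M) M) {p q : ℕ} [hp : Fact p.Prime] [hq : Fact q.Prime]
    (hp2 : p ∈ tau2 M) (hq2 : q ∈ tau2 M) (hne : q ≠ p) {x y : G} (hx : x ∈ E) (hy : y ∈ E)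
    {i j : ℕ} (hxi : x ^ p ^ i = 1) (hyj : y ^ q ^ j = 1) : Commute x y := by
  obtain ⟨A, hAE, hA, hA2⟩ := exists_elem_compl hG hM hE hp2
  obtain ⟨B, hBE, hB, hB2⟩ := exists_elem_compl hG hM hE hq2
  have d : Elem p M E A := ⟨hM, hE, hp2.2.1, hAE, hA, hA2⟩
  have d' : Elem q M E B := ⟨hM, hE, hq2.2.1, hBE, hB, hB2⟩
  obtain ⟨S, hS⟩ := exists_sylIn (p := p) E
  obtain ⟨R, hR⟩ := exists_sylIn (p := q) E
  have hxS := d.mem_sylow U hG (d.abelian_of_ne U hG hq2 hne) hS hx hxi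
  have hyR := d'.mem_sylow U hG (d'.abelian_of_ne U hG hp2 (Ne.symm hne)) hR hy hyj
  have h : ⁅x, y⁆ ∈ S ⊓ R := by
    refine ⟨?_, ?_⟩
    · rw [commutatorElement_def, show x * y * x⁻¹ * y⁻¹ = x * (y * x⁻¹ * y⁻¹) by group]
      exact S.mul_mem hxS ((mem_normalizer_iff.1
        (d.sylow_normal U hG (d.abelian_of_ne U hG hq2 hne) hS hy) _).1 (S.inv_mem hxS))
    · exact R.mul_mem ((mem_normalizer_iff.1
        (d'.sylow_normal U hG (d'.abelian_of_ne U hG hp2 (Ne.symm hne)) hR hx) _).1 hyR)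
        (R.inv_mem hyR)
  rw [CfsgLib.Base.inf_eq_bot_of_coprime
    (CfsgLib.FT.BG13.coprime_of_pGroups hS.isPGroup hR.isPGroup (Ne.symm hne)), mem_bot] at h
  exact commutatorElement_eq_one_iff_commute.1 h

/-- A `τ₂(M)`-element of `E` centralises each elementary subgroup of order `p²` of `E`. -/
theorem Elem.tau2_mem_centralizer {p : ℕ} [Fact p.Prime] {A : Subgroup G} (d : Elem p M E A)
    (U : Up.{u}) (hG : IsMinSimpleOddOrder G) {x : G} (hx : x ∈ E)
    (hτ : ∀ q : ℕ, q.Prime → q ∣ orderOf x → q ∈ Cfsg.tau2 M) :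
    x ∈ centralizer (A : Set G) := by
  refine mem_of_primary_parts _ x fun q hq hqx z hz ⟨i, hzi⟩ => ?_
  haveI := Fact.mk hq
  have hzE : z ∈ E := zpowers_le.2 hx hz
  by_cases hqp : q = p
  · subst hqp
    obtain ⟨j, -, hj⟩ := (Nat.dvd_prime_pow hq).1 (orderOf_dvd_of_pow_eq_one hzi)
    exact (d.le_centralizer U hG (IsPGroup.of_card (n := j) (by rw [Nat.card_zpowers, hj]))
      (zpowers_le.2 hzE)).2 (mem_zpowers z)
  · refine mem_centralizer_iff.2 fun a ha => ?_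
    refine (commute_parts_ne U hG d.max d.compl (d.tau2 U hG) (hτ q hq hqx) hqp (d.le ha) hzE
      (i := 1) ?_ hzi).eq
    rw [pow_one]
    exact d.elem.2 a ha

/-- BG 12.10 (d). -/
theorem tau2_element_unique (U : Up.{u}) (hG : IsMinSimpleOddOrder G) (hM : IsCoatom M)
    (hE : IsComplIn E (sigmaCore M) M) {x : G} (hxM : x ∈ M) (hx1 : x ≠ 1)
    (hτ : ∀ p : ℕ, p.Prime → p ∣ orderOf x → p ∈ tau2 M) (hhat : x ∈ sigmaHat M) :
    centralizer ({x} : Set G) ≤ M ∧
      ∀ L : Subgroup G, IsCoatom L → centralizer ({x} : Set G) ≤ L → L = M := by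
  obtain ⟨-, y, hy, hy1, hxy⟩ := hhat
  obtain ⟨m, hm, hle⟩ := exists_cj_le_compl hG hM hE (zpowers_le.2 hxM) fun q hq hd =>
    (hτ q hq (Nat.card_zpowers x ▸ hd)).2.1
  set x' := m * x * m⁻¹ with hx'
  have hx'E : x' ∈ E := hle (conj_mem_cj.2 (mem_zpowers x))
  have ho : orderOf x' = orderOf x := by
    rw [hx', ← MulAut.conj_apply]
    exact orderOf_injective (MulAut.conj m).toMonoidHom (MulEquiv.injective _) x
  obtain ⟨p, hp, hd⟩ := Nat.exists_prime_and_dvd fun e => hx1 (orderOf_eq_one_iff.1 e)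
  haveI := Fact.mk hp
  obtain ⟨A, hAE, hA, hA2⟩ := exists_elem_compl hG hM hE (hτ p hp hd)
  have d : Elem p M E A := ⟨hM, hE, (hτ p hp hd).2.1, hAE, hA, hA2⟩
  have hxA := d.tau2_mem_centralizer U hG hx'E fun q hq h => hτ q hq (ho ▸ h)
  have key : ∀ L : Subgroup G, IsCoatom L → centralizer ({x'} : Set G) ≤ L → L = M := by
    intro L hL hCL
    by_contra hne
    have hAL : A ≤ L := fun a ha => hCL
      (mem_centralizer_singleton_iff.2 (mem_centralizer_iff.1 hxA a ha))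
    have h1 : m * y * m⁻¹ ∈ sigmaCore M ⊓ L := by
      refine ⟨(mem_normalizer_iff.1 (le_normalizer_sigmaCore M hm) y).1 hy,
        hCL (mem_centralizer_singleton_iff.2 ?_)⟩
      rw [hx', show m * y * m⁻¹ * (m * x * m⁻¹) = m * (y * x) * m⁻¹ by group, ← hxy]
      group
    rw [inter_other U hG hM d.sigma d.le_max hA hA2 hL hne hAL, mem_bot] at h1
    exact hy1 (conj_eq_one_iff.1 h1)
  have hconj : ∀ {H : Subgroup G}, centralizer ({x} : Set G) ≤ H →
      centralizer ({x'} : Set G) ≤ cj m H := by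
    intro H hH c hc
    rw [mem_cj]
    refine hH (mem_centralizer_singleton_iff.2 ?_)
    have h := mem_centralizer_singleton_iff.1 hc
    rw [hx'] at h
    calc m⁻¹ * c * m * x = m⁻¹ * (c * (m * x * m⁻¹)) * m := by group
      _ = m⁻¹ * ((m * x * m⁻¹) * c) * m := by rw [h]
      _ = x * (m⁻¹ * c * m) := by group
  have key' : ∀ L : Subgroup G, IsCoatom L → centralizer ({x} : Set G) ≤ L → L = M := by
    intro L hL hCL
    have h := key (cj m L) (isCoatom_cj hL m) (hconj hCL)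
    rw [← cj_inv_cj m L, h, cj_eq_self_of_mem (inv_mem hm)]
  refine ⟨?_, key'⟩
  obtain ⟨L, hL, hCL⟩ := exists_maximal_ge (minSimple_centralizer_singleton_ne_top hG hx1)
  exact key' L hL hCL ▸ hCL

/-- BG 12.10 in the shape of row S1420. -/
theorem stmtS1420_of (U : Up.{u}) : StmtS1420.{u} := by
  intro G _ _ hG M hM E hE
  refine ⟨fun N hN hn hσ => sigma'_nilpotent_abelian U hG hM hN hn hσ,
    derived_sigmaCompl_abelian U hG hM hE, fun p P hp hP hPM hc => ?_,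
    fun x hx hx1 hτ hhat => tau2_element_unique U hG hM hE hx hx1 hτ hhat⟩
  haveI := Fact.mk hp.1
  exact normalizer_le_of_not_isCyclic U hG hM hp hP hPM hc

/-- Fixed-point `τ₂`-parts of `E` commute. -/
theorem commute_hat_parts (U : Up.{u}) (hG : IsMinSimpleOddOrder G) (hM : IsCoatom M)
    (hE : IsComplIn E (sigmaCore M) M) {p q : ℕ} [hp : Fact p.Prime] [hq : Fact q.Prime]
    (hp2 : p ∈ tau2 M) (hq2 : q ∈ tau2 M) {x y : G} (hx : x ∈ E) (hy : y ∈ E)
    {i j : ℕ} (hxi : x ^ p ^ i = 1) (hyj : y ^ q ^ j = 1)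
    (hxf : sigmaCore M ⊓ centralizer ({x} : Set G) ≠ ⊥)
    (hyf : sigmaCore M ⊓ centralizer ({y} : Set G) ≠ ⊥) : Commute x y := by
  by_cases hne : q = p
  swap
  · exact commute_parts_ne U hG hM hE hp2 hq2 hne hx hy hxi hyj
  subst hne
  obtain ⟨A, hAE, hA, hA2⟩ := exists_elem_compl hG hM hE hp2
  have d : Elem q M E A := ⟨hM, hE, hp2.2.1, hAE, hA, hA2⟩
  by_cases hab : ∃ S : Sylow q G, IsMulCommutative (S : Subgroup G)
  · obtain ⟨T, hT⟩ := exists_sylIn (p := q) E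
    exact congrArg (Subtype.val : T → G) ((d.le_centralizer U hG hT.isPGroup hT.le).1.is_comm.comm
      ⟨x, d.mem_sylow U hG hab hT hx hxi⟩ ⟨y, d.mem_sylow U hG hab hT hy hyj⟩)
  · push Not at hab
    exact congrArg (Subtype.val : A → G) (hA.1.is_comm.comm
      ⟨x, (d.mem_fixed_line U hG hab hx hxi hxf).1⟩ ⟨y, (d.mem_fixed_line U hG hab hy hyj hyf).1⟩)

/-- The subgroup generated by the `τ₂(M)`-elements of `E` with fixed points on `M_σ`. -/
def hatTau2 (M E : Subgroup G) : Subgroup G :=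
  closure {x : G | x ∈ E ∧ x ∈ sigmaHat M ∧ ∀ p : ℕ, p.Prime → p ∣ orderOf x → p ∈ tau2 M}

theorem hatTau2_le (M E : Subgroup G) : hatTau2 M E ≤ E := (closure_le _).2 fun _ h => h.1

theorem mem_hatTau2 {x : G} (hx : x ∈ E) (hh : x ∈ sigmaHat M)
    (hτ : ∀ p : ℕ, p.Prime → p ∣ orderOf x → p ∈ tau2 M) : x ∈ hatTau2 M E :=
  subset_closure ⟨hx, hh, hτ⟩

theorem hatTau2_comm (U : Up.{u}) (hG : IsMinSimpleOddOrder G) (hM : IsCoatom M)
    (hE : IsComplIn E (sigmaCore M) M) : IsMulCommutative (hatTau2 M E) := by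
  refine isMulCommutative_closure ?_
  rintro a ⟨ha, ⟨-, u, hu, hu1, hau⟩, haτ⟩ b ⟨hb, ⟨-, v, hv, hv1, hbv⟩, hbτ⟩
  suffices h : a ∈ centralizer ({b} : Set G) from mem_centralizer_singleton_iff.1 h
  refine mem_of_primary_parts _ a fun q hq hqa z hz ⟨i, hzi⟩ => ?_
  suffices h : b ∈ centralizer ({z} : Set G) from
    mem_centralizer_singleton_iff.2 (mem_centralizer_singleton_iff.1 h).symm
  refine mem_of_primary_parts _ b fun r hr hrb w hw ⟨j, hwj⟩ => ?_
  haveI := Fact.mk hq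
  haveI := Fact.mk hr
  have hzf : ∀ {a u : G}, u ∈ sigmaCore M → u ≠ 1 → a * u = u * a → ∀ z ∈ zpowers a,
      sigmaCore M ⊓ centralizer ({z} : Set G) ≠ ⊥ := by
    intro a u hu hu1 hau z hz h
    obtain ⟨k, rfl⟩ := mem_zpowers_iff.1 hz
    exact hu1 (mem_bot.1 (h.le (mem_inf.2 ⟨hu, mem_centralizer_singleton_iff.2
      (((show Commute a u from hau).zpow_left k).symm.eq)⟩)))
  exact mem_centralizer_singleton_iff.2 (commute_hat_parts U hG hM hE (haτ q hq hqa) (hbτ r hr hrb)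
    (zpowers_le.2 ha hz) (zpowers_le.2 hb hw) hzi hwj (hzf hu hu1 hau z hz)
    (hzf hv hv1 hbv w hw)).eq.symm

theorem le_normalizer_hatTau2 (hE : IsComplIn E (sigmaCore M) M) :
    E ≤ normalizer (hatTau2 M E : Set G) := by
  refine le_normalizer_iff_cj.2 fun e he => eq_of_le_of_card_ge ?_ (card_cj e _).ge
  rw [hatTau2, cj, MonoidHom.map_closure]
  refine closure_mono ?_
  rintro _ ⟨x, ⟨hx, ⟨hxM, u, hu, hu1, hxu⟩, hτ⟩, rfl⟩
  refine ⟨mul_mem (mul_mem he hx) (inv_mem he), ⟨mul_mem (mul_mem (hE.1 he) hxM) (inv_mem (hE.1 he)),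
    e * u * e⁻¹, (mem_normalizer_iff.1 (le_normalizer_sigmaCore M (hE.1 he)) u).1 hu,
    fun h => hu1 (conj_eq_one_iff.1 h), ?_⟩, fun p hp hd => hτ p hp ?_⟩
  · show e * x * e⁻¹ * (e * u * e⁻¹) = e * u * e⁻¹ * (e * x * e⁻¹)
    calc e * x * e⁻¹ * (e * u * e⁻¹) = e * (x * u) * e⁻¹ := by group
      _ = e * (u * x) * e⁻¹ := by rw [hxu]
      _ = e * u * e⁻¹ * (e * x * e⁻¹) := by group
  · rwa [orderOf_injective (MulAut.conj e).toMonoidHom (MulEquiv.injective _)] at hd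

end CfsgLib.FT.BG12
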