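import Cfsg.Agent.Lib.FT.BG12.InvariantCompl
import Cfsg.Agent.Lib.FT.BG12.Tau2Elements
import Cfsg.Agent.Lib.FT.BG12.Generation
import Cfsg.Agent.Lib.FT.BG13.FixedPointPrime

/-!
# BG 12.11: lines of `A` fixed by elements of `E`
-/

set_option autoImplicit false
set_option linter.unusedSectionVars false
set_option linter.style.haveILetI false

open Subgroup Cfsg CfsgLib.OddOrder CfsgLib.Techniques
open scoped commutatorElement

namespace CfsgLib.FT.BG12

universe u

variable {G : Type u} [Group G] [Finite G] {M E A : Subgroup G} {p : ℕ} [hp' : Fact p.Prime]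

theorem zpowers_eq_line {L : Subgroup G} (hL : Nat.card L = p) {x : G} (hx : x ∈ L) (hx1 : x ≠ 1) :
    zpowers x = L :=
  eq_of_le_of_card_ge (zpowers_le.2 hx) (by
    rw [Nat.card_zpowers, hL, ((Nat.dvd_prime hp'.out).1 (hL ▸ Subgroup.orderOf_dvd_natCard L hx)).resolve_left
      fun h => hx1 (orderOf_eq_one_iff.1 h)])

theorem lines_inf {L L' : Subgroup G} (hL : Nat.card L = p) (hL' : Nat.card L' = p) (hne : L ≠ L') :
    L ⊓ L' = ⊥ :=
  eq_bot_iff.2 fun x hx => by_contra fun hx1 =>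
    hne ((zpowers_eq_line hL hx.1 hx1).symm.trans (zpowers_eq_line hL' hx.2 hx1))

theorem lines_sup (hA : IsElementaryAbelian p A) (hA2 : Nat.card A = p ^ 2) {L L' : Subgroup G}
    (h : L ≤ A) (h' : L' ≤ A) (hL : Nat.card L = p) (hL' : Nat.card L' = p) (hne : L ≠ L') :
    L ⊔ L' = A := by
  haveI := hA.1
  refine eq_of_le_of_card_ge (sup_le h h') ?_
  rw [CfsgLib.Coprime.card_sup_of_inf_eq_bot (((le_centralizer_iff_isMulCommutative.2 hA.1).trans'
    h).trans ((centralizer_le h').trans (centralizer_le_normalizer _))) (lines_inf hL hL' hne),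
    hL, hL', hA2, sq]

/-- An element fixing three lines fixes every subgroup. -/
theorem mem_normalizer_of_three (hA : IsElementaryAbelian p A) (hA2 : Nat.card A = p ^ 2) {e : G}
    {L₁ L₂ L₃ : Subgroup G} (a₁ : L₁ ≤ A) (a₂ : L₂ ≤ A) (a₃ : L₃ ≤ A) (c₁ : Nat.card L₁ = p)
    (c₂ : Nat.card L₂ = p) (c₃ : Nat.card L₃ = p) (h12 : L₁ ≠ L₂) (h13 : L₁ ≠ L₃) (h23 : L₂ ≠ L₃)
    (e₁ : e ∈ normalizer (L₁ : Set G)) (e₂ : e ∈ normalizer (L₂ : Set G))
    (e₃ : e ∈ normalizer (L₃ : Set G)) {K : Subgroup G} (hK : K ≤ A) :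
    e ∈ normalizer (K : Set G) := by
  have hcomm : ∀ a ∈ A, ∀ b ∈ A, Commute a b := fun a ha b hb =>
    congrArg (Subtype.val : A → G) (hA.1.is_comm.comm ⟨a, ha⟩ ⟨b, hb⟩)
  have h12s := lines_sup hA hA2 a₁ a₂ c₁ c₂ h12
  obtain ⟨⟨c, hc⟩, hc1'⟩ := ne_bot_iff_exists_ne_one.1 (CfsgLib.FT.BG13.ne_bot_of_card_prime c₃)
  have hc1 : c ≠ 1 := fun e => hc1' (Subtype.ext e)
  have hnorm : L₁ ≤ normalizer (L₂ : Set G) := fun x hx =>
    centralizer_le_normalizer _ (mem_centralizer_iff.2 fun y hy => (hcomm _ (a₂ hy) _ (a₁ hx)).eq)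
  obtain ⟨x, hx, y, hy, hxy⟩ :=
    (CfsgLib.Coprime.mem_sup_iff_of_le_normalizer hnorm).1 (h12s.symm ▸ a₃ hc : c ∈ L₁ ⊔ L₂)
  have hx1 : x ≠ 1 := fun h => hc1 (mem_bot.1 ((lines_inf c₂ c₃ h23).le
    (mem_inf.2 ⟨by rw [← hxy, h, one_mul]; exact hy, hc⟩)))
  have hy1 : y ≠ 1 := fun h => hc1 (mem_bot.1 ((lines_inf c₁ c₃ h13).le
    (mem_inf.2 ⟨by rw [← hxy, h, mul_one]; exact hx, hc⟩)))
  obtain ⟨k, hk⟩ : ∃ k : ℤ, c ^ k = e * c * e⁻¹ := mem_zpowers_iff.1
    ((zpowers_eq_line c₃ hc hc1).symm ▸ (mem_normalizer_iff.1 e₃ c).1 hc)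
  have hmul : x ^ k * y ^ k = e * x * e⁻¹ * (e * y * e⁻¹) := by
    rw [← (hcomm _ (a₁ hx) _ (a₂ hy)).mul_zpow, hxy, hk, ← hxy]
    group
  have hex := (mem_normalizer_iff.1 e₁ x).1 hx
  have hey := (mem_normalizer_iff.1 e₂ y).1 hy
  have hq : (x ^ k)⁻¹ * (e * x * e⁻¹) = y ^ k * (e * y * e⁻¹)⁻¹ := by
    rw [inv_mul_eq_iff_eq_mul, ← mul_assoc, eq_mul_inv_iff_mul_eq]
    exact hmul.symm
  have hone : (x ^ k)⁻¹ * (e * x * e⁻¹) = 1 := mem_bot.1 ((lines_inf c₁ c₂ h12).le (mem_inf.2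
    ⟨mul_mem (inv_mem (zpow_mem hx k)) hex,
      hq ▸ mul_mem (zpow_mem hy k) (inv_mem hey)⟩))
  have hxk : e * x * e⁻¹ = x ^ k := (inv_mul_eq_one.1 hone).symm
  have hyk : e * y * e⁻¹ = y ^ k := by
    rw [hone] at hq
    exact (mul_inv_eq_one.1 hq.symm).symm
  have hpow : ∀ a ∈ A, e * a * e⁻¹ = a ^ k := by
    intro a ha
    obtain ⟨u, hu, v, hv, rfl⟩ :=
      (CfsgLib.Coprime.mem_sup_iff_of_le_normalizer hnorm).1 (h12s.symm ▸ ha : a ∈ L₁ ⊔ L₂)
    obtain ⟨i, rfl⟩ := mem_zpowers_iff.1 ((zpowers_eq_line c₁ hx hx1).symm ▸ hu : u ∈ zpowers x)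
    obtain ⟨j, rfl⟩ := mem_zpowers_iff.1 ((zpowers_eq_line c₂ hy hy1).symm ▸ hv : v ∈ zpowers y)
    rw [(hcomm _ (a₁ hu) _ (a₂ hv)).mul_zpow, ← zpow_mul, ← zpow_mul, mul_comm i, mul_comm j,
      zpow_mul, zpow_mul, ← hxk, ← hyk, conj_zpow, conj_zpow]
    group
  refine mem_normalizer_iff_cj.2 (eq_of_le_of_card_ge ?_ (card_cj e K).ge)
  refine cj_le_iff.2 fun a ha => ?_
  rw [hpow a (hK ha)]
  exact zpow_mem ha k

/-- A group of odd order acting abelianly on `A` fixes a line if each of its primary elements does. -/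
theorem exists_invariant_line (hA : IsElementaryAbelian p A) (hA2 : Nat.card A = p ^ 2)
    {H : Subgroup G} (hHn : H ≤ normalizer (A : Set G)) (hodd : Odd (Nat.card H)) (hcomm : ⁅H, H⁆ ≤ centralizer (A : Set G))
    (hfix : ∀ e ∈ H, ∀ r : ℕ, r.Prime → r ∣ Nat.card H → (∃ k, e ^ r ^ k = 1) →
      ∃ L : Subgroup G, L ≤ A ∧ Nat.card L = p ∧ e ∈ normalizer (L : Set G)) :
    ∃ L : Subgroup G, L ≤ A ∧ Nat.card L = p ∧ H ≤ normalizer (L : Set G) := by
  by_cases hall : ∀ e ∈ H, ∀ L : Subgroup G, L ≤ A → Nat.card L = p → e ∈ normalizer (L : Set G)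
  · have hA1 : A ≠ ⊥ := fun e => by
      rw [e, card_bot] at hA2
      exact (Nat.one_lt_pow two_ne_zero hp'.out.one_lt).ne hA2
    obtain ⟨⟨a, ha⟩, ha1⟩ := ne_bot_iff_exists_ne_one.1 hA1
    have hc := card_zpowers_of_mem hA ha fun e => ha1 (Subtype.ext e)
    exact ⟨zpowers a, zpowers_le.2 ha, hc, fun e he => hall e he _ (zpowers_le.2 ha) hc⟩
  push Not at hall
  obtain ⟨e, he, L', hL'A, hL'c, heL'⟩ := hall
  obtain ⟨z, hzH, r, hr, hrH, hzr, hzL'⟩ : ∃ z ∈ H, ∃ r : ℕ, r.Prime ∧ r ∣ Nat.card H ∧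
      (∃ k, z ^ r ^ k = 1) ∧ z ∉ normalizer (L' : Set G) := by
    by_contra hno
    push Not at hno
    exact heL' (mem_of_primary_parts _ e fun r hr hd z hz hzr => by
      exact hno z (zpowers_le.2 he hz) r hr (hd.trans (Subgroup.orderOf_dvd_natCard H he)) hzr)
  obtain ⟨L₁, hL₁A, hL₁c, hzL₁⟩ := hfix z hzH r hr hrH hzr
  have hHA : ∀ h ∈ H, ∀ L : Subgroup G, L ≤ A → z ∈ normalizer (L : Set G) →
      z ∈ normalizer ((cj h L : Subgroup G) : Set G) := by
    intro h hh L hLA hzL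
    rw [← cj_normalizer, mem_cj]
    have hc : ⁅z⁻¹, h⁻¹⁆ ∈ normalizer (L : Set G) := centralizer_le_normalizer _
      (centralizer_le hLA (hcomm (commutator_mem_commutator (inv_mem hzH) (inv_mem hh))))
    rw [show h⁻¹ * z * h = z * ⁅z⁻¹, h⁻¹⁆ by rw [commutatorElement_def]; group]
    exact mul_mem hzL hc
  refine ⟨L₁, hL₁A, hL₁c, fun h hh => ?_⟩
  suffices hsq : h * h ∈ normalizer (L₁ : Set G) by
    have hcop : (2 : ℕ).Coprime (orderOf h) :=
      Nat.coprime_two_left.2 (hodd.of_dvd_nat (Subgroup.orderOf_dvd_natCard H hh))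
    obtain ⟨m, hm⟩ := exists_pow_eq_self_of_coprime (x := h) hcop
    rw [← hm, sq]
    exact pow_mem hsq m
  by_cases hh1 : h ∈ normalizer (L₁ : Set G)
  · exact mul_mem hh1 hh1
  by_contra hsq
  have hhA : ∀ L : Subgroup G, L ≤ A → cj h L ≤ A := fun L hL =>
    (cj_mono hL).trans (mem_normalizer_iff_cj.1 (hHn hh)).le
  have hh2A : cj h L₁ ≤ A := hhA L₁ hL₁A
  exact hzL' (mem_normalizer_of_three hA hA2 hL₁A hh2A (hhA _ hh2A) hL₁c
    ((card_cj _ _).trans hL₁c) ((card_cj _ _).trans ((card_cj _ _).trans hL₁c))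
    (fun e => hh1 (mem_normalizer_iff_cj.2 e.symm))
    (fun e => hsq (mem_normalizer_iff_cj.2 (by rw [cj_mul]; exact e.symm)))
    (fun e => hh1 (mem_normalizer_iff_cj.2
      (Subgroup.map_injective (MulAut.conj h).injective e.symm)))
    hzL₁ (hHA h hh _ hL₁A hzL₁) (hHA h hh _ hh2A (hHA h hh _ hL₁A hzL₁)) hL'A)

/-- A complement of `M_σ` exists. -/
theorem exists_sigmaCompl (h1403 : StmtS1403.{u}) (hG : IsMinSimpleOddOrder G) {L : Subgroup G}
    (hL : IsCoatom L) : ∃ E : Subgroup G, IsComplIn E (sigmaCore L) L := by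
  have hS := sigmaCore_hall h1403 hG hL
  have hcop : (Nat.card (sigmaCore L)).Coprime ((sigmaCore L).relIndex L) :=
    CfsgLib.Coprime.coprime_of_pi hS.2.1 hS.2.2
  obtain ⟨E, hEL, hEc, hE⟩ :=
    CfsgLib.Coprime.exists_complement_in (sigmaCore_le L) (le_normalizer_sigmaCore L) hcop
  refine ⟨E, hEL, sigmaCore_le L,
    CfsgLib.Base.inf_eq_bot_of_coprime (by rw [hEc]; exact hcop.symm), fun m hm => ?_⟩
  rw [← hE, sup_comm] at hm
  obtain ⟨a, ha, b, hb, rfl⟩ :=
    (CfsgLib.Coprime.mem_sup_iff_of_le_normalizer (hEL.trans (le_normalizer_sigmaCore L))).1 hm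
  exact ⟨a, ha, b, hb, rfl⟩

namespace Elem

/-- With abelian Sylow subgroups, the rank is at most two in `G`. -/
theorem pRankLE_two (d : Elem p M E A) (U : Up.{u}) (hG : IsMinSimpleOddOrder G)
    (hab : ∃ S : Sylow p G, IsMulCommutative (S : Subgroup G)) (L : Subgroup G) :
    PRankLE p 2 L := by
  obtain ⟨T, hT⟩ := exists_sylIn (p := p) E
  have h : PRankLE p 2 T := CfsgLib.Base.pRankLE_of_injective (inclusion (hT.le.trans d.compl.1))
    (inclusion_injective _) (pRankLE_two_of_not_sigma U.s1403 hG d.max d.sigma)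
  exact CfsgLib.Base.pRankLE_of_injective (inclusion (le_top : L ≤ ⊤)) (inclusion_injective _)
    ((pRankLE_iff_sylIn (d.sylow_top U hG hab hT)).2 h)

/-- A primary element of `E` acting without fixed point on `M_σ` fixes a line of `A`. -/
theorem exists_line_fixed (d : Elem p M E A) (U : Up.{u}) (hG : IsMinSimpleOddOrder G)
    (hab : ∃ S : Sylow p G, IsMulCommutative (S : Subgroup G)) {r : ℕ} [hr' : Fact r.Prime]
    (hr : r ∉ Cfsg.tau2 M)
    (hfree : ∀ f ∈ E, f ≠ 1 → f ^ r = 1 → sigmaCore M ⊓ centralizer ({f} : Set G) = ⊥)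
    {e : G} (he : e ∈ E) (hrE : r ∣ Nat.card E) {j : ℕ} (hej : e ^ r ^ j = 1) :
    ∃ L : Subgroup G, L ≤ A ∧ Nat.card L = p ∧ e ∈ normalizer (L : Set G) := by
  by_contra hno
  push Not at hno
  haveI := d.elem.1
  have hrp : r ≠ p := fun h => hr (h ▸ d.tau2 U hG)
  have hr2 : r ≠ 2 := minSimple_ne_two hG (hrE.trans (card_subgroup_dvd_card E))
  have heA : e ∈ normalizer (A : Set G) := d.normal U hG he
  have heC : e ∉ centralizer (A : Set G) := by
    intro h
    obtain ⟨⟨a, ha⟩, ha1⟩ := ne_bot_iff_exists_ne_one.1 d.ne_bot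
    exact hno (zpowers a) (zpowers_le.2 ha) (d.card_line ha fun e => ha1 (Subtype.ext e))
      (centralizer_le_normalizer _ (Subgroup.centralizer_le (zpowers_le.2 ha) h))
  obtain ⟨i, -, hi⟩ := (Nat.dvd_prime_pow hr'.out).1 (orderOf_dvd_of_pow_eq_one hej)
  obtain ⟨i, rfl⟩ : ∃ i', i = i' + 1 := ⟨i - 1, by
    rcases i with _ | i
    · rw [pow_zero, orderOf_eq_one_iff] at hi
      exact (heC (hi ▸ one_mem _)).elim
    · rfl⟩
  set f := e ^ r ^ i with hf
  have hfo : orderOf f = r := by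
    rw [hf, orderOf_pow_of_dvd (pow_ne_zero _ hr'.out.ne_zero) (hi ▸ pow_dvd_pow r (Nat.le_succ i)),
      hi, Nat.pow_div (Nat.le_succ i) hr'.out.pos, show i + 1 - i = 1 by omega, pow_one]
  have hfE : f ∈ E := pow_mem he _
  have hf1 : f ≠ 1 := fun h => hr'.out.ne_one (hfo.symm.trans (orderOf_eq_one_iff.2 h))
  have hfr : f ^ r = 1 := hfo ▸ pow_orderOf_eq_one f
  have hRp : IsPGroup r (zpowers e) := IsPGroup.of_card (n := i + 1) (by rw [Nat.card_zpowers, hi])
  have hfp : IsPGroup r (zpowers f) := IsPGroup.of_card (n := 1) (by rw [Nat.card_zpowers, hfo, pow_one])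
  have hd1 : r ∣ p + 1 := dvd_succ_of_no_fixed_line d.elem d.card hRp (zpowers_le.2 heA)
    fun L hL hLc h => hno L hL hLc (h (mem_zpowers e))
  -- `f` centralises `A`
  have hfC : f ∈ centralizer (A : Set G) := by
    set X := A ⊓ centralizer (sigmaCore M : Set G) with hX
    have hX1 : X = ⊥ := by
      have hEX : E ≤ normalizer (X : Set G) := CfsgLib.Coprime.le_normalizer_inf_inf (d.normal U hG)
        (d.compl.1.trans (CfsgLib.Coprime.le_normalizer_centralizer (le_normalizer_sigmaCore M)))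
      obtain ⟨k, hk, hk'⟩ := (Nat.dvd_prime_pow hp'.out).1
        (d.card ▸ card_dvd_of_le (inf_le_left : X ≤ A))
      interval_cases k
      · exact card_eq_one.1 (hk'.trans (pow_zero p))
      · exact absurd (hEX he) (hno X inf_le_left (hk'.trans (pow_one p)))
      · exfalso
        have hall : X = A := eq_of_le_of_card_ge inf_le_left (by rw [hk', d.card])
        have hc : A ≤ centralizer (sigmaCore M : Set G) := hall ▸ inf_le_right
        exact sigmaCore_ne_bot U.s1403 hG d.max (le_bot_iff.1 ((d.exceptional U hG).cent ▸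
          le_inf le_rfl (CfsgLib.Base.le_centralizer_comm.1 hc)))
    suffices h : ⁅A, zpowers f⁆ ≤ X by
      rw [hX1, le_bot_iff, commutator_comm, commutator_eq_bot_iff_le_centralizer] at h
      exact h (mem_zpowers f)
    have hfA : zpowers f ≤ normalizer (A : Set G) := zpowers_le.2 (pow_mem heA _)
    refine le_inf (CfsgLib.Coprime.commutator_le_of_le_normalizer hfA)
      (CfsgLib.Base.le_centralizer_comm.1 fun y hy => ?_)
    refine mem_of_primary_parts _ y fun q hq hqy z hz ⟨k, hzk⟩ => ?_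
    haveI := Fact.mk hq
    have hzS : z ∈ sigmaCore M := zpowers_le.2 hy hz
    have hqS : q ∣ Nat.card (sigmaCore M) := hqy.trans (Subgroup.orderOf_dvd_natCard _ hy)
    haveI := (d.exceptional U hG).nil
    obtain ⟨Q₀⟩ : Nonempty (Sylow q (sigmaCore M)) := inferInstance
    haveI : (Q₀ : Subgroup (sigmaCore M)).Normal :=
      Q₀.normal_of_normalizerCondition Group.normalizerCondition_of_isNilpotent
    haveI := Q₀.characteristic_of_normal ‹_›
    haveI : Subsingleton (Sylow q (sigmaCore M)) := (Sylow.unique_of_normal Q₀ ‹_›).instSubsingleton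
    set V := (Q₀ : Subgroup (sigmaCore M)).map (sigmaCore M).subtype with hV
    have hVn : M ≤ normalizer (V : Set G) :=
      (le_normalizer_sigmaCore M).trans (CfsgLib.Base.normalizer_le_normalizer_map_subtype _ _)
    have hzV : z ∈ V := by
      obtain ⟨l, -, hl⟩ := (Nat.dvd_prime_pow hq).1 (orderOf_dvd_of_pow_eq_one hzk)
      have hp2 : IsPGroup q (zpowers (⟨z, hzS⟩ : sigmaCore M)) :=
        IsPGroup.of_card (n := l) (by rw [Nat.card_zpowers, Subgroup.orderOf_mk, hl])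
      obtain ⟨S', hS'⟩ := hp2.exists_le_sylow
      exact ⟨⟨z, hzS⟩, Subsingleton.elim S' Q₀ ▸ hS' (mem_zpowers _), rfl⟩
    have hqp : q ≠ p := fun h => not_dvd_sigmaCore d.sigma hp'.out (h ▸ hqS)
    have hqr : r ≠ q := fun h => not_dvd_sigmaCore
      (not_mem_sigma_of_dvd U.s1403 hG d.max d.compl hr'.out hrE) hr'.out (h ▸ hqS)
    have hndA : ∀ s : ℕ, s.Prime → s ≠ p → ¬ s ∣ Nat.card A := fun s hs hsp hd =>
      hsp ((Nat.prime_dvd_prime_iff_eq hs hp'.out).1 (hs.dvd_of_dvd_pow (d.card ▸ hd)))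
    have h := CfsgLib.FT.BG13.FixedPointPrime.commutator_le_centralizer_of_fpf (R := zpowers f)
      (Q := A) (V := V) hq hr'.out (by rw [Nat.card_zpowers, hfo]) (Q₀.isPGroup'.map _) hqr
      ((zpowers_le.2 (d.compl.1 hfE)).trans hVn) (d.le_max.trans hVn) hfA
      (minSimple_solvable hG (ne_top_of_le_maximal d.max d.le_max))
      (hG.1.of_dvd_nat (card_subgroup_dvd_card A)) (hndA r hr'.out hrp) (hndA q hq hqp)
      (by
        rw [eq_bot_iff, ← hfree f hfE hf1 hfr, centralizer_zpowers]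
        exact inf_le_inf_right _ (map_subtype_le _))
    exact CfsgLib.Base.le_centralizer_comm.1 h hzV
  -- a maximal subgroup over the normaliser of `⟨f⟩`
  set N := normalizer (zpowers f : Set G) with hN
  have hF1 : zpowers f ≠ ⊥ := fun h => hf1 (mem_bot.1 (h ▸ mem_zpowers f))
  obtain ⟨L, hL, hNL⟩ := exists_maximal_ge
    (minSimple_normalizer_ne_top hG hF1 (isPGroup_ne_top hG hfp))
  have hrσ : r ∉ Cfsg.sigma M := not_mem_sigma_of_dvd U.s1403 hG d.max d.compl hr'.out hrE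
  have hne : L ≠ M := fun h =>
    (sigma_or_tau2_of_normalizer_le U.s1403 hG d.max hfp hF1 (h ▸ hNL)).elim hrσ hr
  have heL : e ∈ L := hNL (centralizer_le_normalizer _ (by
    rw [centralizer_zpowers, mem_centralizer_singleton_iff, hf]
    exact (Commute.self_pow e _).eq))
  have hReL : zpowers e ≤ L := zpowers_le.2 heL
  have hAL : A ≤ L := fun a ha => hNL (centralizer_le_normalizer _ (by
    rw [centralizer_zpowers, mem_centralizer_singleton_iff]
    exact mem_centralizer_iff.1 hfC a ha))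
  have hLA : zpowers e ≤ normalizer (A : Set G) := zpowers_le.2 heA
  have hfinish : ⁅A, zpowers e⁆ = ⊥ → False := fun h => heC (by
    rw [commutator_comm, commutator_eq_bot_iff_le_centralizer] at h
    exact h (mem_zpowers e))
  have hcopAR : (Nat.card A).Coprime (Nat.card (zpowers e)) :=
    CfsgLib.FT.BG13.coprime_of_pGroups d.isPGroup hRp hrp.symm
  rcases sigma_or_tau2_of_normalizer_le U.s1403 hG hL hfp hF1 hNL with hrL | hrL
  · have hRσ := pgroup_le_sigmaCore U.s1403 hG hL hrL hRp hReL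
    apply hfinish
    by_cases hpL : p ∈ Cfsg.sigma L
    · have hAσ := pgroup_le_sigmaCore U.s1403 hG hL hpL d.isPGroup hAL
      have hpα : p ∉ Cfsg.alpha L := fun h => h.2 (d.pRankLE_two U hG hab L)
      rw [eq_bot_iff, ← CfsgLib.Base.inf_eq_bot_of_coprime
        (coprime_card_of_not_dvd d.isPGroup (not_dvd_alphaCore hpα))]
      exact le_inf (CfsgLib.Coprime.commutator_le_of_le_normalizer hLA)
        (commutator_le_alphaCore hG hL (hAσ.trans (sigmaCore_le_derived U.s1403 hG hL))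
          (hRσ.trans (sigmaCore_le_derived U.s1403 hG hL)) hcopAR)
    · rw [eq_bot_iff, ← CfsgLib.Base.inf_eq_bot_of_coprime
        (coprime_card_of_not_dvd d.isPGroup (not_dvd_sigmaCore hpL hp'.out))]
      exact le_inf (CfsgLib.Coprime.commutator_le_of_le_normalizer hLA)
        ((commutator_mono le_rfl hRσ).trans
          (le_normalizer_iff_commutator_le_right.1 (hAL.trans (le_normalizer_sigmaCore L))))
  obtain ⟨EL, hEL⟩ := exists_sigmaCompl U.s1403 hG hL
  by_cases hpL : p ∈ Cfsg.sigma L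
  swap
  · -- both primes outside `σ(L)`
    have hXs : ∀ q : ℕ, q.Prime → q ∣ Nat.card ↥(zpowers e ⊔ A) → q ∉ Cfsg.sigma L := by
      intro q hq hd
      rcases hq.dvd_mul.1 (hd.trans (CfsgLib.Coprime.card_sup_dvd hLA)) with h | h
      · rw [Nat.card_zpowers, hi] at h
        rw [(Nat.prime_dvd_prime_iff_eq hq hr'.out).1 (hq.dvd_of_dvd_pow h)]
        exact hrL.2.1
      · rw [(Nat.prime_dvd_prime_iff_eq hq hp'.out).1 (hq.dvd_of_dvd_pow (d.card ▸ h))]
        exact hpL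
    obtain ⟨m, -, hle⟩ := exists_cj_le_compl hG hL hEL (sup_le hReL hAL) hXs
    have d' : Elem p L EL (cj m A) := ⟨hL, hEL, hpL, (cj_mono le_sup_right).trans hle,
      CfsgLib.Base.isElementaryAbelian_map _ d.elem, (card_cj _ _).trans d.card⟩
    have hem : m * e * m⁻¹ ∈ EL := hle (conj_mem_cj.2 (mem_sup_left (mem_zpowers e)))
    have h := d'.tau2_mem_centralizer U hG hem fun q hq hd => by
      rw [← MulAut.conj_apply, show MulAut.conj m e = (MulAut.conj m).toMonoidHom e from rfl,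
        orderOf_injective _ (MulAut.conj m).injective, hi] at hd
      rw [(Nat.prime_dvd_prime_iff_eq hq hr'.out).1 (hq.dvd_of_dvd_pow hd)]
      exact hrL
    refine heC (mem_centralizer_iff.2 fun a ha => ?_)
    have h1 := mem_centralizer_iff.1 h _ (conj_mem_cj.2 ha : m * a * m⁻¹ ∈ cj m A)
    calc a * e = m⁻¹ * ((m * a * m⁻¹) * (m * e * m⁻¹)) * m := by group
      _ = m⁻¹ * ((m * e * m⁻¹) * (m * a * m⁻¹)) * m := by rw [h1]
      _ = e * a := by group
  -- `p ∈ σ(L)`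
  obtain ⟨B₀, hB₀E, hB₀, hB₀c⟩ := exists_elem_compl hG hL hEL hrL
  have dL : Elem r L EL B₀ := ⟨hL, hEL, hrL.2.1, hB₀E, hB₀, hB₀c⟩
  have hAσ := pgroup_le_sigmaCore U.s1403 hG hL hpL d.isPGroup hAL
  haveI := (dL.exceptional U hG).nil
  obtain ⟨Q₀⟩ : Nonempty (Sylow p (sigmaCore L)) := inferInstance
  haveI : (Q₀ : Subgroup (sigmaCore L)).Normal :=
    Q₀.normal_of_normalizerCondition Group.normalizerCondition_of_isNilpotent
  haveI := Q₀.characteristic_of_normal ‹_›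
  haveI : Subsingleton (Sylow p (sigmaCore L)) := (Sylow.unique_of_normal Q₀ ‹_›).instSubsingleton
  set S := (Q₀ : Subgroup (sigmaCore L)).map (sigmaCore L).subtype with hS
  have hSn : L ≤ normalizer (S : Set G) :=
    (le_normalizer_sigmaCore L).trans (CfsgLib.Base.normalizer_le_normalizer_map_subtype _ _)
  have hAS : A ≤ S := by
    obtain ⟨S', hS'⟩ := (d.isPGroup.comap_subtype (K := sigmaCore L)).exists_le_sylow
    rw [hS, ← map_subgroupOf_eq_of_le hAσ]
    exact map_mono (Subsingleton.elim S' Q₀ ▸ hS')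
  have hSA : S ≤ centralizer (A : Set G) := by
    obtain ⟨S₁, hS₁⟩ := hab
    obtain ⟨T, hT⟩ := exists_sylIn (p := p) E
    obtain ⟨g, -, hg⟩ := (sylIn_top S₁).exists_conj (Q₀.isPGroup'.map _ : IsPGroup p S) le_top
    intro s hs
    refine mem_centralizer_iff.2 fun a ha => ?_
    have h := hS₁.is_comm.comm (⟨_, hg (conj_mem_cj.2 (hAS ha))⟩ : (S₁ : Subgroup G))
      ⟨_, hg (conj_mem_cj.2 hs)⟩
    simp only [Subtype.ext_iff, Subgroup.coe_mul] at h
    calc a * s = g⁻¹ * ((g * a * g⁻¹) * (g * s * g⁻¹)) * g := by group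
      _ = g⁻¹ * ((g * s * g⁻¹) * (g * a * g⁻¹)) * g := by rw [h]
      _ = s * a := by group
  have hLN : L ≤ normalizer (A : Set G) := by
    intro g hg
    refine mem_normalizer_iff_cj.2 (eq_of_le_of_card_ge ?_ (card_cj g A).ge)
    intro x hx
    have hxS : x ∈ S := by
      rw [← mem_normalizer_iff_cj.1 (hSn hg)]
      exact cj_mono hAS hx
    exact d.mem_of_pow U hG (d.centralizer_le U hG (hSA hxS))
      ((CfsgLib.Base.isElementaryAbelian_map _ d.elem).2 x hx)
  obtain ⟨R, hR, heR⟩ := exists_sylIn_ge (p := r) hRp hReL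
  obtain ⟨m, -, hle⟩ := exists_cj_le_compl hG hL hEL hR.le fun q hq hd => by
    obtain ⟨l, hl⟩ := IsPGroup.iff_card.1 hR.isPGroup
    rw [(Nat.prime_dvd_prime_iff_eq hq hr'.out).1 (hq.dvd_of_dvd_pow (hl ▸ hd))]
    exact hrL.2.1
  have hRc : ∀ x ∈ R, ∀ y ∈ R, Commute x y := by
    intro x hx y hy
    have h := congrArg (Subtype.val : ↥(cj m R) → G)
      ((dL.le_centralizer U hG (isPGroup_cj hR.isPGroup) hle).1.is_comm.comm
        ⟨_, conj_mem_cj.2 hx⟩ ⟨_, conj_mem_cj.2 hy⟩)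
    simp only [Subgroup.coe_mul] at h
    calc x * y = m⁻¹ * ((m * x * m⁻¹) * (m * y * m⁻¹)) * m := by group
      _ = m⁻¹ * ((m * y * m⁻¹) * (m * x * m⁻¹)) * m := by rw [h]
      _ = y * x := by group
  obtain ⟨B, hBR, hB, hB2⟩ :=
    exists_elementary_sq (M := R) fun h => hrL.2.2.2 ((pRankLE_iff_sylIn hR).2 h)
  obtain ⟨b, hb, hbE⟩ : ∃ b ∈ B, b ∉ E := SetLike.not_le_iff_exists.1 fun h =>
    hr (tau2_of_le U.s1403 hG d.max hrσ (h.trans d.compl.1) hB hB2)
  have hbr : b ^ r = 1 := hB.2 b hb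
  have hbA : b ∉ centralizer (A : Set G) := fun h => hbE (d.centralizer_le U hG h)
  classical
  have hex : ∃ n, e ^ r ^ n ∈ centralizer (A : Set G) := ⟨i, hfC⟩
  obtain ⟨k, hk⟩ : ∃ k, Nat.find hex = k + 1 := ⟨Nat.find hex - 1, by
    rcases Nat.eq_zero_or_pos (Nat.find hex) with h | h
    · have h' := Nat.find_spec hex
      rw [h, pow_zero, pow_one] at h'
      exact (heC h').elim
    · omega⟩
  set e₁ := e ^ r ^ k with he₁
  have he₁C : e₁ ∉ centralizer (A : Set G) := Nat.find_min hex (by omega)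
  have he₁r : e₁ ^ r ∈ centralizer (A : Set G) := by
    rw [he₁, ← pow_mul, ← pow_succ, ← hk]
    exact Nat.find_spec hex
  have he₁R : e₁ ∈ R := pow_mem (heR (mem_zpowers e)) _
  have hfixed : ∀ w ∈ R, w ∉ centralizer (A : Set G) → A ⊓ centralizer ({w} : Set G) ≤ ⊥ := by
    intro w hw hwC a ha
    by_contra ha1
    obtain ⟨l, hl⟩ := IsPGroup.iff_orderOf.1 hR.isPGroup ⟨w, hw⟩
    rw [Subgroup.orderOf_mk] at hl
    exact hwC (mem_centralizer_of_fixed d.elem d.card hr2 hrp hd1 hl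
      (hLN (hR.le hw)) ha.1 ha1 (mem_centralizer_singleton_iff.1 ha.2).symm)
  refine d.ne_bot (le_bot_iff.1 (le_of_centralizer_le_mod (K := A) (W := R)
    (Z := R ⊓ centralizer (A : Set G)) (x := e₁) (y := b) hr'.out
    (fun w hw => mem_centralizer_iff.2 fun z hz => (hRc z hz.1 w hw).eq)
    (CfsgLib.Base.le_centralizer_comm.1 inf_le_right) inf_le_left (hR.le.trans hLN)
    (CfsgLib.FT.BG13.coprime_of_pGroups hR.isPGroup d.isPGroup hrp)
    (by rw [d.card]; exact ((Nat.coprime_primes hp'.out hr'.out).2 hrp.symm).pow_left 2)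
    (commutator_le.2 fun x hx y hy => by
      rw [commutatorElement_eq_one_iff_commute.2 (hRc x hx y hy)]; exact one_mem _)
    he₁R (hBR hb) ⟨pow_mem he₁R r, he₁r⟩ (by rw [hbr]; exact one_mem _)
    (hfixed b (hBR hb) hbA) fun l hl => hfixed _ (mul_mem he₁R (pow_mem (hBR hb) l)) fun h => ?_))
  have hblE : b ^ l ∈ E :=
    (Subgroup.mul_mem_cancel_left _ (pow_mem he _)).1 (d.centralizer_le U hG h)
  rcases Nat.eq_zero_or_pos l with rfl | hl0
  · rw [pow_zero, mul_one] at h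
    exact he₁C h
  have hco : l.Coprime (orderOf b) := by
    refine Nat.Coprime.coprime_dvd_right (orderOf_dvd_of_pow_eq_one hbr) ?_
    exact ((hr'.out.coprime_iff_not_dvd).2 fun h => absurd (Nat.le_of_dvd hl0 h) (by omega)).symm
  obtain ⟨c, hc⟩ := exists_pow_eq_self_of_coprime (x := b) hco
  exact hbE (hc ▸ pow_mem hblE c)

end Elem

end CfsgLib.FT.BG12
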