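import Cfsg.Agent.Lib.FT.BG12.Tau2
import Cfsg.Agent.Lib.OddOrder.RankTwoFitting

/-!
# BG 12.10 (a)-(c), 12.15 (a)-(c)
-/

set_option autoImplicit false
set_option linter.unusedSectionVars false
set_option linter.style.haveILetI false

open Subgroup Cfsg CfsgLib.OddOrder CfsgLib.Techniques

namespace CfsgLib.FT.BG12

universe u

variable {G : Type u} [Group G] [Finite G] {M : Subgroup G} {p : ℕ}

/-- Sylow subgroups for primes outside `σ(M)` are abelian. -/
theorem isMulCommutative_of_not_sigma (U : Up.{u}) (hG : IsMinSimpleOddOrder G) (hM : IsCoatom M)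
    [hp' : Fact p.Prime] (hp : p ∉ sigma M) {X : Subgroup G} (hX : IsPGroup p X) (hXM : X ≤ M) :
    IsMulCommutative X := by
  by_cases hd : p ∣ Nat.card M
  swap
  · have h1 : X = ⊥ := by
      by_contra h
      exact hd ((CfsgLib.FT.BG13.dvd_of_pGroup_ne_bot hX h).trans (card_dvd_of_le hXM))
    subst h1
    exact ⟨⟨fun a b => Subsingleton.elim _ _⟩⟩
  by_cases h1 : PRankLE p 1 M
  · haveI := isCyclic_of_tau hG h1 hd hX hXM
    letI := IsCyclic.commGroup (α := X)
    exact ⟨⟨mul_comm⟩⟩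
  obtain ⟨A, hAM, hA, hA2⟩ := exists_elementary_sq h1
  obtain ⟨T, hT, hXT⟩ := exists_sylIn_ge (p := p) hX hXM
  have h := ((tau2_exceptional U hG hM hp hAM hA hA2).sylow T hT).1
  refine ⟨⟨fun a b => Subtype.ext ?_⟩⟩
  exact congrArg (Subtype.val : T → G) (h.is_comm.comm ⟨a, hXT a.2⟩ ⟨b, hXT b.2⟩)

/-- BG 12.10 (a): nilpotent `σ(M)'`-subgroups are abelian. -/
theorem sigma'_nilpotent_abelian (U : Up.{u}) (hG : IsMinSimpleOddOrder G) (hM : IsCoatom M)
    {N : Subgroup G} (hNM : N ≤ M) (hN : Group.IsNilpotent N)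
    (hσ : ∀ q : ℕ, q.Prime → q ∣ Nat.card N → q ∉ sigma M) : IsMulCommutative N := by
  have key : ∀ a ∈ N, ∀ b ∈ N, a * b = b * a := by
    intro a ha b hb
    have h1 : a ∈ centralizer ({b} : Set G) := by
      refine mem_of_primary_parts _ a fun q hq hqa z hz ⟨i, hzi⟩ => ?_
      have hzN : z ∈ N := zpowers_le.2 ha hz
      have h2 : b ∈ centralizer ({z} : Set G) := by
        refine mem_of_primary_parts _ b fun r hr hrb w hw ⟨j, hwj⟩ => ?_
        have hwN : w ∈ N := zpowers_le.2 hb hw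
        rw [mem_centralizer_singleton_iff]
        obtain ⟨i', -, hzo⟩ := (Nat.dvd_prime_pow hq).1 (orderOf_dvd_of_pow_eq_one hzi)
        obtain ⟨j', -, hwo⟩ := (Nat.dvd_prime_pow hr).1 (orderOf_dvd_of_pow_eq_one hwj)
        by_cases hqr : q = r
        · subst hqr
          haveI := Fact.mk hq
          haveI := hN
          obtain ⟨S⟩ : Nonempty (Sylow q N) := inferInstance
          haveI : (S : Subgroup N).Normal :=
            S.normal_of_normalizerCondition Group.normalizerCondition_of_isNilpotent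
          haveI : Subsingleton (Sylow q N) := (Sylow.unique_of_normal S ‹_›).instSubsingleton
          have hmem : ∀ y, (hy : y ∈ N) → (∃ n, orderOf y = q ^ n) →
              y ∈ (S : Subgroup N).map N.subtype := by
            rintro y hy ⟨n, hn⟩
            have hp : IsPGroup q (zpowers (⟨y, hy⟩ : N)) :=
              IsPGroup.of_card (n := n) (by rw [Nat.card_zpowers, Subgroup.orderOf_mk, hn])
            obtain ⟨S', hS'⟩ := hp.exists_le_sylow
            exact ⟨⟨y, hy⟩, Subsingleton.elim S' S ▸ hS' (mem_zpowers _), rfl⟩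
          have hqN : q ∣ Nat.card N := hqa.trans (Subgroup.orderOf_dvd_natCard _ ha)
          have hc := isMulCommutative_of_not_sigma U hG hM (hσ q hq hqN) (S.isPGroup'.map _)
            ((map_subtype_le _).trans hNM)
          exact congrArg Subtype.val (hc.is_comm.comm ⟨w, hmem w hwN ⟨_, hwo⟩⟩ ⟨z, hmem z hzN ⟨_, hzo⟩⟩)
        · refine (commute_of_isNilpotent hN hwN hzN ?_).eq
          rw [hzo, hwo]
          exact ((Nat.coprime_primes hr hq).2 (Ne.symm hqr)).pow _ _
      rw [mem_centralizer_singleton_iff] at h2 ⊢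
      exact h2.symm
    exact mem_centralizer_singleton_iff.1 h1
  exact ⟨⟨fun a b => Subtype.ext (key a a.2 b b.2)⟩⟩

/-- BG 12.10 (b): `E'` is abelian. -/
theorem derived_sigmaCompl_abelian (U : Up.{u}) (hG : IsMinSimpleOddOrder G) (hM : IsCoatom M)
    {E : Subgroup G} (hE : IsComplIn E (sigmaCore M) M) : IsMulCommutative ↥⁅E, E⁆ :=
  sigma'_nilpotent_abelian U hG hM ((commutator_le_self E).trans hE.1)
    (isNilpotent_derived_sigmaCompl U.s1403 hG hM hE) fun _ hq hd =>
      not_mem_sigma_of_dvd U.s1403 hG hM hE hq (hd.trans (card_dvd_of_le (commutator_le_self E)))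

/-- A noncyclic `p`-subgroup of odd order contains an elementary subgroup of order `p²`. -/
theorem exists_sq_of_not_isCyclic (hG : IsMinSimpleOddOrder G) [hp' : Fact p.Prime]
    {P : Subgroup G} (hP : IsPGroup p P) (hc : ¬ IsCyclic P) :
    ∃ A : Subgroup G, A ≤ P ∧ IsElementaryAbelian p A ∧ Nat.card A = p ^ 2 := by
  refine exists_elementary_sq fun h => hc ?_
  by_cases hd : p ∣ Nat.card P
  · exact isCyclic_of_tau hG h hd hP le_rfl
  · have h1 : P = ⊥ := by
      by_contra h'
      exact hd (CfsgLib.FT.BG13.dvd_of_pGroup_ne_bot hP h')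
    rw [h1]
    infer_instance

/-- BG 12.10 (c). -/
theorem normalizer_le_of_not_isCyclic (U : Up.{u}) (hG : IsMinSimpleOddOrder G) (hM : IsCoatom M)
    [hp' : Fact p.Prime] (hp : p ∈ sigma M) {P : Subgroup G} (hP : IsPGroup p P) (hPM : P ≤ M)
    (hc : ¬ IsCyclic P) : normalizer (P : Set G) ≤ M := by
  obtain ⟨A, hAP, hA, hA2⟩ := exists_sq_of_not_isCyclic hG hP hc
  have hP1 : P ≠ ⊥ := fun e => hc (by rw [e]; infer_instance)
  rw [normalizer_eq_mul_centralizer U.s1403 hG hM hp hP hP1 hPM]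
  exact sup_le inf_le_left
    ((centralizer_le hAP).trans (centralizer_le_maximal U hG hM (hAP.trans hPM) hA hA2))

/-- BG 12.15 (a)-(c): the Sylow subgroup of an intersection. -/
theorem sylow_inter (U : Up.{u}) (hG : IsMinSimpleOddOrder G) (hM : IsCoatom M) {q : ℕ}
    [hq' : Fact q.Prime] (hq : q ∈ sigma M) {X : Subgroup G} (hXq : IsPGroup q X) (hX1 : X ≠ ⊥)
    (hXM : X ≤ M) {H : Subgroup G} (hH : IsCoatom H) (hne : H ≠ M)
    (hN : normalizer (X : Set G) ≤ H) {S : Subgroup G} (hS : SylIn q S (M ⊓ H)) (hXS : X ≤ S) :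
    (∀ g : G, H ≠ cj g M) ∧ normalizer (S : Set G) ≤ M ∧ SylIn q S H := by
  have hgrow : ∀ {T : Subgroup G}, IsPGroup q T → S < T → T ⊓ normalizer (S : Set G) ≤ M ⊓ H →
      False := fun {T} hT hlt hle => by
    have h := lt_inf_normalizer' hT hlt
    exact h.ne (hS.eq_of_le (hT.to_le inf_le_left) h.le hle).symm
  have hNS : normalizer (S : Set G) ≤ M := by
    by_cases hc : IsCyclic S
    · obtain ⟨T, hT, hST⟩ := exists_sylIn_ge (p := q) hS.isPGroup (hS.le.trans inf_le_left)
      rcases eq_or_lt_of_le hST with rfl | hlt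
      · exact sigma_normalizer_le hq hT
      · exact (hgrow hT.isPGroup hlt (le_inf (inf_le_left.trans hT.le) (inf_le_right.trans
          ((CfsgLib.FT.BG13.le_normalizer_of_isCyclic hc hXS le_rfl).trans hN)))).elim
    · exact normalizer_le_of_not_isCyclic U hG hM hq hS.isPGroup (hS.le.trans inf_le_left) hc
  refine ⟨not_conj_of_centralizer_le U.s1403 hG hM hq hXq hX1 hXM (le_normalizer.trans hN)
    ((centralizer_le_normalizer _).trans hN) hne, hNS, ?_⟩
  obtain ⟨T, hT, hST⟩ := exists_sylIn_ge (p := q) hS.isPGroup (hS.le.trans inf_le_right)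
  rcases eq_or_lt_of_le hST with rfl | hlt
  · exact hT
  · exact (hgrow hT.isPGroup hlt (le_inf (inf_le_right.trans hNS) (inf_le_left.trans hT.le))).elim

/-- BG 12.15 in the shape of row S1424. -/
theorem stmtS1424_of (U : Up.{u}) : StmtS1424.{u} := by
  intro G _ _ hG M hM q _ hq X hXq hX1 hXM H hH hne hN S hXS
  have h := sylow_inter U hG hM hq hXq hX1 hXM hH hne hN (sylIn_sylow_map S) hXS
  exact ⟨h.1, h.2.1, h.2.2.not_dvd⟩

end CfsgLib.FT.BG12
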