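import Cfsg.Agent.Lib.FT.BG12.NonAbelian
import Cfsg.Agent.Lib.OddOrder.SCN
import Cfsg.Agent.Lib.Components.RankTwo

/-!
# BG 12.14: centralisers of elements of order `p` in `M_σ'`
-/

set_option autoImplicit false
set_option linter.unusedSectionVars false
set_option linter.style.haveILetI false

open Subgroup Cfsg CfsgLib.OddOrder CfsgLib.Techniques
open scoped commutatorElement

namespace CfsgLib.FT.BG12

universe u

variable {G : Type u} [Group G] [Finite G] {M : Subgroup G} {p : ℕ}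

/-- With a normal `p`-complement, a Sylow subgroup meets the derived subgroup in its own. -/
theorem sylIn_inf_derived_le [Fact p.Prime] {L T : Subgroup G} (hT : SylIn p T L)
    (h : HasNormalPComplement p L) : T ⊓ ⁅L, L⁆ ≤ ⁅T, T⁆ := by
  obtain ⟨P, N, hN, hc⟩ := h
  obtain ⟨S, rfl⟩ := exists_sylow_of_sylIn hT
  rintro x ⟨⟨s, hs, rfl⟩, hx⟩
  have hNc : ¬ p ∣ Nat.card N := by
    rw [← hc.index_eq_card]
    exact P.not_dvd_index
  have hPS : Nat.card (P : Subgroup L) = Nat.card (S : Subgroup L) := by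
    rw [P.card_eq_multiplicity, S.card_eq_multiplicity]
  have hcopS : (Nat.card (S : Subgroup L)).Coprime (Nat.card N) := by
    obtain ⟨j, hj⟩ := IsPGroup.iff_card.1 S.isPGroup'
    exact hj ▸ ((Fact.out : p.Prime).coprime_iff_not_dvd.2 hNc).pow_left j
  have hcS : N.IsComplement' (S : Subgroup L) :=
    isComplement'_of_coprime (by rw [← hPS]; exact hc.card_mul) hcopS.symm
  have hNS : (S : Subgroup L) ⊓ N = ⊥ := CfsgLib.Base.inf_eq_bot_of_coprime hcopS
  set f := QuotientGroup.mk' N with hf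
  have htop : (S : Subgroup L).map f = ⊤ := by
    have h1 := congrArg (Subgroup.map f) hcS.sup_eq_top
    rwa [Subgroup.map_sup, QuotientGroup.map_mk'_self, bot_sup_eq,
      map_top_of_surjective _ (QuotientGroup.mk'_surjective N)] at h1
  rw [← map_subtype_commutator] at hx
  obtain ⟨w, hw, hwe⟩ := hx
  rw [Subtype.ext hwe] at hw
  have h2 : f s ∈ ⁅(S : Subgroup L), (S : Subgroup L)⁆.map f := by
    rw [map_commutator, htop, ← map_top_of_surjective f (QuotientGroup.mk'_surjective N),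
      ← map_commutator, ← _root_.commutator_def]
    exact mem_map_of_mem f hw
  obtain ⟨c, hc', hce⟩ := h2
  have h3 : c⁻¹ * s ∈ (S : Subgroup L) ⊓ N :=
    ⟨(S : Subgroup L).mul_mem ((S : Subgroup L).inv_mem (commutator_le_self _ hc')) hs, QuotientGroup.eq.1 hce⟩
  rw [hNS, mem_bot, inv_mul_eq_one] at h3
  rw [← map_commutator]
  exact ⟨s, h3 ▸ hc', rfl⟩

variable [hp' : Fact p.Prime]

/-- In a `p`-group of rank at least three a derived element of order `p` has a centraliser of rank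
at least three. -/
theorem not_pRankLE_centralizer {P : Type*} [Group P] [Finite P] (hp2 : p ≠ 2) (hP : IsPGroup p P)
    (hr : ¬ PRankLE p 2 P) {x : P} (hx : x ∈ commutator P) (hxp : x ^ p = 1) :
    ¬ PRankLE p 2 ↥(centralizer ({x} : Set P)) := by
  obtain ⟨E, hE, hE3⟩ : ∃ E : Subgroup P, IsElementaryAbelian p E ∧ p ^ 3 ≤ Nat.card E := by
    rw [CfsgLib.Base.pRankLE_iff] at hr
    push Not at hr
    obtain ⟨E, hE, hc⟩ := hr
    obtain ⟨n, hn⟩ := CfsgLib.Base.exists_card_eq_pow_of_isElementaryAbelian hE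
    rw [hn] at hc
    exact ⟨E, hE, hn.symm ▸ Nat.pow_le_pow_right hp'.out.pos ((Nat.pow_lt_pow_iff_right hp'.out.one_lt).1 hc)⟩
  obtain ⟨V, hVn, hV, hV2⟩ := CfsgLib.Components.exists_normal_sq hP hE hE3
  have hVC : commutator P ≤ centralizer (V : Set P) := by
    haveI hn : (centralizer (V : Set P)).Normal := normal_centralizer
    obtain ⟨n, hn'⟩ := IsPGroup.iff_card.1 (hP.to_quotient (centralizer (V : Set P)))
    have hle : (centralizer (V : Set P)).index ≤ p ^ 1 := CfsgLib.PGroups.index_centralizer_le hP 2 hV2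
    rw [index_eq_card, hn'] at hle
    have hn1 : n ≤ 1 := (Nat.pow_le_pow_iff_right hp'.out.one_lt).1 hle
    haveI : IsCyclic (P ⧸ centralizer (V : Set P)) := by
      interval_cases n
      · haveI : Subsingleton (P ⧸ centralizer (V : Set P)) :=
          (Nat.card_eq_one_iff_unique.1 (by rw [hn', pow_zero])).1
        exact isCyclic_of_subsingleton
      · exact isCyclic_of_prime_card (p := p) (by rw [hn', pow_one])
    letI := IsCyclic.commGroup (α := P ⧸ centralizer (V : Set P))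
    rw [_root_.commutator_def, commutator_le]
    intro a _ b _
    rw [← QuotientGroup.eq_one_iff, ← QuotientGroup.mk'_apply, map_commutatorElement,
      commutatorElement_eq_one_iff_mul_comm]
    exact mul_comm _ _
  intro h
  by_cases hxV : x ∈ V
  · haveI := hVn
    obtain ⟨A, hVA, -, hA, hAc⟩ := exists_normal_elementary_ge hp2 hP hr V hV
    exact not_le.2 hAc (CfsgLib.Base.pRankLE_subgroup_iff.1 h A (fun a ha =>
      mem_centralizer_singleton_iff.2 (congrArg Subtype.val
        (hA.1.is_comm.comm (⟨a, ha⟩ : A) ⟨x, hVA hxV⟩))) hA)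
  · have hc : V ≤ centralizer (zpowers x : Set P) :=
      CfsgLib.Base.le_centralizer_comm.1 (zpowers_le.2 (hVC hx))
    have hW := CfsgLib.Base.isElementaryAbelian_sup hV
      (CfsgLib.Base.isElementaryAbelian_zpowers hxp) hc
    have h2 := CfsgLib.Base.pRankLE_subgroup_iff.1 h (V ⊔ zpowers x) (sup_le
      (centralizer_zpowers x ▸ hc)
      (zpowers_le.2 (mem_centralizer_singleton_iff.2 rfl))) hW
    have hlt : Nat.card V < Nat.card ↥(V ⊔ zpowers x) := card_lt_of_lt
      (lt_of_le_of_ne le_sup_left fun e => hxV (e ▸ mem_sup_right (mem_zpowers x)))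
    omega

/-- The derived subgroup of a nonabelian Sylow subgroup of rank two is centralised by `P₁`. -/
theorem exists_nonabelian_le_centralizer (U : Up.{u}) (hG : IsMinSimpleOddOrder G) {T : Subgroup G}
    (hT : SylIn p T ⊤) (hr : PRankLE p 2 T) (hna : ¬ IsMulCommutative T) {X : Subgroup G}
    (hX : X ≤ ⁅T, T⁆) :
    ∃ P₁ : Subgroup G, P₁ ≤ T ∧ ¬ IsMulCommutative P₁ ∧ P₁ ≤ centralizer (X : Set G) := by
  obtain ⟨S, rfl⟩ := hT.to_sylow
  obtain ⟨P₁, P₂, e1, e2, e3, e4, -, e6, -⟩ := (U.s1412 hG p S hr).resolve_left hna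
  refine ⟨P₁, e1 ▸ le_sup_left, e3, ?_⟩
  have h12 : P₂ ≤ centralizer (P₁ : Set G) := fun b hb =>
    mem_centralizer_iff.2 fun a ha => e2 a ha b hb
  have hder : ⁅(S : Subgroup G), (S : Subgroup G)⁆ ≤ P₁ ⊓ centralizer (P₁ : Set G) := by
    have hcc := congrArg (Subgroup.map P₁.subtype) (commutator_eq_center_of_card_cube e4 e3)
    rw [map_subtype_commutator] at hcc
    have h1 : ⁅P₁, P₁⁆ ≤ P₁ ⊓ centralizer (P₁ : Set G) := by
      rw [hcc]
      rintro _ ⟨y, hy, rfl⟩
      exact ⟨y.2, mem_centralizer_iff.2 fun w hw =>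
        congrArg Subtype.val (mem_center_iff.1 hy ⟨w, hw⟩)⟩
    refine le_trans ?_ h1
    have key : ∀ g ∈ (S : Subgroup G), ∃ a ∈ P₁, ∃ b ∈ P₂, b * a = g := fun g hg => by
      rw [← e1, sup_comm, CfsgLib.Coprime.mem_sup_iff_of_le_normalizer
        (h12.trans (centralizer_le_normalizer _))] at hg
      obtain ⟨b, hb, a, ha, h⟩ := hg
      exact ⟨a, ha, b, hb, h⟩
    refine commutator_le.2 fun g hg k hk => ?_
    obtain ⟨a, ha, b, hb, rfl⟩ := key g hg
    obtain ⟨c, hc, d, hd, rfl⟩ := key k hk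
    have hbd : Commute b d :=
      haveI := e6
      letI := IsCyclic.commGroup (α := P₂)
      congrArg Subtype.val (mul_comm (⟨b, hb⟩ : P₂) ⟨d, hd⟩)
    have had : Commute a d := e2 a ha d hd
    have hbc : Commute b c := (e2 c hc b hb).symm
    have hab : Commute a b := e2 a ha b hb
    have hcd : Commute c d := e2 c hc d hd
    have : ⁅b * a, d * c⁆ = ⁅a, c⁆ := by
      rw [commutatorElement_def, commutatorElement_def, mul_inv_rev, mul_inv_rev]
      calc b * a * (d * c) * (a⁻¹ * b⁻¹) * (c⁻¹ * d⁻¹)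
          = b * (a * d) * c * (a⁻¹ * b⁻¹) * (c⁻¹ * d⁻¹) := by group
        _ = b * d * (a * c * a⁻¹) * (b⁻¹ * c⁻¹) * d⁻¹ := by rw [had.eq]; group
        _ = b * d * (a * c * a⁻¹) * (c⁻¹ * b⁻¹) * d⁻¹ := by rw [hbc.inv_inv.eq]
        _ = (b * d) * (a * c * a⁻¹ * c⁻¹) * (b⁻¹ * d⁻¹) := by group
        _ = (a * c * a⁻¹ * c⁻¹) * (b * d) * (b⁻¹ * d⁻¹) := by
            rw [((((hab.symm.mul_right hbc).mul_right hab.symm.inv_right).mul_right
              hbc.inv_right).mul_left (((had.symm.mul_right hcd.symm).mul_right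
              had.symm.inv_right).mul_right hcd.symm.inv_right)).eq]
        _ = a * c * a⁻¹ * c⁻¹ := by rw [hbd.eq]; group
    rw [this]
    exact commutator_mem_commutator ha hc
  exact CfsgLib.Base.le_centralizer_comm.1 (hX.trans (hder.trans inf_le_right))

/-- BG 12.14. -/
theorem sigma_derived_unique (U : Up.{u}) (hG : IsMinSimpleOddOrder G) (hM : IsCoatom M)
    (hp : p ∈ sigma M) {X : Subgroup G} (hXM : X ≤ M) (hX : Nat.card X = p)
    (h : p ∈ beta M ∨ X ≤ ⁅sigmaCore M, sigmaCore M⁆) :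
    (centralizer (X : Set G) ≤ M ∧
      ∀ L : Subgroup G, IsCoatom L → centralizer (X : Set G) ≤ L → L = M) ∧
      ∀ T : Subgroup G, SylIn p T (sigmaCore M) → InUniqueMaximal T := by
  have hX1 := CfsgLib.FT.BG13.ne_bot_of_card_prime hX
  have hXp := CfsgLib.FT.BG13.isPGroup_of_card_prime hX
  have hCt : centralizer (X : Set G) ≠ ⊤ := fun e =>
    minSimple_normalizer_ne_top hG hX1 (ne_top_of_le_maximal hM hXM)
      (top_le_iff.1 (e ▸ centralizer_le_normalizer _))
  have hconv : ∀ {K : Subgroup G}, InUniqueMaximal K → K ≤ M → K ≤ centralizer (X : Set G) →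
      centralizer (X : Set G) ≤ M ∧
        ∀ L : Subgroup G, IsCoatom L → centralizer (X : Set G) ≤ L → L = M := fun hK hKM hKC =>
    ⟨le_of_inUniqueMaximal hK hM hKM hKC hCt, fun L hL hle =>
      eq_of_inUniqueMaximal hK hM hKM hL (hKC.trans hle)⟩
  have hsyl : ∀ {T : Subgroup G}, SylIn p T (sigmaCore M) → SylIn p T M := fun {T} hT => by
    refine ⟨hT.le.trans (sigmaCore_le M), hT.isPGroup, fun hd => ?_⟩
    rw [← relIndex_mul_relIndex _ _ _ hT.le (sigmaCore_le M)] at hd
    exact (hp'.out.dvd_mul.1 hd).elim hT.not_dvd ((sigmaCore_hall U.s1403 hG hM).2.2 p hp'.out hp)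
  have huT : ∀ {T : Subgroup G}, SylIn p T (sigmaCore M) → ¬ PRankLE p 2 T → InUniqueMaximal T :=
    fun {T} hT h3 => inUniqueMaximal_of_pRank U.s1403 hG hp'.out (isPGroup_ne_top hG hT.isPGroup) h3
  by_cases hβ : p ∈ beta M
  · refine ⟨hconv (inUniqueMaximal_of_pRank U.s1403 hG hp'.out (ne_top_of_le_maximal hM inf_le_left)
      (U.betaCentRank hG M hM p hβ X hXM hX)) inf_le_left inf_le_right, fun T hT => huT hT ?_⟩
    exact fun h2 => hβ.1.2 ((pRankLE_iff_sylIn (hsyl hT)).2 h2)
  have hX' : X ≤ ⁅sigmaCore M, sigmaCore M⁆ := h.resolve_left hβ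
  obtain ⟨T, hT, hXT⟩ := exists_sylIn_ge (p := p) hXp (hX'.trans (commutator_le_self _))
  have hXd : X ≤ ⁅T, T⁆ := (le_inf hXT hX').trans
    (sylIn_inf_derived_le hT ((U.s1414 hG M hM).2.2.2.2 p hp'.out hp.2.1 hβ).2.1)
  have hna : ∀ {T' : Subgroup G}, SylIn p T' (sigmaCore M) → ¬ IsMulCommutative T' := by
    intro T' hT' hc
    obtain ⟨k, -, rfl⟩ := hT'.exists_conj_eq hT
    refine hX1 (eq_bot_iff.2 fun x hx => ?_)
    have h0 : cj k ⁅T, T⁆ = ⊥ := by
      rw [cj_commutator, eq_bot_iff, commutator_le]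
      intro a ha b hb
      rw [mem_bot, commutatorElement_eq_one_iff_mul_comm]
      exact congrArg (Subtype.val : cj k T → G) (hc.is_comm.comm ⟨a, ha⟩ ⟨b, hb⟩)
    rw [← cj_eq_bot_iff.1 h0]
    exact hXd hx
  refine ⟨?_, fun T' hT' => inUniqueMaximal_of_nonabelian U hG hT'.isPGroup (hna hT')⟩
  by_cases hr : PRankLE p 2 T
  · obtain ⟨P₁, h1, h2, h3⟩ := exists_nonabelian_le_centralizer U hG
      (sigma_sylIn_top hp (hsyl hT)) hr (hna hT) hXd
    exact hconv (inUniqueMaximal_of_nonabelian U hG (hT.isPGroup.to_le h1) h2)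
      (h1.trans (hsyl hT).le) h3
  · obtain ⟨⟨x, hxX⟩, hx⟩ := exists_prime_orderOf_dvd_card' (G := X) p (by rw [hX])
    rw [Subgroup.orderOf_mk] at hx
    have hgen : zpowers x = X := eq_of_le_of_card_ge (zpowers_le.2 hxX)
      (by rw [Nat.card_zpowers, hx, hX])
    have hxd := hXd hxX
    rw [← map_subtype_commutator] at hxd
    obtain ⟨w, hw, hwe⟩ := hxd
    have hwp : w ^ p = 1 := Subtype.ext (by
      rw [SubmonoidClass.coe_pow, OneMemClass.coe_one, show ((w : T) : G) = x from hwe, ← hx,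
        pow_orderOf_eq_one])
    have h3 := not_pRankLE_centralizer (minSimple_ne_two hG
      (hp.2.1.trans (card_subgroup_dvd_card M))) hT.isPGroup hr hw hwp
    set K := (centralizer ({w} : Set T)).map T.subtype with hK
    have hKM : K ≤ M := (map_subtype_le _).trans (hsyl hT).le
    refine hconv (inUniqueMaximal_of_pRank U.s1403 hG hp'.out (ne_top_of_le_maximal hM hKM)
      fun hk => h3 ((CfsgLib.Base.pRankLE_congr
        ((centralizer ({w} : Set T)).equivMapOfInjective T.subtype T.subtype_injective)).2 hk)) hKM ?_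
    rw [← hgen, centralizer_zpowers]
    rintro _ ⟨c, hc, rfl⟩
    rw [mem_centralizer_singleton_iff, ← hwe]
    exact congrArg Subtype.val (mem_centralizer_singleton_iff.1 hc)

/-- BG 12.14 in the shape of row S1423. -/
theorem stmtS1423_of (U : Up.{u}) : StmtS1423.{u} := by
  intro G _ _ hG M hM p _ hp X hXM hX P h
  have h0 := sigma_derived_unique U hG hM hp hXM hX h
  exact ⟨h0.1, h0.2 _ (sylIn_sylow_map P), (map_subtype_le _).trans (sigmaCore_le M)⟩

end CfsgLib.FT.BG12
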