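import Cfsg.Agent.Lib.FT.BG12.SigmaDerived
import Cfsg.Agent.Lib.OddOrder.HallDerived

/-!
# BG 12.17: intersections of `M_σ` with conjugates of `M`
-/

set_option autoImplicit false
set_option linter.unusedSectionVars false
set_option linter.style.haveILetI false

open Subgroup Cfsg CfsgLib.OddOrder CfsgLib.Techniques
open scoped commutatorElement

namespace CfsgLib.FT.BG12

universe u

variable {G : Type u} [Group G] [Finite G] {M E : Subgroup G}

/-- BG 12.17, the action of `E` on `M_σ`. -/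
theorem sigmaCore_commutator (U : Up.{u}) (hG : IsMinSimpleOddOrder G) (hM : IsCoatom M)
    (hE : IsComplIn E (sigmaCore M) M) :
    sigmaCore M ⊓ centralizer (E : Set G) ≤ ⁅sigmaCore M, sigmaCore M⁆ ∧
      ⁅sigmaCore M, E⁆ = sigmaCore M := by
  haveI := maximal_solvable hG hM
  set H := piCore (sigma M) M with hH
  set K := E.subgroupOf M with hK
  have hc : H.IsComplement' K := (isComplement'_sigmaCompl hE).symm
  have hKE : K.map M.subtype = E := map_subgroupOf_eq_of_le hE.1
  have hcop : (Nat.card H).Coprime H.index := by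
    refine Nat.coprime_of_dvd fun q hq h1 h2 => ?_
    rw [hc.symm.index_eq_card, CfsgLib.Base.card_subgroupOf hE.1] at h2
    exact not_mem_sigma_of_dvd U.s1403 hG hM hE hq h2 (CfsgLib.Base.piCore_primes _ _ q hq h1)
  have hle : H ≤ commutator M := by
    intro x hx
    have h1 : (x : G) ∈ (commutator M).map M.subtype := by
      rw [map_subtype_commutator]
      exact sigmaCore_le_derived U.s1403 hG hM ⟨x, hx, rfl⟩
    exact (mem_map_iff_mem M.subtype_injective).1 h1
  obtain ⟨h1, h2⟩ := hall_le_derived hcop hc hle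
  refine ⟨?_, ?_⟩
  · rintro _ ⟨⟨x, hx, rfl⟩, hxC⟩
    rw [sigmaCore, ← map_commutator]
    refine ⟨x, h2 ⟨hx, mem_centralizer_iff.2 fun k hk => Subtype.ext ?_⟩, rfl⟩
    exact mem_centralizer_iff.1 hxC k hk
  · conv_lhs => rw [← hKE, sigmaCore, ← map_commutator, ← h1]
    rfl

/-- BG 12.17, the intersection. -/
theorem sigmaCore_inter_cj (U : Up.{u}) (hG : IsMinSimpleOddOrder G) (hM : IsCoatom M) {g : G}
    (hg : g ∉ M) :
    IsCyclic ↥(sigmaCore M ⊓ cj g M) ∧
      (∀ p : ℕ, p.Prime → p ∣ Nat.card ↥(sigmaCore M ⊓ cj g M) → p ∉ beta M) ∧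
      sigmaCore M ⊓ cj g M ⊓ ⁅sigmaCore M, sigmaCore M⁆ = ⊥ := by
  set X := sigmaCore M ⊓ cj g M with hX
  have hXM : X ≤ M := inf_le_left.trans (sigmaCore_le M)
  have key : ∀ {q : ℕ} [Fact q.Prime] {Q : Subgroup G}, IsPGroup q Q → Q ≠ ⊥ → Q ≤ X →
      centralizer (Q : Set G) ≤ M → False := fun {q} _ {Q} hQ hQ1 hQX hC => by
    have hd := (CfsgLib.FT.BG13.dvd_of_pGroup_ne_bot hQ hQ1).trans
      (card_dvd_of_le (hQX.trans inf_le_left))
    exact hg (mem_maximal_of_cj_eq hG hM (cj_eq_of_centralizer_le U.s1403 hG hM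
      ((sigmaCore_hall U.s1403 hG hM).2.1 q Fact.out hd) hQ hQ1 (hQX.trans hXM) hC
      (hQX.trans inf_le_right)))
  have hline : ∀ {q : ℕ}, q.Prime → ∀ Y : Subgroup G, Y ≤ X → Nat.card Y = q →
      (q ∈ beta M ∨ Y ≤ ⁅sigmaCore M, sigmaCore M⁆) → False := fun {q} hq Y hY hc h => by
    haveI := Fact.mk hq
    have hqσ : q ∈ sigma M := (sigmaCore_hall U.s1403 hG hM).2.1 q hq
      (hc ▸ card_dvd_of_le (hY.trans inf_le_left))
    exact key (CfsgLib.FT.BG13.isPGroup_of_card_prime hc)
      (CfsgLib.FT.BG13.ne_bot_of_card_prime hc) hY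
      (sigma_derived_unique U hG hM hqσ (hY.trans hXM) hc h).1.1
  have hder : X ⊓ ⁅sigmaCore M, sigmaCore M⁆ = ⊥ := by
    by_contra h
    obtain ⟨q, hq, -, Y, hY, hc⟩ := CfsgLib.FT.BG13.exists_card_prime h
    exact hline hq Y (hY.trans inf_le_left) hc (Or.inr (hY.trans inf_le_right))
  refine ⟨?_, fun q hq hd hβ => ?_, hder⟩
  · haveI : IsZGroup X := ⟨fun q hq S => by
      haveI := Fact.mk hq
      by_contra h
      have hS := (S.isPGroup').map X.subtype
      have hc : ¬ IsCyclic ((S : Subgroup X).map X.subtype) := fun hc => h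
        (isCyclic_of_surjective ((S : Subgroup X).equivMapOfInjective _ X.subtype_injective).symm
          (MulEquiv.surjective _))
      obtain ⟨A, hAQ, hA, hA2⟩ := exists_sq_of_not_isCyclic hG hS hc
      refine key hS (fun e => hc (by rw [e]; infer_instance)) (map_subtype_le _) ?_
      exact (centralizer_le hAQ).trans (centralizer_le_maximal U hG hM
        (hAQ.trans ((map_subtype_le _).trans hXM)) hA hA2)⟩
    haveI : IsMulCommutative X := ⟨⟨fun a b => Subtype.ext ?_⟩⟩
    · letI : CommGroup X := { (inferInstance : Group X) with mul_comm := mul_comm' }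
      infer_instance
    · have h1 : ⁅(a : G), (b : G)⁆ ∈ X ⊓ ⁅sigmaCore M, sigmaCore M⁆ :=
        ⟨commutator_le_self X (commutator_mem_commutator a.2 b.2),
          commutator_mem_commutator a.2.1 b.2.1⟩
      rw [hder, mem_bot, commutatorElement_eq_one_iff_mul_comm] at h1
      exact h1
  · haveI := Fact.mk hq
    obtain ⟨y, hy⟩ := exists_prime_orderOf_dvd_card' (G := X) q hd
    exact hline hq (zpowers (y : G)) (zpowers_le.2 y.2)
      (by rw [Nat.card_zpowers, Subgroup.orderOf_coe, hy]) (Or.inl hβ)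

/-- BG 12.17 in the shape of row S1426. -/
theorem stmtS1426_of (U : Up.{u}) : StmtS1426.{u} := by
  intro G _ _ hG M hM E hE
  have h := sigmaCore_commutator U hG hM hE
  exact ⟨h.1, h.2, fun g hg => sigmaCore_inter_cj U hG hM hg⟩

end CfsgLib.FT.BG12
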