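import Cfsg.Agent.Lib.FT.BG12.TwoElem

/-!
# BG 12.5 and 12.6: the primes in `τ₂(M)`
-/

set_option autoImplicit false
set_option linter.unusedSectionVars false

open Subgroup Cfsg CfsgLib.OddOrder CfsgLib.Techniques
open scoped commutatorElement Pointwise

namespace CfsgLib.FT.BG12

open CfsgLib.FT.BG13 (ne_bot_of_card_prime)

universe u

variable {G : Type u} [Group G] [Finite G] {M H A : Subgroup G} {p : ℕ} [hp' : Fact p.Prime]

/-- Hypothesis 11.1 holds for `p ∈ τ₂(M)`. -/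
theorem tau2_exceptional (U : Up.{u}) (hG : IsMinSimpleOddOrder G) (hM : IsCoatom M)
    (hp : p ∉ sigma M) (hAM : A ≤ M) (hA : IsElementaryAbelian p A) (hA2 : Nat.card A = p ^ 2) :
    ExceptionalConj M p A := by
  by_cases hNU : NonUniq p M A
  · exact absurd (nonUniq_sigma U hG hM hAM hA hA2 hNU).1 hp
  simp only [NonUniq, not_forall, not_not] at hNU
  obtain ⟨A₀, hA₀, hA₀c, hN, -⟩ := hNU
  exact U.exceptional hG M hM p hp A A₀ hAM hA hA2 hA₀ hA₀c hN

theorem centralizer_sylow_ne (hG : IsMinSimpleOddOrder G) (hM : IsCoatom M) {T : Subgroup G}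
    (hT : SylIn p T M) (hp : p ∉ sigma M) (hd : p ∣ Nat.card M) :
    ¬ normalizer (T : Set G) ≤ M := fun h =>
  hp ((mem_sigma_iff hT).2 ⟨hd, h⟩)

theorem tau2_of_le (h1403 : StmtS1403.{u}) (hG : IsMinSimpleOddOrder G) (hM : IsCoatom M)
    (hp : p ∉ sigma M) (hAM : A ≤ M) (hA : IsElementaryAbelian p A) (hA2 : Nat.card A = p ^ 2) :
    p ∈ tau2 M := by
  refine ⟨hp'.out, hp, pRankLE_two_of_not_sigma h1403 hG hM hp, fun h => ?_⟩
  have h1 := CfsgLib.Base.pRankLE_subgroup_iff.1 h A hAM hA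
  rw [hA2, pow_one] at h1
  have := hp'.out.one_lt
  nlinarith [hp'.out.two_le]

theorem dvd_of_sq (hAM : A ≤ M) (hA2 : Nat.card A = p ^ 2) : p ∣ Nat.card M :=
  (hA2 ▸ dvd_pow_self p two_ne_zero).trans (card_dvd_of_le hAM)

/-- BG 12.5 (d). -/
theorem inter_other (U : Up.{u}) (hG : IsMinSimpleOddOrder G) (hM : IsCoatom M)
    (hp : p ∉ sigma M) (hAM : A ≤ M) (hA : IsElementaryAbelian p A) (hA2 : Nat.card A = p ^ 2)
    (hH : IsCoatom H) (hne : H ≠ M) (hAH : A ≤ H) : sigmaCore M ⊓ H = ⊥ := by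
  have hex := tau2_exceptional U hG hM hp hAM hA hA2
  have hAp : IsPGroup p A := CfsgLib.Base.isPGroup_of_isElementaryAbelian hA
  have hn : A ≤ normalizer ((sigmaCore M ⊓ H : Subgroup G) : Set G) :=
    CfsgLib.Coprime.le_normalizer_inf_inf (hAM.trans (le_normalizer_sigmaCore M))
      (hAH.trans le_normalizer)
  have hX : ¬ p ∣ Nat.card ↥(sigmaCore M ⊓ H) := fun h =>
    not_dvd_sigmaCore hp hp'.out (h.trans (card_dvd_of_le inf_le_left))
  have hc : ⁅sigmaCore M ⊓ H, A⁆ ≤ sigmaCore M ⊓ H :=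
    CfsgLib.Coprime.commutator_le_of_le_normalizer hn
  have hHσ : ⁅sigmaCore M ⊓ H, A⁆ ≤ sigmaCore H := by
    by_cases hpH : p ∈ sigma H
    · exact (commutator_mono inf_le_right (pgroup_le_sigmaCore U.s1403 hG hH hpH hAp hAH)).trans
        (le_normalizer_iff_commutator_le_right.1 (le_normalizer_sigmaCore H))
    · have hexH := tau2_exceptional U hG hH hpH hAH hA hA2
      refine le_of_mul_pgroup hAp (hAH.trans (le_normalizer_sigmaCore H)) ?_
        fun h => hX (h.trans (card_dvd_of_le hc))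
      exact (commutator_mono inf_le_right (le_sup_right (a := sigmaCore H))).trans
        (le_normalizer_iff_commutator_le_right.1 hexH.normal)
  have hcent : A ≤ centralizer ((sigmaCore M ⊓ H : Subgroup G) : Set G) := by
    refine le_centralizer_of_commutator_trivial (Y := ⊥) hn (coprime_card_of_not_dvd hAp hX)
      (minSimple_solvable hG (ne_top_of_le_maximal hM hAM)) ?_ (commutator_bot_left A)
    exact (le_inf (hc.trans inf_le_left) hHσ).trans (hex.disjoint H hH hAH hne).le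
  exact le_bot_iff.1 (hex.cent ▸ le_inf inf_le_left (CfsgLib.Base.le_centralizer_comm.1 hcent))

/-- BG 12.5 in the shape of row S1417. -/
theorem stmtS1417_of (U : Up.{u}) : StmtS1417.{u} := by
  intro G _ _ hG M hM p hpf hp A ⟨hAM, hA, hA2⟩
  have hex := tau2_exceptional U hG hM hp.2.1 hAM hA hA2
  refine ⟨hex.nil, fun P => ?_, hex.normal, hex.cent,
    fun L hL hne hAL => inter_other U hG hM hp.2.1 hAM hA hA2 hL hne hAL, ?_⟩
  · have hT := sylIn_sylow_map P
    have h := hex.sylow _ hT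
    refine ⟨⟨⟨fun a b => ?_⟩⟩, fun hAT => ⟨h.2 hAT,
      centralizer_sylow_ne hG hM hT hp.2.1 (dvd_of_sq hAM hA2)⟩⟩
    have h1 := h.1.is_comm.comm ⟨_, mem_map_of_mem M.subtype a.2⟩ ⟨_, mem_map_of_mem M.subtype b.2⟩
    exact Subtype.ext (Subtype.ext (by simpa using congrArg Subtype.val h1))
  · obtain ⟨A₁, A₂, h1, -, hc, -, -, h2, -⟩ := hex.lines
    exact ⟨A₁, h1, hc, h2⟩

variable {E : Subgroup G}

/-- BG 12.6 (a): `A ⊴ E`. -/
theorem le_normalizer_elem (U : Up.{u}) (hG : IsMinSimpleOddOrder G) (hM : IsCoatom M)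
    (hE : IsComplIn E (sigmaCore M) M) (hp : p ∉ sigma M) (hAE : A ≤ E)
    (hA : IsElementaryAbelian p A) (hA2 : Nat.card A = p ^ 2) :
    E ≤ normalizer (A : Set G) := by
  have hAM := hAE.trans hE.1
  have hex := tau2_exceptional U hG hM hp hAM hA hA2
  have hAn : A ≤ normalizer (sigmaCore M : Set G) := hAM.trans (le_normalizer_sigmaCore M)
  refine le_normalizer_iff_cj.2 fun e he => eq_of_le_of_card_ge ?_ (card_cj e A).ge
  intro x hx
  have hxE : x ∈ E := (cj_mono hAE).trans (cj_eq_self_of_mem he).le hx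
  have hxW : x ∈ A ⊔ sigmaCore M := by
    rw [sup_comm, ← mem_normalizer_iff_cj.1 (hex.normal (hE.1 he))]
    exact cj_mono le_sup_right hx
  rw [← SetLike.mem_coe, coe_mul_of_left_le_normalizer_right _ _ hAn] at hxW
  obtain ⟨a, ha, s, hs, rfl⟩ := hxW
  have hsE : s ∈ E ⊓ sigmaCore M := ⟨(mul_mem_cancel_left (hAE ha)).1 hxE, hs⟩
  rw [hE.2.2.1, mem_bot] at hsE
  show a * s ∈ A
  rwa [hsE, mul_one]

/-- BG 12.6 (a): `A` contains every subgroup of order `p` of `E`. -/
theorem le_elem_of_card (U : Up.{u}) (hG : IsMinSimpleOddOrder G) (hM : IsCoatom M)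
    (hE : IsComplIn E (sigmaCore M) M) (hp : p ∉ sigma M) (hAE : A ≤ E)
    (hA : IsElementaryAbelian p A) (hA2 : Nat.card A = p ^ 2) {x : G} (hx : x ∈ E) (hxp : x ^ p = 1) :
    x ∈ A := by
  have hex := tau2_exceptional U hG hM hp (hAE.trans hE.1) hA hA2
  have hxg : IsPGroup p (zpowers x) :=
    CfsgLib.Base.isPGroup_of_isElementaryAbelian (CfsgLib.Base.isElementaryAbelian_zpowers hxp)
  obtain ⟨T, hT, hxT⟩ := exists_sylIn_ge (p := p) hxg (zpowers_le.2 hx)
  have hAT : A ≤ T := hT.le_of_normal (CfsgLib.Base.isPGroup_of_isElementaryAbelian hA) hAE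
    (le_normalizer_elem U hG hM hE hp hAE hA hA2)
  exact ((hex.sylow T (sylIn_of_sigmaCompl hE hp hT)).2 hAT x (hxT (mem_zpowers x))).1 hxp

/-- BG 12.6 (b): `N_M(A) = E`. -/
theorem inf_normalizer_elem (U : Up.{u}) (hG : IsMinSimpleOddOrder G) (hM : IsCoatom M)
    (hE : IsComplIn E (sigmaCore M) M) (hp : p ∉ sigma M) (hAE : A ≤ E)
    (hA : IsElementaryAbelian p A) (hA2 : Nat.card A = p ^ 2) :
    M ⊓ normalizer (A : Set G) = E := by
  have hex := tau2_exceptional U hG hM hp (hAE.trans hE.1) hA hA2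
  refine le_antisymm ?_ (le_inf hE.1 (le_normalizer_elem U hG hM hE hp hAE hA hA2))
  rintro x ⟨hxM, hxN⟩
  obtain ⟨e, he, s, hs, rfl⟩ := hE.2.2.2 x hxM
  have heN := le_normalizer_elem U hG hM hE hp hAE hA hA2 he
  have hsN : s ∈ normalizer (A : Set G) := (mul_mem_cancel_left heN).1 hxN
  have hsc : s ∈ centralizer (A : Set G) := by
    refine mem_centralizer_iff.2 fun a ha => ?_
    have h1 : ⁅s, a⁆ ∈ A ⊓ sigmaCore M := by
      refine mem_inf.2 ⟨?_, ?_⟩
      · exact mul_mem ((mem_normalizer_iff.1 hsN a).1 ha) (inv_mem ha)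
      · rw [commutatorElement_def, show s * a * s⁻¹ * a⁻¹ = s * (a * s⁻¹ * a⁻¹) by group]
        exact mul_mem hs ((mem_normalizer_iff.1 (le_normalizer_sigmaCore M (hE.1 (hAE ha))) _).1
          (inv_mem hs))
    rw [CfsgLib.Base.inf_eq_bot_of_coprime (coprime_card_of_not_dvd
      (CfsgLib.Base.isPGroup_of_isElementaryAbelian hA) (not_dvd_sigmaCore hp hp'.out)), mem_bot,
      commutatorElement_eq_one_iff_mul_comm] at h1
    exact h1.symm
  have h1 : s ∈ sigmaCore M ⊓ centralizer (A : Set G) := ⟨hs, hsc⟩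
  rw [hex.cent, mem_bot] at h1
  rwa [h1, mul_one]

theorem normalizer_elem_not_le (U : Up.{u}) (hG : IsMinSimpleOddOrder G) (hM : IsCoatom M)
    (hp : p ∉ sigma M) (hAM : A ≤ M) (hA : IsElementaryAbelian p A) (hA2 : Nat.card A = p ^ 2) :
    ¬ normalizer (A : Set G) ≤ M := by
  intro hle
  have hex := tau2_exceptional U hG hM hp hAM hA hA2
  obtain ⟨T, hT, hAT⟩ := exists_sylIn_ge (p := p) (CfsgLib.Base.isPGroup_of_isElementaryAbelian hA) hAM
  refine centralizer_sylow_ne hG hM hT hp (dvd_of_sq hAM hA2) (le_trans ?_ hle)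
  refine fun n hn => mem_normalizer_iff_cj.2 (eq_of_le_of_card_ge ?_ (card_cj n A).ge)
  intro x hx
  refine ((hex.sylow T hT).2 hAT x ?_).1
    ((CfsgLib.Base.isElementaryAbelian_map (MulAut.conj n).toMonoidHom hA).2 x hx)
  rw [← mem_normalizer_iff_cj.1 hn]
  exact cj_mono hAT hx

/-- BG 12.6 (c): a line centralising an element of `M_σ` has its centraliser in `M` alone. -/
theorem centralizer_line_unique (U : Up.{u}) (hG : IsMinSimpleOddOrder G) (hM : IsCoatom M)
    (hp : p ∉ sigma M) (hAM : A ≤ M) (hA : IsElementaryAbelian p A) (hA2 : Nat.card A = p ^ 2)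
    {X : Subgroup G} (hXA : X ≤ A) (hX1 : X ≠ ⊥)
    (hC : sigmaCore M ⊓ centralizer (X : Set G) ≠ ⊥) :
    centralizer (X : Set G) ≤ M ∧
      ∀ L : Subgroup G, IsCoatom L → centralizer (X : Set G) ≤ L → L = M := by
  have key : ∀ L : Subgroup G, IsCoatom L → centralizer (X : Set G) ≤ L → L = M := by
    intro L hL hCL
    by_contra hne
    refine hC (le_bot_iff.1 (inter_other U hG hM hp hAM hA hA2 hL hne ?_ ▸ inf_le_inf_left _ hCL))
    exact ((le_centralizer_iff_isMulCommutative.2 hA.1).trans (centralizer_le hXA)).trans hCL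
  refine ⟨?_, key⟩
  obtain ⟨L, hL, hNL⟩ := exists_maximal_ge (minSimple_normalizer_ne_top hG hX1
    (ne_top_of_le_maximal hM (hXA.trans hAM)))
  exact key L hL ((centralizer_le_normalizer _).trans hNL) ▸
    (centralizer_le_normalizer _).trans hNL

/-- BG 12.6 in the shape of row S1418. -/
theorem stmtS1418_of (U : Up.{u}) : StmtS1418.{u} := by
  intro G _ _ hG M hM E hE p hpf hp A ⟨hAE, hA, hA2⟩
  have hAM := hAE.trans hE.1
  refine ⟨⟨le_normalizer_elem U hG hM hE hp.2.1 hAE hA hA2, fun X hXE hX x hx => ?_⟩,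
    ⟨le_inf (centralizer_le_maximal U hG hM hAM hA hA2) (centralizer_le_normalizer _),
      inf_normalizer_elem U hG hM hE hp.2.1 hAE hA hA2,
      normalizer_elem_not_le U hG hM hp.2.1 hAM hA hA2⟩,
    fun X hXA hX hC => centralizer_line_unique U hG hM hp.2.1 hAM hA hA2 hXA
      (ne_bot_of_card_prime hX) hC⟩
  refine le_elem_of_card U hG hM hE hp.2.1 hAE hA hA2 (hXE hx) ?_
  have h1 : (⟨x, hx⟩ : X) ^ Nat.card X = 1 := pow_card_eq_one'
  rw [hX] at h1
  exact congrArg Subtype.val h1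

end CfsgLib.FT.BG12
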