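import Cfsg.Agent.Lib.FT.BG12.Tau2Nonabelian
import Cfsg.Agent.Lib.OddOrder.OmegaFixed
import Cfsg.Agent.Lib.OddOrder.RankTwoFitting
import Cfsg.Agent.Lib.Transfer.NormalPComplement

/-!
# BG 12.8: `τ₂(M)` with abelian Sylow subgroups
-/

set_option autoImplicit false
set_option linter.unusedSectionVars false
set_option linter.style.haveILetI false

open Subgroup Cfsg CfsgLib.OddOrder CfsgLib.Techniques
open scoped commutatorElement Pointwise

namespace CfsgLib.FT.BG12

universe u

variable {G : Type u} [Group G] [Finite G] {M E A T : Subgroup G} {p : ℕ} [hp' : Fact p.Prime]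

/-- A `p`-element in the normaliser of a Sylow subgroup lies in it. -/
theorem mem_of_normalizer_sylIn {H : Subgroup G} (hT : SylIn p T H) {z : G} (hzH : z ∈ H)
    (hzN : z ∈ normalizer (T : Set G)) (hz : IsPGroup p (zpowers z)) : z ∈ T := by
  haveI hn : (T.subgroupOf (H ⊓ normalizer (T : Set G))).Normal :=
    normal_subgroupOf_of_le_normalizer inf_le_right
  obtain ⟨j, hj⟩ := IsPGroup.iff_card.1 hz
  rw [Nat.card_zpowers] at hj
  have h1 : (⟨z, hzH, hzN⟩ : ↥(H ⊓ normalizer (T : Set G))) ^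
      (T.subgroupOf (H ⊓ normalizer (T : Set G))).index ∈
        T.subgroupOf (H ⊓ normalizer (T : Set G)) :=
    (T.subgroupOf _).pow_index_mem _
  have hcop : (orderOf z).Coprime (T.subgroupOf (H ⊓ normalizer (T : Set G))).index := by
    rw [hj]
    exact (hp'.out.coprime_iff_not_dvd.2
      (hT.mono (le_inf hT.le le_normalizer) inf_le_left).not_dvd).pow_left j
  obtain ⟨k, hk⟩ := exists_pow_eq_self_of_coprime (x := z) hcop.symm
  rw [← hk]
  exact pow_mem (mem_subgroupOf.1 h1) k

/-- An element of a group with a power of `p`-power exponent in a normal subgroup containing a Sylow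
`p`-subgroup lies in that subgroup. -/
theorem mem_of_pow_mem_of_sylIn {H C : Subgroup G} (hT : SylIn p T H) (hTC : T ≤ C) (hCH : C ≤ H)
    (hn : H ≤ normalizer (C : Set G)) {c : G} (hc : c ∈ H) {k : ℕ} (hk : c ^ p ^ k ∈ C) : c ∈ C := by
  haveI : (C.subgroupOf H).Normal := normal_subgroupOf_of_le_normalizer hn
  set f := QuotientGroup.mk' (C.subgroupOf H)
  have h1 : orderOf (f ⟨c, hc⟩) ∣ p ^ k := orderOf_dvd_of_pow_eq_one (by
    rw [← map_pow]
    exact (QuotientGroup.eq_one_iff _).2 (mem_subgroupOf.2 (by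
      rw [SubmonoidClass.coe_pow]; exact hk)))
  have h2 : orderOf (f ⟨c, hc⟩) ∣ (C.subgroupOf H).index := by
    rw [index_eq_card]; exact orderOf_dvd_natCard _
  have h3 : ¬ p ∣ (C.subgroupOf H).index := fun h => hT.not_dvd (h.trans (by
    change C.relIndex H ∣ T.relIndex H
    exact relIndex_dvd_of_le_left H hTC))
  have h4 : f ⟨c, hc⟩ = 1 := orderOf_eq_one_iff.1
    (Nat.eq_one_of_dvd_coprimes ((hp'.out.coprime_iff_not_dvd.2 h3).pow_left k) h1 h2)
  exact mem_subgroupOf.1 ((QuotientGroup.eq_one_iff _).1 h4)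

namespace Elem

/-- With abelian Sylow subgroups, the Sylow subgroups of `E` are those of `G`. -/
theorem sylow_top (d : Elem p M E A) (U : Up.{u}) (hG : IsMinSimpleOddOrder G)
    (hab : ∃ S : Sylow p G, IsMulCommutative (S : Subgroup G)) (hT : SylIn p T E) :
    SylIn p T ⊤ := by
  obtain ⟨S₀, hS₀⟩ := hab
  obtain ⟨S, hTS⟩ := hT.isPGroup.exists_le_sylow
  obtain ⟨g, hg⟩ := MulAction.exists_smul_eq G S₀ S
  have hS : IsMulCommutative (S : Subgroup G) := by
    have h : (S : Subgroup G) = MulAut.conj g • (S₀ : Subgroup G) := by rw [← hg]; rfl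
    rw [h]
    exact isMulCommutative_congr (Subgroup.equivSMul (MulAut.conj g) (S₀ : Subgroup G)) |>.1 hS₀
  have hSC : (S : Subgroup G) ≤ centralizer (A : Set G) := fun s hs =>
    mem_centralizer_iff.2 fun a ha => by
      have h := hS.is_comm.comm (⟨a, hTS (d.le_sylIn U hG hT ha)⟩ : (S : Subgroup G)) ⟨s, hs⟩
      simpa only [Subtype.ext_iff, Subgroup.coe_mul] using h
  have h := hT.eq_of_le S.isPGroup' hTS (hSC.trans (d.centralizer_le U hG))
  have h' : (S : Subgroup G) = T := by first | exact h | exact h.symm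
  exact h' ▸ sylIn_top S

theorem normalizer_sylow_le (d : Elem p M E A) (U : Up.{u}) (hG : IsMinSimpleOddOrder G)
    (hT : SylIn p T E) : normalizer (T : Set G) ≤ normalizer (A : Set G) := by
  intro n hn
  refine mem_normalizer_iff_cj.2 (eq_of_le_of_card_ge ?_ (card_cj n A).ge)
  intro x hx
  refine d.mem_of_pow U hG ?_ ((CfsgLib.Base.isElementaryAbelian_map _ d.elem).2 x hx)
  refine hT.le ?_
  rw [← mem_normalizer_iff_cj.1 hn]
  exact cj_mono (d.le_sylIn U hG hT) hx

/-- `N(A)/C(A)` is abelian. -/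
theorem normalizer_derived_le (d : Elem p M E A) (U : Up.{u}) (hG : IsMinSimpleOddOrder G)
    (hab : ∃ S : Sylow p G, IsMulCommutative (S : Subgroup G)) :
    ⁅normalizer (A : Set G), normalizer (A : Set G)⁆ ≤ centralizer (A : Set G) := by
  set N := normalizer (A : Set G) with hN
  haveI : Group.IsSolvable N := minSimple_solvable hG
    (minSimple_normalizer_ne_top hG d.ne_bot (ne_top_of_le_maximal d.max d.le_max))
  obtain ⟨T, hT⟩ := exists_sylIn (p := p) E
  have hTC : T ≤ centralizer (A : Set G) := (d.le_centralizer U hG hT.isPGroup hT.le).2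
  have hr : PRankLE p 2 A := CfsgLib.Base.pRankLE_of_card_le d.card.le
  intro c hc
  rw [← map_subtype_commutator] at hc
  obtain ⟨c', hc', rfl⟩ := hc
  obtain ⟨k, hk⟩ := exists_pow_mem_centralizer (minSimple_ne_two hG
    ((dvd_of_sq d.le d.card).trans (card_subgroup_dvd_card E))) d.isPGroup hr (le_refl N)
    (hG.1.of_dvd_nat (card_subgroup_dvd_card _)) ⟨c', hc'⟩
  exact mem_of_pow_mem_of_sylIn (H := N) ((d.sylow_top U hG hab hT).mono
    (hTC.trans (centralizer_le_normalizer _)) le_top) hTC (centralizer_le_normalizer _)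
    (CfsgLib.Coprime.le_normalizer_centralizer (le_refl N)) c'.2 hk

/-- BG 12.8: the Sylow subgroup is normal in `E`. -/
theorem sylow_normal (d : Elem p M E A) (U : Up.{u}) (hG : IsMinSimpleOddOrder G)
    (hab : ∃ S : Sylow p G, IsMulCommutative (S : Subgroup G)) (hT : SylIn p T E) :
    E ≤ normalizer (T : Set G) := by
  have hp2 : p ≠ 2 := minSimple_ne_two hG
    ((dvd_of_sq d.le d.card).trans (card_subgroup_dvd_card E))
  set C := centralizer (A : Set G) with hC
  have hCE : C ≤ E := d.centralizer_le U hG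
  obtain ⟨hTc, hTC⟩ := d.le_centralizer U hG hT.isPGroup hT.le
  have hTsC : SylIn p T C := hT.mono hTC hCE
  have hAT : A ≤ T := d.le_sylIn U hG hT
  -- `N_C(T)` centralises `T`
  have hNC : C ⊓ normalizer (T : Set G) ≤ centralizer (T : Set G) := by
    intro g hg
    refine mem_of_primary_parts _ g fun r hr _ z hz ⟨i, hzi⟩ => ?_
    have hzg : z ∈ C ⊓ normalizer (T : Set G) := zpowers_le.2 hg hz
    haveI := Fact.mk hr
    obtain ⟨j, -, hj⟩ := (Nat.dvd_prime_pow hr).1 (orderOf_dvd_of_pow_eq_one hzi)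
    have hzp : IsPGroup r (zpowers z) := IsPGroup.of_card (n := j) (by rw [Nat.card_zpowers, hj])
    by_cases hrp : r = p
    · subst hrp
      have hzT := mem_of_normalizer_sylIn hTsC hzg.1 hzg.2 hzp
      exact mem_centralizer_iff.2 fun t ht =>
        congrArg (Subtype.val : T → G) (hTc.is_comm.comm ⟨t, ht⟩ ⟨z, hzT⟩)
    · refine le_centralizer_of_fix_order_prime hp2 T (zpowers z) hT.isPGroup ?_
        (zpowers_le.2 hzg.2) (fun x hx hxp w hw => ?_) (mem_zpowers z)
      · rw [Nat.card_zpowers, hj]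
        exact ((Nat.coprime_primes hr hp'.out).2 hrp).pow_left j
      · exact (mem_centralizer_iff.1 ((zpowers_le.2 hzg.1) hw) x
          (d.mem_of_pow U hG (hT.le hx) hxp)).symm
  -- the normal complement
  obtain ⟨P, hP⟩ := exists_sylow_of_sylIn hTsC
  have hPN : normalizer ((P : Subgroup C) : Set C) ≤ centralizer ((P : Subgroup C) : Set C) := by
    intro g hg
    have hgN : (g : G) ∈ C ⊓ normalizer (T : Set G) := by
      refine ⟨g.2, ?_⟩
      rw [← hP]
      exact le_normalizer_map C.subtype ⟨g, hg, rfl⟩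
    refine mem_centralizer_iff.2 fun x hx => Subtype.ext ?_
    exact mem_centralizer_iff.1 (hNC hgN) x (hP ▸ mem_map_of_mem C.subtype hx)
  obtain ⟨Q, N₀, hN₀n, hN₀⟩ :=
    CfsgLib.Transfer.hasNormalPComplement_of_normalizer_le_centralizer P hPN
  set K := (pPrimeCore p C).map C.subtype with hK
  have hKn : normalizer (A : Set G) ≤ normalizer (K : Set G) :=
    (CfsgLib.Coprime.le_normalizer_centralizer (le_refl _)).trans
      (CfsgLib.Base.normalizer_le_normalizer_map_subtype _ _)
  have hKC : K ≤ C := map_subtype_le _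
  have hKT : C ≤ T ⊔ K := by
    refine relIndex_eq_one.1 (by_contra fun hne => ?_)
    obtain ⟨q, hq, hd⟩ := Nat.exists_prime_and_dvd hne
    have h1 : q ∣ T.relIndex C := hd.trans (relIndex_dvd_of_le_left _ le_sup_left)
    have h2 : q ∣ K.relIndex C := hd.trans (relIndex_dvd_of_le_left _ le_sup_right)
    haveI := hN₀n
    have hle : N₀ ≤ pPrimeCore p C := CfsgLib.Base.le_pPrimeCore_of_not_dvd (by
      rw [← hN₀.index_eq_card]; exact Q.not_dvd_index)
    have hKi : K.relIndex C ∣ Nat.card (Q : Subgroup C) := by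
      rw [hK, Subgroup.relIndex, Subgroup.subgroupOf,
        comap_map_eq_self_of_injective C.subtype_injective, ← hN₀.symm.index_eq_card]
      exact index_dvd_of_le hle
    have hqp : q = p := by
      obtain ⟨j, hj⟩ := IsPGroup.iff_card.1 Q.isPGroup'
      exact (Nat.prime_dvd_prime_iff_eq hq hp'.out).1
        (hq.dvd_of_dvd_pow (hj ▸ h2.trans hKi))
    subst hqp
    exact hTsC.not_dvd h1
  -- `W = [K, T]`
  have hTK : T ≤ normalizer (K : Set G) := hTC.trans ((centralizer_le_normalizer _).trans hKn)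
  have hKp : ¬ p ∣ Nat.card K := by
    rw [hK, CfsgLib.Base.card_map_subtype]
    exact CfsgLib.Base.not_dvd_card_pPrimeCore p C
  set W := ⁅K, T⁆ with hW
  have hWK : W ≤ K := CfsgLib.Coprime.commutator_le_of_le_normalizer hTK
  have hWE : W ≤ ⁅E, E⁆ := commutator_mono (hKC.trans hCE) hT.le
  have hNW : normalizer (T : Set G) ≤ normalizer (W : Set G) :=
    le_normalizer_commutator ((d.normalizer_sylow_le U hG hT).trans hKn) le_rfl
  have hTtop := d.sylow_top U hG hab hT
  obtain ⟨S, hS⟩ := hTtop.to_sylow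
  have hT1 : T ≠ ⊥ := fun e => d.ne_bot (le_bot_iff.1 (e ▸ hAT))
  set NT := normalizer (T : Set G) with hNT
  haveI hNTs : Group.IsSolvable NT := minSimple_solvable hG
    (minSimple_normalizer_ne_top hG hT1 (isPGroup_ne_top hG hT.isPGroup))
  have hTd : T ≤ ⁅NT, NT⁆ := by
    have hsT : SylIn p T NT := hTtop.mono le_normalizer le_top
    have hcop : (Nat.card T).Coprime (T.relIndex NT) := by
      obtain ⟨j, hj⟩ := IsPGroup.iff_card.1 hT.isPGroup
      exact hj ▸ (hp'.out.coprime_iff_not_dvd.2 hsT.not_dvd).pow_left j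
    obtain ⟨V, hV, hVc, hVs⟩ :=
      CfsgLib.Coprime.exists_complement_in (le_normalizer : T ≤ NT) le_rfl hcop
    have hc : IsComplIn T V NT := by
      refine ⟨le_normalizer, hV, CfsgLib.Base.inf_eq_bot_of_coprime (hVc ▸ hcop), fun m hm => ?_⟩
      rw [show NT = T ⊔ V from hVs.symm, sup_comm] at hm
      obtain ⟨a, ha, b, hb, rfl⟩ := (CfsgLib.Coprime.mem_sup_iff_of_le_normalizer hV).1 hm
      exact ⟨a * b * a⁻¹, (mem_normalizer_iff.1 (hV ha) b).1 hb, a, ha, by group⟩
    have h := (U.s1411 hG p S V (hS ▸ hc)).2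
    rwa [hS] at h
  have hWC : T ≤ centralizer (W : Set G) := by
    intro t ht
    refine mem_centralizer_iff.2 fun w hw => ?_
    suffices h : w ∈ centralizer ({t} : Set G) from mem_centralizer_singleton_iff.1 h
    refine mem_of_primary_parts _ w fun q hq hqw z hz ⟨i, hzi⟩ => ?_
    have hzW : z ∈ W := zpowers_le.2 hw hz
    haveI := Fact.mk hq
    haveI hWc : IsMulCommutative W := by
      have h := derived_sigmaCompl_abelian U hG d.max d.compl
      exact ⟨⟨fun a b => Subtype.ext (congrArg (Subtype.val : ↥⁅E, E⁆ → G)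
        (h.is_comm.comm ⟨a, hWE a.2⟩ ⟨b, hWE b.2⟩))⟩⟩
    obtain ⟨Q₀⟩ : Nonempty (Sylow q W) := inferInstance
    haveI : (Q₀ : Subgroup W).Normal := Subgroup.normal_of_comm _
    haveI := Q₀.characteristic_of_normal ‹_›
    haveI : Subsingleton (Sylow q W) := (Sylow.unique_of_normal Q₀ ‹_›).instSubsingleton
    set Wq := (Q₀ : Subgroup W).map W.subtype with hWq
    have hzWq : z ∈ Wq := by
      obtain ⟨j, -, hj⟩ := (Nat.dvd_prime_pow hq).1 (orderOf_dvd_of_pow_eq_one hzi)
      have hp2 : IsPGroup q (zpowers (⟨z, hzW⟩ : W)) :=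
        IsPGroup.of_card (n := j) (by rw [Nat.card_zpowers, Subgroup.orderOf_mk, hj])
      obtain ⟨S', hS'⟩ := hp2.exists_le_sylow
      exact ⟨⟨z, hzW⟩, Subsingleton.elim S' Q₀ ▸ hS' (mem_zpowers _), rfl⟩
    have hdW : q ∣ Nat.card W := hqw.trans (Subgroup.orderOf_dvd_natCard _ hw)
    have hqp : q ≠ p := fun e => hKp (e ▸ hdW.trans (card_dvd_of_le hWK))
    have hdE : q ∣ Nat.card E := hdW.trans (card_dvd_of_le ((hWK.trans hKC).trans hCE))
    have hr2 : PRankLE q 2 Wq := CfsgLib.Base.pRankLE_of_injective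
      (inclusion ((map_subtype_le (Q₀ : Subgroup W)).trans
        (((hWK.trans hKC).trans hCE).trans d.compl.1))) (inclusion_injective _)
      (pRankLE_two_of_not_sigma U.s1403 hG d.max
        (not_mem_sigma_of_dvd U.s1403 hG d.max d.compl hq hdE))
    obtain ⟨t', ht', hte⟩ : ∃ t' : NT, t' ∈ commutator NT ∧ (t' : G) = t := by
      have h := hTd ht
      rw [← map_subtype_commutator] at h
      exact h
    obtain ⟨k, hk⟩ := exists_pow_mem_centralizer (minSimple_ne_two hG
      (hdE.trans (card_subgroup_dvd_card E))) (Q₀.isPGroup'.map _) hr2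
      (hNW.trans (CfsgLib.Base.normalizer_le_normalizer_map_subtype _ _))
      (hG.1.of_dvd_nat (card_subgroup_dvd_card NT)) ⟨t', ht'⟩
    obtain ⟨j, hj⟩ := IsPGroup.iff_orderOf.1 hT.isPGroup ⟨t, ht⟩
    rw [Subgroup.orderOf_mk] at hj
    have htC := mem_of_pow_mem_of_orderOf hp'.out hq hqp hj (hte ▸ hk)
    exact mem_centralizer_singleton_iff.2 (mem_centralizer_iff.1 htC z hzWq)
  have hTKc : T ≤ centralizer (K : Set G) := by
    refine le_centralizer_of_commutator_trivial hTK (coprime_card_of_not_dvd hT.isPGroup hKp)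
      (minSimple_solvable hG (ne_top_of_le_maximal d.max (hT.le.trans d.compl.1))) le_rfl ?_
    rw [← hW, commutator_comm, commutator_eq_bot_iff_le_centralizer]
    exact hWC
  have hCT : C ≤ normalizer (T : Set G) := hKT.trans (sup_le le_normalizer
    ((CfsgLib.Base.le_centralizer_comm.1 hTKc).trans (centralizer_le_normalizer _)))
  intro e he
  refine mem_normalizer_iff_cj.2 (eq_of_le_of_card_ge ?_ (card_cj e T).ge)
  refine hTsC.le_of_normal (isPGroup_cj hT.isPGroup) ?_ ?_
  · rw [hC, ← mem_normalizer_iff_cj.1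
      (CfsgLib.Coprime.le_normalizer_centralizer (d.normal U hG) he)]
    exact cj_mono hTC
  · intro c hc
    have hc' : c ∈ cj e (normalizer (T : Set G)) := by
      refine cj_mono hCT ?_
      rw [mem_normalizer_iff_cj.1 (CfsgLib.Coprime.le_normalizer_centralizer (d.normal U hG) he)]
      exact hc
    rwa [cj_normalizer] at hc'

/-- An element of `E` of `p`-power order lies in the normal Sylow subgroup. -/
theorem mem_sylow (d : Elem p M E A) (U : Up.{u}) (hG : IsMinSimpleOddOrder G)
    (hab : ∃ S : Sylow p G, IsMulCommutative (S : Subgroup G)) (hT : SylIn p T E) {x : G}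
    (hx : x ∈ E) {k : ℕ} (hk : x ^ p ^ k = 1) : x ∈ T := by
  obtain ⟨j, -, hj⟩ := (Nat.dvd_prime_pow hp'.out).1 (orderOf_dvd_of_pow_eq_one hk)
  exact mem_of_normalizer_sylIn hT hx (d.sylow_normal U hG hab hT hx)
    (IsPGroup.of_card (n := j) (by rw [Nat.card_zpowers, hj]))

end Elem

end CfsgLib.FT.BG12
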