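import Cfsg.Agent.Lib.FT.BG12.Complement

/-!
# BG 12.7: `τ₂(M)` with nonabelian Sylow subgroups
-/

set_option autoImplicit false
set_option linter.unusedSectionVars false
set_option linter.style.haveILetI false

open Subgroup Cfsg CfsgLib.OddOrder CfsgLib.Techniques
open scoped commutatorElement

namespace CfsgLib.FT.BG12

open CfsgLib.FT.BG13 (ne_bot_of_card_prime isPGroup_of_card_prime dvd_of_pGroup_ne_bot)

universe u

variable {G : Type u} [Group G] [Finite G] {M E A : Subgroup G} {p : ℕ} [hp' : Fact p.Prime]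

theorem le_fittingOf {N : Subgroup G} (hNM : N ≤ M) (hn : M ≤ normalizer (N : Set G))
    (hN : Group.IsNilpotent N) : N ≤ fittingOf M := by
  haveI : (N.subgroupOf M).Normal := normal_subgroupOf_of_le_normalizer hn
  have h : N.subgroupOf M ≤ fittingSubgroup M := CfsgLib.Base.le_fittingSubgroup
    (Group.nilpotent_of_mulEquiv (subgroupOfEquivOfLe hNM).symm)
  rw [← map_subgroupOf_eq_of_le hNM]
  exact map_mono h

namespace Elem

/-- A Sylow `p`-subgroup of `G` with the data of 10.13 over a given `p`-subgroup of `E`. -/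
theorem exists_structure (d : Elem p M E A) (U : Up.{u}) (hG : IsMinSimpleOddOrder G)
    (hna : ∀ S : Sylow p G, ¬ IsMulCommutative (S : Subgroup G)) {X : Subgroup G}
    (hX : IsPGroup p X) (hXE : X ≤ E) :
    ∃ (S : Sylow p G) (Z₀ Y : Subgroup G), A ≤ (S : Subgroup G) ∧
      X ≤ (S : Subgroup G) ⊓ centralizer (A : Set G) ∧
      Z₀ ≤ A ∧ Nat.card Z₀ = p ∧ (S : Subgroup G) ≤ centralizer (Z₀ : Set G) ∧
      IsCyclic Y ∧ Z₀ ≤ Y ∧ Y ≤ (S : Subgroup G) ⊓ centralizer (A : Set G) ∧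
      (∀ L : Subgroup G, L ≤ A → Nat.card L = p → L ≠ Z₀ →
        L ⊓ Y = ⊥ ∧ L ⊔ Y = (S : Subgroup G) ⊓ centralizer (A : Set G)) ∧
      ∀ L L' : Subgroup G, L ≤ A → Nat.card L = p → L ≠ Z₀ →
        L' ≤ A → Nat.card L' = p → L' ≠ Z₀ →
        ∃ s ∈ (S : Subgroup G) ⊓ normalizer (A : Set G), cj s L = L' := by
  obtain ⟨T, hT, hXT⟩ := exists_sylIn_ge (p := p) hX hXE
  obtain ⟨S, hTS⟩ := hT.isPGroup.exists_le_sylow
  have hAS : A ≤ (S : Subgroup G) := (d.le_sylIn U hG hT).trans hTS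
  obtain ⟨Z₀, Y, h1, h2, h3, h4, h5, h6, h7, h8⟩ := U.maxStructure hG p A d.elem d.card
    (elementary_maximal U.s1403 hG d.max d.sigma d.le_max d.elem d.card) S hAS (hna S)
  exact ⟨S, Z₀, Y, hAS, le_inf (hXT.trans hTS) ((d.le_centralizer U hG hX hXE).2), h1, h2,
    fun s hs => mem_centralizer_iff.2 fun z hz => (h3 z hz s hs).symm, h4, h5, h6, h7, h8⟩

/-- An element moving a line of `A` inside a Sylow subgroup is outside `M`. -/
theorem not_mem_of_moves (d : Elem p M E A) (U : Up.{u}) (hG : IsMinSimpleOddOrder G)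
    {S : Sylow p G} {L : Subgroup G} (hLA : L ≤ A) {s : G}
    (hs : s ∈ (S : Subgroup G) ⊓ normalizer (A : Set G)) (hne : cj s L ≠ L) : s ∉ M := fun hsM => by
  have hsE := d.mem_compl U hG hsM hs.2
  have h := (d.le_centralizer U hG (S.isPGroup'.to_le (zpowers_le.2 hs.1)) (zpowers_le.2 hsE)).2
    (mem_zpowers s)
  refine hne (mem_normalizer_iff_cj.1 (centralizer_le_normalizer _ ?_))
  exact Subgroup.centralizer_le hLA h

/-- BG 12.7: exactly one line of `A` has fixed points on `M_σ`, and it centralises `M_σ`. -/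
theorem fixed_line (d : Elem p M E A) (U : Up.{u}) (hG : IsMinSimpleOddOrder G)
    (hna : ∀ S : Sylow p G, ¬ IsMulCommutative (S : Subgroup G)) :
    (Nat.card ↥(A ⊓ centralizer (sigmaCore M : Set G)) = p) ∧
      ∀ L : Subgroup G, L ≤ A → Nat.card L = p → L ≠ A ⊓ centralizer (sigmaCore M : Set G) →
        sigmaCore M ⊓ centralizer (L : Set G) = ⊥ ∧ ¬ centralizer (L : Set G) ≤ M := by
  obtain ⟨S, Z₀, Y, hAS, -, hZA, hZc, hZS, -, -, -, -, hconj⟩ :=
    d.exists_structure U hG hna (IsPGroup.of_bot (G := G)) bot_le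
  have hZfix : ¬ centralizer (Z₀ : Set G) ≤ M := fun h => hna S (by
    have := isMulCommutative_of_not_sigma U hG d.max d.sigma S.isPGroup' (hZS.trans h)
    exact this)
  have hnz : ∀ L : Subgroup G, L ≤ A → Nat.card L = p →
      sigmaCore M ⊓ centralizer (L : Set G) ≠ ⊥ → L ≠ Z₀ := fun L hLA hL h e =>
    hZfix (e ▸ (d.fixed_unique U hG hLA (ne_bot_of_card_prime hL) h).1)
  obtain ⟨A₀, hA₀, hA₀c, hfix⟩ := d.exists_fixed U hG
  have hone : ∀ L : Subgroup G, L ≤ A → Nat.card L = p → L ≠ A₀ →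
      sigmaCore M ⊓ centralizer (L : Set G) = ⊥ ∧ ¬ centralizer (L : Set G) ≤ M := by
    intro L hLA hL hne
    by_cases hLZ : L = Z₀
    · exact ⟨by_contra fun h => hnz L hLA hL h hLZ, hLZ ▸ hZfix⟩
    obtain ⟨s, hs, rfl⟩ := hconj A₀ L hA₀ hA₀c (hnz A₀ hA₀ hA₀c hfix) hLA hL hLZ
    have hsM := d.not_mem_of_moves U hG hA₀ hs hne
    have hC : ¬ centralizer ((cj s A₀ : Subgroup G) : Set G) ≤ M := fun h =>
      hsM (d.mem_of_moved U hG hA₀ (ne_bot_of_card_prime hA₀c) hfix h)
    exact ⟨by_contra fun h => hC (d.fixed_unique U hG hLA (ne_bot_of_card_prime hL) h).1, hC⟩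
  have hcent : sigmaCore M ≤ centralizer (A₀ : Set G) := by
    haveI := d.elem.1
    refine CfsgLib.Coprime.le_of_centralizer_le_of_not_isCyclic (not_isCyclic_of_sq d.elem d.card)
      (d.le_max.trans (le_normalizer_sigmaCore M))
      (coprime_card_of_not_dvd d.isPGroup (not_dvd_sigmaCore d.sigma hp'.out)) fun a ha ha1 => ?_
    rw [← centralizer_zpowers a]
    by_cases he : zpowers a = A₀
    · exact he ▸ inf_le_right
    · rw [(hone (zpowers a) (zpowers_le.2 ha) (d.card_line ha ha1) he).1]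
      exact bot_le
  have heq : A ⊓ centralizer (sigmaCore M : Set G) = A₀ := by
    have hle : A₀ ≤ A ⊓ centralizer (sigmaCore M : Set G) :=
      le_inf hA₀ (CfsgLib.Base.le_centralizer_comm.1 hcent)
    refine (eq_of_le_of_card_ge hle ?_).symm
    obtain ⟨k, hk, he⟩ := (Nat.dvd_prime_pow hp'.out).1
      (d.card ▸ card_dvd_of_le (inf_le_left : A ⊓ centralizer (sigmaCore M : Set G) ≤ A))
    rw [he, hA₀c]
    interval_cases k
    · exact (pow_zero p).le.trans hp'.out.one_le
    · exact (pow_one p).le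
    · exfalso
      have hall : A ⊓ centralizer (sigmaCore M : Set G) = A :=
        eq_of_le_of_card_ge inf_le_left (by rw [he, d.card])
      have hc : A ≤ centralizer (sigmaCore M : Set G) := hall ▸ inf_le_right
      exact sigmaCore_ne_bot U.s1403 hG d.max (le_bot_iff.1 ((d.exceptional U hG).cent ▸
        le_inf le_rfl (CfsgLib.Base.le_centralizer_comm.1 hc)))
  rw [heq]
  exact ⟨hA₀c, hone⟩

/-- The `p`-elements of `E` with fixed points on `M_σ` lie in the fixed line. -/
theorem mem_fixed_line (d : Elem p M E A) (U : Up.{u}) (hG : IsMinSimpleOddOrder G)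
    (hna : ∀ S : Sylow p G, ¬ IsMulCommutative (S : Subgroup G)) {x : G} (hxE : x ∈ E) {k : ℕ}
    (hx : x ^ p ^ k = 1) (hfix : sigmaCore M ⊓ centralizer ({x} : Set G) ≠ ⊥) :
    x ∈ A ⊓ centralizer (sigmaCore M : Set G) := by
  have hfl := d.fixed_line U hG hna
  suffices hxp : x ^ p = 1 by
    by_contra hno
    have hxA : x ∈ A := d.mem_of_pow U hG hxE hxp
    have hx1 : x ≠ 1 := fun e => hno (e ▸ one_mem _)
    refine hfix (le_bot_iff.1 (le_trans ?_ (hfl.2 (zpowers x) (zpowers_le.2 hxA)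
      (d.card_line hxA hx1) fun e => hno (e ▸ mem_zpowers x)).1.le))
    rw [centralizer_zpowers]
  by_contra hxp
  obtain ⟨j, hj, hox⟩ := (Nat.dvd_prime_pow hp'.out).1 (orderOf_dvd_of_pow_eq_one hx)
  have hxg : IsPGroup p (zpowers x) := IsPGroup.of_card (n := j) (by rw [Nat.card_zpowers, hox])
  obtain ⟨S, Z₀, Y, hAS, hXT, hZA, hZc, hZS, hYc, hZY, hY, hdec, -⟩ :=
    d.exists_structure U hG hna hxg (zpowers_le.2 hxE)
  set A₀ := A ⊓ centralizer (sigmaCore M : Set G) with hA₀
  have hZ : A₀ ≠ Z₀ := by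
    intro e
    refine hna S (isMulCommutative_of_not_sigma U hG d.max d.sigma S.isPGroup' (hZS.trans ?_))
    refine (d.fixed_unique U hG hZA (ne_bot_of_card_prime hZc) ?_).1
    rw [inf_eq_left.2 (CfsgLib.Base.le_centralizer_comm.1 (e ▸ inf_le_right))]
    exact sigmaCore_ne_bot U.s1403 hG d.max
  obtain ⟨-, hsup⟩ := hdec A₀ inf_le_left hfl.1 hZ
  have hAY : A₀ ≤ normalizer (Y : Set G) := by
    refine le_trans ?_ (centralizer_le_normalizer _)
    exact inf_le_left.trans (CfsgLib.Base.le_centralizer_comm.1 (hY.trans inf_le_right))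
  have hxT : x ∈ A₀ ⊔ Y := hsup ▸ hXT (mem_zpowers x)
  obtain ⟨a, ha, y, hy, hxy⟩ := (CfsgLib.Coprime.mem_sup_iff_of_le_normalizer hAY).1 hxT
  have hcomm : Commute a y := ((mem_centralizer_iff.1 ((hY.trans inf_le_right) hy)) a ha.1)
  have hxpy : x ^ p = y ^ p := by
    rw [← hxy, hcomm.mul_pow, d.elem.2 a ha.1, one_mul]
  -- the last nontrivial power of `x` generates `Z₀`
  have hj2 : 2 ≤ j := by
    by_contra h
    exact hxp (orderOf_dvd_iff_pow_eq_one.1 (hox ▸ (pow_dvd_pow p (by omega : j ≤ 1)).trans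
      (pow_one p).dvd))
  set z := x ^ p ^ (j - 1) with hz
  have hzo : orderOf z = p := by
    rw [hz, orderOf_pow_of_dvd (pow_ne_zero _ hp'.out.ne_zero) (hox ▸ pow_dvd_pow p (by omega)),
      hox, Nat.pow_div (by omega) hp'.out.pos, show j - (j - 1) = 1 by omega, pow_one]
  have hzY : z ∈ Y := by
    rw [hz, show j - 1 = (j - 2) + 1 by omega, pow_succ', pow_mul, hxpy]
    exact pow_mem (pow_mem hy _) _
  have hzZ : zpowers z = Z₀ := eq_of_card_eq_of_isCyclic (C := Y) (zpowers_le.2 hzY) hZY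
    (by rw [Nat.card_zpowers, hzo, hZc])
  refine hfix (le_bot_iff.1 (le_trans ?_ (hfl.2 Z₀ hZA hZc (Ne.symm hZ)).1.le))
  refine inf_le_inf_left _ ?_
  rw [← hzZ, centralizer_zpowers]
  exact fun w hw => mem_centralizer_singleton_iff.2
    ((show Commute w x from mem_centralizer_singleton_iff.1 hw).pow_right _).eq

/-- BG 12.7: `τ₂(M) = {p}`. -/
theorem tau2_eq (d : Elem p M E A) (U : Up.{u}) (hG : IsMinSimpleOddOrder G)
    (hna : ∀ S : Sylow p G, ¬ IsMulCommutative (S : Subgroup G)) : Cfsg.tau2 M = {p} := by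
  refine subset_antisymm (fun q hq => ?_) (Set.singleton_subset_iff.2 (d.tau2 U hG))
  by_contra hne
  have hqp : q ≠ p := hne
  haveI := Fact.mk hq.1
  obtain ⟨B, hBE, hB, hB2⟩ := exists_elem_compl hG d.max d.compl hq
  have dB : Elem q M E B := ⟨d.max, d.compl, hq.2.1, hBE, hB, hB2⟩
  have hcop : (Nat.card B).Coprime (Nat.card A) := by
    rw [hB2, d.card]
    exact ((Nat.coprime_primes hq.1 hp'.out).2 hqp).pow 2 2
  have hBA : B ≤ centralizer (A : Set G) := by
    rw [← commutator_eq_bot_iff_le_centralizer, eq_bot_iff,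
      ← CfsgLib.Base.inf_eq_bot_of_coprime hcop]
    exact le_inf (CfsgLib.Coprime.commutator_le_of_le_normalizer (d.le.trans (dB.normal U hG)))
      (le_normalizer_iff_commutator_le_right.1 (hBE.trans (d.normal U hG)))
  have hBmem : B ∈ invSubgroups (⊤ : Subgroup G) A {q} :=
    mem_invSubgroups_singleton_iff.2 ⟨le_top, dB.isPGroup, d.le.trans (dB.normal U hG)⟩
  obtain ⟨Q, hBQ, hQ⟩ := Set.Finite.exists_le_maximal
    (s := invSubgroups (⊤ : Subgroup G) A {q}) (Set.toFinite _) hBmem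
  have hQq : IsPGroup q Q := (mem_invSubgroups_singleton_iff.1 hQ.1).2.1
  obtain ⟨P, hAP, -, -, hcent⟩ := U.signalizer hG p q (Ne.symm hqp) A d.elem d.card
    (elementary_maximal U.s1403 hG d.max d.sigma d.le_max d.elem d.card)
    ((dB.card ▸ dvd_pow_self q two_ne_zero).trans (card_dvd_of_le hBA)) Q
    ⟨hQ.1, fun R hR hle => le_antisymm (hQ.2 hR hle) hle⟩
  have hnar : IsNarrow q Q := by
    refine isNarrow_of_maximal_elementary U.s1453 (minSimple_ne_two hG
      ((dvd_of_sq hBE hB2).trans (card_subgroup_dvd_card E))) hQq (E := B.subgroupOf Q) ?_ ?_ ?_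
    · refine ⟨⟨⟨fun a b => Subtype.ext (Subtype.ext (congrArg (Subtype.val : B → G)
        (hB.1.is_comm.comm ⟨(a : Q), a.2⟩ ⟨(b : Q), b.2⟩)))⟩⟩, fun a ha => Subtype.ext ?_⟩
      rw [SubmonoidClass.coe_pow, OneMemClass.coe_one]
      exact hB.2 _ ha
    · rw [CfsgLib.Base.card_subgroupOf hBQ, hB2]
    · intro B' hB' hle
      have h := elementary_maximal U.s1403 hG d.max hq.2.1 dB.le_max hB hB2 (B'.map Q.subtype)
        (CfsgLib.Base.isElementaryAbelian_map _ hB')
        (by rw [← map_subgroupOf_eq_of_le hBQ]; exact map_mono hle)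
      refine map_injective Q.subtype_injective ?_
      rw [h, map_subgroupOf_eq_of_le hBQ]
  have hPM : (P : Subgroup G) ≤ M := ((hcent hnar).trans (Subgroup.centralizer_le hBQ)).trans
    (centralizer_le_maximal U hG d.max dB.le_max hB hB2)
  exact hna P (isMulCommutative_of_not_sigma U hG d.max d.sigma P.isPGroup' hPM)

/-- BG 12.7: `F(M) = M_σ × A₀`. -/
theorem fitting_eq (d : Elem p M E A) (U : Up.{u}) (hG : IsMinSimpleOddOrder G)
    (hna : ∀ S : Sylow p G, ¬ IsMulCommutative (S : Subgroup G)) :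
    fittingOf M = sigmaCore M ⊔ (A ⊓ centralizer (sigmaCore M : Set G)) := by
  set A₀ := A ⊓ centralizer (sigmaCore M : Set G) with hA₀
  have hAE : A₀ ≤ E := inf_le_left.trans d.le
  have hsig : ∀ m ∈ M, cj m (sigmaCore M) = sigmaCore M := fun m hm =>
    mem_normalizer_iff_cj.1 (le_normalizer_sigmaCore M hm)
  have hCn : M ≤ normalizer ((centralizer (sigmaCore M : Set G) : Subgroup G) : Set G) :=
    CfsgLib.Coprime.le_normalizer_centralizer (le_normalizer_sigmaCore M)
  have hA₀n : M ≤ normalizer (A₀ : Set G) := by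
    intro m hm
    obtain ⟨e, he, s, hs, rfl⟩ := d.compl.2.2.2 m hm
    refine mul_mem (CfsgLib.Coprime.le_normalizer_inf_inf (d.normal U hG)
      (d.compl.1.trans hCn) he) ?_
    exact centralizer_le_normalizer _
      (CfsgLib.Base.le_centralizer_comm.1 (inf_le_right : A₀ ≤ _) hs)
  refine le_antisymm ?_ (sup_le ?_ ?_)
  · -- every primary part of the Fitting subgroup
    intro f hf
    refine mem_of_primary_parts _ f fun q hq hqf z hz ⟨i, hzi⟩ => ?_
    have hzF : z ∈ fittingOf M := zpowers_le.2 hf hz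
    haveI := Fact.mk hq
    haveI := isNilpotent_fittingOf M
    obtain ⟨Q₀⟩ : Nonempty (Sylow q (fittingOf M)) := inferInstance
    haveI : (Q₀ : Subgroup (fittingOf M)).Normal :=
      Q₀.normal_of_normalizerCondition Group.normalizerCondition_of_isNilpotent
    haveI := Q₀.characteristic_of_normal ‹_›
    haveI : Subsingleton (Sylow q (fittingOf M)) := (Sylow.unique_of_normal Q₀ ‹_›).instSubsingleton
    set Q := (Q₀ : Subgroup (fittingOf M)).map (fittingOf M).subtype with hQ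
    have hQn : M ≤ normalizer (Q : Set G) :=
      (le_normalizer_fittingOf M).trans (CfsgLib.Base.normalizer_le_normalizer_map_subtype _ _)
    have hQp : IsPGroup q Q := Q₀.isPGroup'.map _
    have hQM : Q ≤ M := (map_subtype_le _).trans (fittingOf_le M)
    have hzQ : z ∈ Q := by
      obtain ⟨j, -, hj⟩ := (Nat.dvd_prime_pow hq).1 (orderOf_dvd_of_pow_eq_one hzi)
      have hp2 : IsPGroup q (zpowers (⟨z, hzF⟩ : fittingOf M)) :=
        IsPGroup.of_card (n := j) (by rw [Nat.card_zpowers, Subgroup.orderOf_mk, hj])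
      obtain ⟨S', hS'⟩ := hp2.exists_le_sylow
      exact ⟨⟨z, hzF⟩, Subsingleton.elim S' Q₀ ▸ hS' (mem_zpowers _), rfl⟩
    by_cases hqσ : q ∈ Cfsg.sigma M
    · exact mem_sup_left (pgroup_le_sigmaCore U.s1403 hG d.max hqσ hQp hQM hzQ)
    refine mem_sup_right ?_
    have hQC : Q ≤ centralizer (sigmaCore M : Set G) := by
      rw [← commutator_eq_bot_iff_le_centralizer, eq_bot_iff,
        ← CfsgLib.Base.inf_eq_bot_of_coprime (coprime_card_of_not_dvd hQp (not_dvd_sigmaCore hqσ hq))]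
      exact le_inf (CfsgLib.Coprime.commutator_le_of_le_normalizer
          ((sigmaCore_le M).trans hQn))
        (le_normalizer_iff_commutator_le_right.1 (hQM.trans (le_normalizer_sigmaCore M)))
    obtain ⟨T, hT⟩ := exists_sylIn (p := q) E
    have hQT : Q ≤ T := (sylIn_of_sigmaCompl d.compl hqσ hT).le_of_normal hQp hQM hQn
    have hQE : Q ≤ E := hQT.trans hT.le
    by_cases hqp : q = p
    · subst hqp
      refine d.mem_fixed_line U hG hna (hQE hzQ) hzi fun h => ?_
      refine sigmaCore_ne_bot U.s1403 hG d.max (le_bot_iff.1 (h ▸ le_inf le_rfl ?_))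
      exact fun w hw => mem_centralizer_singleton_iff.2 (mem_centralizer_iff.1 (hQC hzQ) w hw)
    exfalso
    have hq1 : PRankLE q 1 M := by
      by_contra h
      exact hqp ((d.tau2_eq U hG hna).le
        ⟨hq, hqσ, pRankLE_two_of_not_sigma U.s1403 hG d.max hqσ, h⟩)
    have hF : (⟨f, hf⟩ : fittingOf M) ∈ (⊤ : Subgroup (fittingOf M)) := mem_top _
    have hdF : q ∣ Nat.card (fittingOf M) := hqf.trans (Subgroup.orderOf_dvd_natCard _ hf)
    have hdQ : q ∣ Nat.card Q := by
      rw [hQ, CfsgLib.Base.card_map_subtype]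
      exact Q₀.dvd_card_of_dvd_card hdF
    have hdM : q ∣ Nat.card M := hdQ.trans (card_dvd_of_le hQM)
    have hQc : IsCyclic Q := isCyclic_of_tau hG hq1 hdM hQp hQM
    obtain ⟨x, hx⟩ := exists_prime_orderOf_dvd_card' (G := Q) q hdQ
    set X := zpowers (x : G) with hX
    have hXQ : X ≤ Q := zpowers_le.2 x.2
    have hXc : Nat.card X = q := by rw [Nat.card_zpowers, Subgroup.orderOf_coe, hx]
    have hXn : M ≤ normalizer (X : Set G) :=
      CfsgLib.FT.BG13.le_normalizer_of_isCyclic hQc hXQ hQn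
    have hXA : X ≤ centralizer (A : Set G) := by
      rw [← commutator_eq_bot_iff_le_centralizer, eq_bot_iff,
        ← CfsgLib.Base.inf_eq_bot_of_coprime (CfsgLib.FT.BG13.coprime_of_pGroups
          (isPGroup_of_card_prime hXc) d.isPGroup hqp)]
      exact le_inf (CfsgLib.Coprime.commutator_le_of_le_normalizer (d.le_max.trans hXn))
        (le_normalizer_iff_commutator_le_right.1 ((hXQ.trans hQE).trans (d.normal U hG)))
    obtain ⟨S, Z₀, Y, -, -, hZA, hZc, hZS, -, -, -, -, hconj⟩ :=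
      d.exists_structure U hG hna (IsPGroup.of_bot (G := G)) bot_le
    have hfl := d.fixed_line U hG hna
    have hA0Z : A₀ ≠ Z₀ := by
      intro e
      refine hna S (isMulCommutative_of_not_sigma U hG d.max d.sigma S.isPGroup' (hZS.trans ?_))
      refine (d.fixed_unique U hG hZA (ne_bot_of_card_prime hZc) ?_).1
      rw [inf_eq_left.2 (CfsgLib.Base.le_centralizer_comm.1 (e ▸ inf_le_right))]
      exact sigmaCore_ne_bot U.s1403 hG d.max
    obtain ⟨L, hLA, hLc, hL0, hLZ⟩ : ∃ L : Subgroup G, L ≤ A ∧ Nat.card L = p ∧ L ≠ A₀ ∧ L ≠ Z₀ := by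
      obtain ⟨⟨a, ha⟩, ha1⟩ := ne_bot_iff_exists_ne_one.1 (ne_bot_of_card_prime hfl.1)
      obtain ⟨⟨b, hb⟩, hb1⟩ := ne_bot_iff_exists_ne_one.1 (ne_bot_of_card_prime hZc)
      have hd : A₀ ⊓ Z₀ = ⊥ := by
        by_contra h
        obtain ⟨r, hr, hrd, W, hW, hWc⟩ := CfsgLib.FT.BG13.exists_card_prime h
        have hrp : r = p := (Nat.prime_dvd_prime_iff_eq hr hp'.out).1
          (hWc ▸ hZc ▸ card_dvd_of_le (hW.trans inf_le_right))
        exact hA0Z ((eq_of_le_of_card_ge (hW.trans inf_le_left) (by rw [hfl.1, hWc, hrp])).symm.trans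
          (eq_of_le_of_card_ge (hW.trans inf_le_right) (by rw [hZc, hWc, hrp])))
      have hab : a * b ∈ A := mul_mem ha.1 (hZA hb)
      have hab0 : a * b ∉ A₀ := fun h => hb1 (Subtype.ext (mem_bot.1
        (hd.le (mem_inf.2 ⟨(mul_mem_cancel_left ha).1 h, hb⟩))))
      have habZ : a * b ∉ Z₀ := fun h => ha1 (Subtype.ext (mem_bot.1
        (hd.le (mem_inf.2 ⟨ha, (mul_mem_cancel_right hb).1 h⟩))))
      exact ⟨zpowers (a * b), zpowers_le.2 hab,
        d.card_line hab fun e => hab0 (e ▸ one_mem _),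
        fun e => hab0 (e ▸ mem_zpowers _), fun e => habZ (e ▸ mem_zpowers _)⟩
    obtain ⟨s, hs, hsL⟩ := hconj A₀ L inf_le_left hfl.1 hA0Z hLA hLc hLZ
    have hsM : s ∉ M := d.not_mem_of_moves U hG inf_le_left hs (by rw [hsL]; exact hL0)
    apply hsM
    rw [← normalizer_eq_maximal hG d.max (hXQ.trans hQM) (ne_bot_of_card_prime hXc) hXn]
    refine mem_normalizer_iff_cj.2 ?_
    have h1 : cj s X ≤ E := by
      refine le_trans ?_ (d.centralizer_le U hG)
      rw [← mem_normalizer_iff_cj.1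
        (CfsgLib.Coprime.le_normalizer_centralizer (le_refl (normalizer (A : Set G))) hs.2)]
      exact cj_mono hXA
    obtain ⟨T', hT', hle⟩ := exists_sylIn_ge (p := q)
      (isPGroup_cj (g := s) (isPGroup_of_card_prime hXc)) h1
    have hXT' : X ≤ T' := (hXQ.trans ((sylIn_of_sigmaCompl d.compl hqσ hT').le_of_normal hQp hQM hQn))
    have hTc : IsCyclic T' := isCyclic_of_tau hG hq1 hdM hT'.isPGroup (hT'.le.trans d.compl.1)
    exact eq_of_card_eq_of_isCyclic hle hXT' (card_cj s X)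
  · exact le_fittingOf (sigmaCore_le M) (le_normalizer_sigmaCore M) (d.exceptional U hG).nil
  · refine le_fittingOf (inf_le_left.trans d.le_max) hA₀n ?_
    haveI := (d.isPGroup.to_le (inf_le_left : A₀ ≤ A)).isNilpotent
    infer_instance

end Elem

/-- BG 12.7 in the shape of row S1419. -/
theorem stmtS1419_of (U : Up.{u}) : StmtS1419.{u} := by
  intro G _ _ hG M hM E hE p hpf hp hna A ⟨hAE, hA, hA2⟩
  have d : Elem p M E A := ⟨hM, hE, hp.2.1, hAE, hA, hA2⟩
  have h := d.fixed_line U hG hna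
  refine ⟨d.tau2_eq U hG hna, ⟨h.1, d.fitting_eq U hG hna⟩, fun X hXE hX hne => ?_⟩
  refine h.2 X (fun x hx => d.mem_of_pow U hG (hXE hx) ?_) hX hne
  have h1 : (⟨x, hx⟩ : X) ^ Nat.card X = 1 := pow_card_eq_one'
  rw [hX] at h1
  exact congrArg Subtype.val h1

end CfsgLib.FT.BG12
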