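import Cfsg.Agent.Lib.FT.BG12.Context

/-!
# BG 12.2 - 12.4: elementary subgroups of order `p²` of a maximal subgroup
-/

set_option autoImplicit false

set_option linter.unusedSectionVars false
set_option linter.style.haveILetI false

open Subgroup Cfsg CfsgLib.OddOrder CfsgLib.Techniques
open scoped commutatorElement

namespace CfsgLib.FT.BG12

open CfsgLib.FT.BG13 (isPGroup_of_card_prime ne_bot_of_card_prime eq_of_dvd_card_pGroup)

universe u

variable {G : Type u} [Group G] [Finite G] {M H A : Subgroup G} {p : ℕ}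

/-- BG 12.2 (a). -/
theorem sigma_or_tau2_of_normalizer_le (h1403 : StmtS1403.{u}) (hG : IsMinSimpleOddOrder G)
    (hM : IsCoatom M) [Fact p.Prime] {X : Subgroup G} (hX : IsPGroup p X) (hX1 : X ≠ ⊥)
    (hN : normalizer (X : Set G) ≤ M) : p ∈ sigma M ∨ p ∈ tau2 M := by
  by_cases hp : p ∈ sigma M
  · exact Or.inl hp
  refine Or.inr ⟨Fact.out, hp, pRankLE_two_of_not_sigma h1403 hG hM hp, fun h1 => hp ?_⟩
  have hXM : X ≤ M := le_normalizer.trans hN
  have hdM : p ∣ Nat.card M :=
    (CfsgLib.FT.BG13.dvd_of_pGroup_ne_bot hX hX1).trans (card_dvd_of_le hXM)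
  obtain ⟨T, hT, hXT⟩ := exists_sylIn_ge (p := p) hX hXM
  refine (mem_sigma_iff hT).2 ⟨hdM, le_trans ?_ hN⟩
  exact CfsgLib.FT.BG13.le_normalizer_of_isCyclic (isCyclic_of_tau hG h1 hdM hT.isPGroup hT.le)
    hXT le_rfl

/-- In a group `W = Hσ A` the `p'`-subgroups lie in `Hσ`. -/
theorem le_of_mul_pgroup [hp : Fact p.Prime] {S X : Subgroup G} (hA : IsPGroup p A)
    (hAS : A ≤ normalizer (S : Set G)) (hXW : X ≤ S ⊔ A) (hX : ¬ p ∣ Nat.card X) : X ≤ S := by
  haveI hn : (S.subgroupOf (S ⊔ A)).Normal :=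
    normal_subgroupOf_of_le_normalizer (sup_le le_normalizer hAS)
  obtain ⟨n, hn'⟩ := IsPGroup.iff_card.1 hA
  have hidx : (S.subgroupOf (S ⊔ A)).index ∣ p ^ n := by
    rw [← hn']
    change S.relIndex (S ⊔ A) ∣ _
    have h := CfsgLib.Coprime.card_sup_mul_card_inf hAS
    rw [sup_comm A S] at h
    have h' : Nat.card S * S.relIndex (S ⊔ A) = Nat.card ↥(S ⊔ A) := by
      rw [← CfsgLib.Base.card_subgroupOf (le_sup_left : S ≤ S ⊔ A)]
      exact card_mul_index _
    rw [← h', mul_assoc, mul_comm (Nat.card A)] at h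
    exact ⟨_, (Nat.eq_of_mul_eq_mul_left Nat.card_pos h).symm⟩
  intro x hx
  set m := (S.subgroupOf (S ⊔ A)).index with hm
  have h1 : (⟨x, hXW hx⟩ : ↥(S ⊔ A)) ^ m ∈ S.subgroupOf (S ⊔ A) :=
    (S.subgroupOf (S ⊔ A)).pow_index_mem _
  have hcop : (orderOf x).Coprime m :=
    (((hp.out.coprime_iff_not_dvd.2 hX).pow_left n).symm.coprime_dvd_left
      (orderOf_dvd_natCard _ hx)).coprime_dvd_right hidx
  obtain ⟨k, hk⟩ := exists_pow_eq_self_of_coprime (x := x) hcop.symm
  rw [← hk]
  exact pow_mem (mem_subgroupOf.1 h1 : x ^ m ∈ S) k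

/-- BG 12.3: `A` centralises `M_σ ∩ H`, resp. `M_α ∩ H`. -/
theorem cent_inter (U : Up.{u}) (hG : IsMinSimpleOddOrder G) (hM : IsCoatom M) (hH : IsCoatom H)
    (hne : H ≠ M) [hp' : Fact p.Prime] (hAM : A ≤ M) (hA : IsElementaryAbelian p A)
    (hA2 : Nat.card A = p ^ 2) {A₀ : Subgroup G} (hA₀ : A₀ ≤ A) (hA₀c : Nat.card A₀ = p)
    (hN : normalizer (A₀ : Set G) ≤ H) :
    (p ∉ sigma M → A ≤ centralizer ((sigmaCore M ⊓ H : Subgroup G) : Set G)) ∧
      (p ∉ alpha M → A ≤ centralizer ((alphaCore M ⊓ H : Subgroup G) : Set G)) := by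
  have hAp : IsPGroup p A := CfsgLib.Base.isPGroup_of_isElementaryAbelian hA
  have hAs : Group.IsSolvable A := minSimple_solvable hG (ne_top_of_le_maximal hM hAM)
  have hA₀1 : A₀ ≠ ⊥ := ne_bot_of_card_prime hA₀c
  have hC : centralizer (A₀ : Set G) ≤ H := (centralizer_le_normalizer _).trans hN
  have hAH : A ≤ H :=
    ((le_centralizer_iff_isMulCommutative.2 hA.1).trans (centralizer_le hA₀)).trans hC
  have hA₀p : IsPGroup p A₀ := hAp.to_le hA₀
  -- the group `Z ⊓ H` is normalised by `A`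
  have hnorm : ∀ {Z : Subgroup G}, M ≤ normalizer (Z : Set G) →
      A ≤ normalizer ((Z ⊓ H : Subgroup G) : Set G) := fun {Z} hZ =>
    CfsgLib.Coprime.le_normalizer_inf_inf (hAM.trans hZ) (hAH.trans le_normalizer)
  have hcop : ∀ {Z : Subgroup G}, ¬ p ∣ Nat.card Z →
      (Nat.card A).Coprime (Nat.card ↥(Z ⊓ H)) := fun {Z} hZ =>
    coprime_card_of_not_dvd hAp fun h => hZ (h.trans (card_dvd_of_le inf_le_left))
  by_cases hpH : p ∈ sigma H
  · have hnc : ∀ g : G, M ≠ cj g H := fun g e => hne (by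
      have := cj_eq_of_centralizer_le U.s1403 hG hH hpH hA₀p hA₀1 (hA₀.trans hAH) hC
        (g := g) (e ▸ hA₀.trans hAM)
      exact (e.trans this).symm)
    have hdis := U.disjoint hG H M hH hM hnc
    have hdis' := U.disjoint hG M H hM hH (not_conj_symm hnc)
    have hAσ : A ≤ sigmaCore H := pgroup_le_sigmaCore U.s1403 hG hH hpH hAp hAH
    refine ⟨fun hp => ?_, fun hp => ?_⟩
    · refine le_centralizer_of_commutator_trivial (Y := sigmaCore M ⊓ sigmaCore H)
        (hnorm (le_normalizer_sigmaCore M)) (hcop (not_dvd_sigmaCore hp hp'.out)) hAs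
        (le_inf ?_ ?_) ?_
      · exact (CfsgLib.Coprime.commutator_le_of_le_normalizer (hnorm (le_normalizer_sigmaCore M))).trans inf_le_left
      · refine (commutator_mono inf_le_right hAσ).trans ?_
        exact le_normalizer_iff_commutator_le_right.1 (le_normalizer_sigmaCore H)
      · have hle : ⁅sigmaCore M ⊓ sigmaCore H, A⁆ ≤ alphaCore H :=
          commutator_le_alphaCore hG hH (inf_le_right.trans (sigmaCore_le_derived U.s1403 hG hH))
            (hAσ.trans (sigmaCore_le_derived U.s1403 hG hH))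
            ((coprime_card_of_not_dvd hAp fun h => not_dvd_sigmaCore hp hp'.out
              (h.trans (card_dvd_of_le inf_le_left))).symm)
        refine le_bot_iff.1 (hdis.1 ▸ le_inf hle ?_)
        exact (commutator_mono inf_le_left le_rfl).trans (CfsgLib.Coprime.commutator_le_of_le_normalizer
          (hAM.trans (le_normalizer_sigmaCore M)))
    · refine le_centralizer_of_commutator_trivial (Y := ⊥)
        (hnorm (le_normalizer_alphaCore M)) (hcop (not_dvd_alphaCore hp)) hAs ?_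
        (commutator_bot_left A)
      refine le_trans (le_inf ?_ ?_) hdis'.1.le
      · exact (CfsgLib.Coprime.commutator_le_of_le_normalizer (hnorm (le_normalizer_alphaCore M))).trans inf_le_left
      · refine (commutator_mono inf_le_right hAσ).trans ?_
        exact le_normalizer_iff_commutator_le_right.1 (le_normalizer_sigmaCore H)
  · have hex := U.exceptional hG H hH p hpH A A₀ hAH hA hA2 hA₀ hA₀c hN
    have key : ∀ {Z : Subgroup G}, Z ≤ sigmaCore M → M ≤ normalizer (Z : Set G) →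
        ¬ p ∣ Nat.card Z → A ≤ centralizer ((Z ⊓ H : Subgroup G) : Set G) := by
      intro Z hZ hZn hZp
      refine le_centralizer_of_commutator_trivial (Y := ⊥) (hnorm hZn) (hcop hZp) hAs ?_
        (commutator_bot_left A)
      have h1 : ⁅Z ⊓ H, A⁆ ≤ Z := (CfsgLib.Coprime.commutator_le_of_le_normalizer (hnorm hZn)).trans inf_le_left
      rw [← hex.disjoint M hM hAM hne.symm, inf_comm (sigmaCore H)]
      refine le_inf (h1.trans hZ) (le_of_mul_pgroup hAp (hAH.trans (le_normalizer_sigmaCore H))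
        ?_ fun h => hZp (h.trans (card_dvd_of_le h1)))
      refine le_trans (commutator_mono inf_le_right (le_sup_right (a := sigmaCore H))) ?_
      exact le_normalizer_iff_commutator_le_right.1 hex.normal
    exact ⟨fun hp => key le_rfl (le_normalizer_sigmaCore M) (not_dvd_sigmaCore hp hp'.out),
      fun hp => key (alphaCore_le_sigmaCore U.s1403 hG hM) (le_normalizer_alphaCore M)
        (not_dvd_alphaCore hp)⟩

/-- No line of `A` has its normaliser in `M` alone. -/
def NonUniq (p : ℕ) (M A : Subgroup G) : Prop :=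
  ∀ A₀ : Subgroup G, A₀ ≤ A → Nat.card A₀ = p →
    ¬ (normalizer (A₀ : Set G) ≤ M ∧
      ∀ L : Subgroup G, IsCoatom L → normalizer (A₀ : Set G) ≤ L → L = M)

variable [hp' : Fact p.Prime]

theorem not_isCyclic_of_sq (hA : IsElementaryAbelian p A) (hA2 : Nat.card A = p ^ 2) :
    ¬ IsCyclic A := by
  intro h
  obtain ⟨a, ha⟩ := h.exists_generator
  have h1 : orderOf a = p ^ 2 := by rw [orderOf_eq_card_of_forall_mem_zpowers ha, hA2]
  have h2 : orderOf a ∣ p := orderOf_dvd_of_pow_eq_one (Subtype.ext (hA.2 a a.2))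
  rw [h1] at h2
  have := Nat.le_of_dvd hp'.out.pos h2
  have := hp'.out.two_le
  nlinarith

theorem card_zpowers_of_mem (hA : IsElementaryAbelian p A) {a : G} (ha : a ∈ A) (ha1 : a ≠ 1) :
    Nat.card (zpowers a) = p := by
  rw [Nat.card_zpowers]
  exact ((Nat.dvd_prime hp'.out).1 (orderOf_dvd_of_pow_eq_one (hA.2 a ha))).resolve_left
    fun h => ha1 (orderOf_eq_one_iff.1 h)

/-- Generation by centralisers of lines, used with 12.3. -/
theorem centralizes_of_nonUniq (hG : IsMinSimpleOddOrder G) (hM : IsCoatom M) (hAM : A ≤ M)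
    (hA : IsElementaryAbelian p A) (hA2 : Nat.card A = p ^ 2) (hNU : NonUniq p M A)
    {Z : Subgroup G} (hZn : M ≤ normalizer (Z : Set G)) (hZp : ¬ p ∣ Nat.card Z)
    (hZ : ∀ H : Subgroup G, IsCoatom H → H ≠ M → ∀ A₀ : Subgroup G, A₀ ≤ A → Nat.card A₀ = p →
      normalizer (A₀ : Set G) ≤ H → A ≤ centralizer ((Z ⊓ H : Subgroup G) : Set G)) :
    A ≤ centralizer (Z : Set G) := by
  have hAp := CfsgLib.Base.isPGroup_of_isElementaryAbelian hA
  haveI := hA.1
  refine CfsgLib.Base.le_centralizer_comm.1 (CfsgLib.Coprime.le_of_centralizer_le_of_not_isCyclic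
    (not_isCyclic_of_sq hA hA2) (hAM.trans hZn) (coprime_card_of_not_dvd hAp hZp) fun a ha ha1 => ?_)
  have hc := card_zpowers_of_mem hA ha ha1
  have hle : zpowers a ≤ A := zpowers_le.2 ha
  obtain ⟨L, hL, hNL, hLM⟩ := exists_other_maximal hG (ne_bot_of_card_prime hc)
    (ne_top_of_le_maximal hM (hle.trans hAM)) (hNU _ hle hc)
  intro z hz
  have hzL : z ∈ L := hNL (centralizer_le_normalizer _ (centralizer_zpowers a ▸ hz.2))
  exact CfsgLib.Base.le_centralizer_comm.1 (hZ L hL hLM _ hle hc hNL) ⟨hz.1, hzL⟩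

/-- A centraliser of `p`-rank at least three makes a line unique. -/
theorem nonUniq_rank (h1403 : StmtS1403.{u}) (hG : IsMinSimpleOddOrder G) (hM : IsCoatom M)
    (hAM : A ≤ M) (hNU : NonUniq p M A) {A₀ : Subgroup G} (hA₀ : A₀ ≤ A)
    (hA₀c : Nat.card A₀ = p) {q : ℕ} (hq : q.Prime) :
    PRankLE q 2 ↥(M ⊓ centralizer (A₀ : Set G)) := by
  by_contra h
  obtain ⟨L, hL, hNL, hLM⟩ := exists_other_maximal hG (ne_bot_of_card_prime hA₀c)
    (ne_top_of_le_maximal hM (hA₀.trans hAM)) (hNU _ hA₀ hA₀c)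
  have hu := inUniqueMaximal_of_pRank h1403 hG hq (ne_top_of_le_maximal hM inf_le_left) h
  exact hLM (eq_of_inUniqueMaximal hu hM inf_le_left hL
    (inf_le_right.trans ((centralizer_le_normalizer _).trans hNL)))

theorem exists_line (hA : IsElementaryAbelian p A) (hA2 : Nat.card A = p ^ 2) :
    ∃ A₀ : Subgroup G, A₀ ≤ A ∧ Nat.card A₀ = p := by
  obtain ⟨a, ha⟩ := exists_prime_orderOf_dvd_card' (G := A) p (hA2 ▸ dvd_pow_self p two_ne_zero)
  exact ⟨zpowers (a : G), zpowers_le.2 a.2, by rw [Nat.card_zpowers, Subgroup.orderOf_coe, ha]⟩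

/-- BG 12.4 (b). -/
theorem nonUniq_sigma (U : Up.{u}) (hG : IsMinSimpleOddOrder G) (hM : IsCoatom M) (hAM : A ≤ M)
    (hA : IsElementaryAbelian p A) (hA2 : Nat.card A = p ^ 2) (hNU : NonUniq p M A) :
    p ∈ sigma M ∧ p ∉ alpha M ∧ alphaCore M = ⊥ ∧ Group.IsNilpotent (sigmaCore M) := by
  have hp : p ∈ sigma M := by
    by_contra hp
    exact U.centRank hG M hM p hp A hAM hA hA2 (centralizes_of_nonUniq hG hM hAM hA hA2 hNU
      (le_normalizer_sigmaCore M) (not_dvd_sigmaCore hp hp'.out) fun H hH hne A₀ h0 hc hN =>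
        (cent_inter U hG hM hH hne hAM hA hA2 h0 hc hN).1 hp)
  have hAp := CfsgLib.Base.isPGroup_of_isElementaryAbelian hA
  have hpα : p ∉ alpha M := by
    intro hα
    obtain ⟨T, hT, hAT⟩ := exists_sylIn_ge (p := p) hAp hAM
    have hd : p ∣ Nat.card M := dvd_card_of_mem_alpha hα
    obtain ⟨z, hzT, hz, hzc⟩ := exists_central_orderOf hT.isPGroup (sylIn_ne_bot hT hd)
    by_cases hzA : z ∈ A
    · have hc : Nat.card (zpowers z) = p := by rw [Nat.card_zpowers, hz]
      refine hα.2 ((pRankLE_iff_sylIn hT).2 (CfsgLib.Base.pRankLE_of_injective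
        (inclusion (le_inf hT.le fun t ht => ?_)) (inclusion_injective _)
        (nonUniq_rank U.s1403 hG hM hAM hNU (zpowers_le.2 hzA) hc hp'.out)))
      rw [centralizer_zpowers, mem_centralizer_singleton_iff]
      exact hzc t ht
    · obtain ⟨A₀, hA₀, hA₀c⟩ := exists_line hA hA2
      have hzp : z ^ p = 1 := hz ▸ pow_orderOf_eq_one z
      have hcen : A ≤ centralizer (zpowers z : Set G) := fun w hw => by
        rw [centralizer_zpowers, mem_centralizer_singleton_iff]
        exact hzc w (hAT hw)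
      have hE := CfsgLib.Base.isElementaryAbelian_sup hA
        (CfsgLib.Base.isElementaryAbelian_zpowers hzp) hcen
      have hEle : A ⊔ zpowers z ≤ M ⊓ centralizer (A₀ : Set G) :=
        sup_le (le_inf hAM ((le_centralizer_iff_isMulCommutative.2 hA.1).trans (centralizer_le hA₀)))
          (le_inf (zpowers_le.2 (hT.le hzT))
            ((CfsgLib.Base.le_centralizer_comm.1 hcen).trans (centralizer_le hA₀)))
      have h3 := CfsgLib.Base.pRankLE_subgroup_iff.1
        (nonUniq_rank U.s1403 hG hM hAM hNU hA₀ hA₀c hp'.out) _ hEle hE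
      have hlt : Nat.card A < Nat.card ↥(A ⊔ zpowers z) := card_lt_of_lt
        (lt_of_le_of_ne le_sup_left fun e => hzA (e ▸ mem_sup_right (mem_zpowers z)))
      omega
  have hMα : alphaCore M = ⊥ := by
    by_contra hne
    obtain ⟨q, hq, hqd⟩ := Nat.exists_prime_and_dvd fun e => hne (eq_bot_of_card_eq _ e)
    haveI := Fact.mk hq
    have hqα : q ∈ alpha M := (alphaCore_hall U.s1403 hG hM).2.1 q hq hqd
    obtain ⟨A₀, hA₀, hA₀c⟩ := exists_line hA hA2
    have hcent := centralizes_of_nonUniq hG hM hAM hA hA2 hNU (le_normalizer_alphaCore M)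
      (not_dvd_alphaCore hpα) fun H hH hne A₀ h0 hc hN =>
        (cent_inter U hG hM hH hne hAM hA hA2 h0 hc hN).2 hpα
    obtain ⟨T, hT⟩ := exists_sylIn (p := q) (alphaCore M)
    have hTM : SylIn q T M := ⟨hT.le.trans (alphaCore_le M), hT.isPGroup, fun hd => by
      rw [← relIndex_mul_relIndex _ _ _ hT.le (alphaCore_le M)] at hd
      exact (hq.dvd_mul.1 hd).elim hT.not_dvd ((alphaCore_hall U.s1403 hG hM).2.2 q hq hqα)⟩
    refine hqα.2 ((pRankLE_iff_sylIn hTM).2 (CfsgLib.Base.pRankLE_of_injective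
      (inclusion (le_inf hTM.le ?_)) (inclusion_injective _)
      (nonUniq_rank U.s1403 hG hM hAM hNU hA₀ hA₀c hq)))
    exact hT.le.trans ((CfsgLib.Base.le_centralizer_comm.1 hcent).trans (centralizer_le hA₀))
  refine ⟨hp, hpα, hMα, ?_⟩
  haveI := maximal_solvable hG hM
  set f := (QuotientGroup.mk' (piCore (alpha M) M)).comp (inclusion (sigmaCore_le M)) with hf
  have hinj : Function.Injective f := by
    rw [← MonoidHom.ker_eq_bot_iff, eq_bot_iff]
    intro x hx
    have h1 : inclusion (sigmaCore_le M) x ∈ piCore (alpha M) M := (QuotientGroup.eq_one_iff _).1 hx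
    have h2 : (x : G) ∈ alphaCore M := ⟨_, h1, rfl⟩
    rw [hMα, mem_bot] at h2
    exact mem_bot.2 (Subtype.ext h2)
  have hrange : f.range ≤ (commutator M).map (QuotientGroup.mk' (piCore (alpha M) M)) := by
    rintro _ ⟨x, rfl⟩
    refine ⟨inclusion (sigmaCore_le M) x, ?_, rfl⟩
    have h1 : (x : G) ∈ (commutator M).map M.subtype := by
      rw [map_subtype_commutator]
      exact sigmaCore_le_derived U.s1403 hG hM x.2
    obtain ⟨y, hy, hyx⟩ := h1
    rwa [show inclusion (sigmaCore_le M) x = y from Subtype.ext hyx.symm]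
  haveI := CfsgLib.Base.isNilpotent_of_le hrange
    (isNilpotent_derived_quotient (maximal_odd hG M) fun p hp h => ⟨hp, h⟩)
  exact Group.nilpotent_of_mulEquiv (MonoidHom.ofInjective hinj).symm

/-- BG 12.4 (a). -/
theorem centralizer_le_maximal (U : Up.{u}) (hG : IsMinSimpleOddOrder G) (hM : IsCoatom M)
    (hAM : A ≤ M) (hA : IsElementaryAbelian p A) (hA2 : Nat.card A = p ^ 2) :
    centralizer (A : Set G) ≤ M := by
  by_cases hNU : NonUniq p M A
  swap
  · simp only [NonUniq, not_forall, not_not] at hNU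
    obtain ⟨A₀, hA₀, -, hN, -⟩ := hNU
    exact ((centralizer_le hA₀).trans (centralizer_le_normalizer _)).trans hN
  obtain ⟨hp, hpα, -, hnil⟩ := nonUniq_sigma U hG hM hAM hA hA2 hNU
  have hAp := CfsgLib.Base.isPGroup_of_isElementaryAbelian hA
  obtain ⟨T, hT, hAT⟩ := exists_sylIn_ge (p := p) hAp hAM
  have hTσ : T ≤ sigmaCore M := pgroup_le_sigmaCore U.s1403 hG hM hp hT.isPGroup hT.le
  -- `T` is normal in `M`
  have hTn : M ≤ normalizer (T : Set G) := by
    obtain ⟨S, hS⟩ := exists_sylow_of_sylIn (hT.mono hTσ (sigmaCore_le M))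
    haveI := hnil
    haveI : (S : Subgroup ↥(sigmaCore M)).Normal :=
      S.normal_of_normalizerCondition Group.normalizerCondition_of_isNilpotent
    haveI := S.characteristic_of_normal ‹_›
    rw [← hS]
    exact (le_normalizer_sigmaCore M).trans (CfsgLib.Base.normalizer_le_normalizer_map_subtype _ _)
  set W : Subgroup G := (T ⊓ centralizer (T : Set G)) ⊓ A with hW
  have hT2 : PRankLE p 2 T := (pRankLE_iff_sylIn hT).1 (by
    by_contra h
    exact hpα ⟨hp'.out, h⟩)
  have hWmem : ∀ z, z ∈ T → z ^ p = 1 → (∀ t ∈ T, t * z = z * t) → z ∈ A := fun z hz hzp hzc =>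
    mem_of_commute_of_card_le hA hzp (fun a ha => hzc a (hAT ha)) hA2.ge hT2 hAT hz
  have hWn : M ≤ normalizer (W : Set G) := by
    refine le_normalizer_iff_cj.2 fun m hm => eq_of_le_of_card_ge ?_ (card_cj m W).ge
    rintro _ ⟨w, ⟨⟨hwT, hwC⟩, hwA⟩, rfl⟩
    have hTm := mem_normalizer_iff_cj.1 (hTn hm)
    have h1 : (MulAut.conj m) w ∈ T := hTm ▸ mem_map_of_mem _ hwT
    have h2 : (MulAut.conj m) w ∈ centralizer (T : Set G) := by
      refine mem_centralizer_iff.2 fun t ht => ?_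
      obtain ⟨t', ht', rfl⟩ : t ∈ cj m T := by rw [hTm]; exact ht
      show (MulAut.conj m) t' * (MulAut.conj m) w = (MulAut.conj m) w * (MulAut.conj m) t'
      rw [← map_mul, ← map_mul, mem_centralizer_iff.1 hwC t' ht']
    exact ⟨⟨h1, h2⟩, hWmem _ h1 (by rw [← map_pow, hA.2 w hwA, map_one])
      fun t ht => mem_centralizer_iff.1 h2 t ht⟩
  have hd : p ∣ Nat.card M := hp.2.1
  obtain ⟨z, hzT, hz, hzc⟩ := exists_central_orderOf hT.isPGroup (sylIn_ne_bot hT hd)
  have hW1 : W ≠ ⊥ := fun e => by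
    have hzW : z ∈ W := ⟨⟨hzT, mem_centralizer_iff.2 fun t ht => hzc t ht⟩,
      hWmem z hzT (hz ▸ pow_orderOf_eq_one z) hzc⟩
    rw [e, mem_bot] at hzW
    exact hp'.out.ne_one (by rw [← hz, hzW, orderOf_one])
  rw [← normalizer_eq_maximal hG hM (inf_le_right.trans hAM) hW1 hWn]
  exact (centralizer_le inf_le_right).trans (centralizer_le_normalizer _)

/-- BG 12.4 in the shape of row S1416. -/
theorem stmtS1416_of (U : Up.{u}) : StmtS1416.{u} :=
  fun hG _ hM _ _ _ hA => ⟨centralizer_le_maximal U hG hM hA.1 hA.2.1 hA.2.2, fun h =>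
    let r := nonUniq_sigma U hG hM hA.1 hA.2.1 hA.2.2 h
    ⟨r.1, r.2.2⟩⟩

end CfsgLib.FT.BG12
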