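import Cfsg.Agent.Lib.FT.BG11.Discharge
import Cfsg.Agent.Lib.FT.Discharge10
import Cfsg.Agent.Lib.FT.Discharge1395
import Cfsg.Agent.Lib.FT.Discharge1448

/-!
All that section 12 assumes from earlier sections holds.
-/

set_option autoImplicit false

universe u

namespace CfsgLib.FT.BG12

theorem up : Up.{u} := up_of stmtS1403 stmtS1395 stmtS1448 stmtS1453

end CfsgLib.FT.BG12
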