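import Cfsg.Agent.Lib.FT.Stmts
import Cfsg.Agent.Lib.Techniques.SylIn

/-!
# Results of BG sections 10 and 11 used in section 12, as named propositions
-/

set_option autoImplicit false

open Subgroup Cfsg CfsgLib.Techniques

namespace CfsgLib.FT.BG12

/-- BG Theorem 10.12: non-conjugate maximal subgroups. -/
def SigmaDisjoint.{u} : Prop :=
  ∀ {G : Type u} [Group G] [Finite G], IsMinSimpleOddOrder G →
    ∀ (M H : Subgroup G), IsCoatom M → IsCoatom H → (∀ g : G, H ≠ cj g M) →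
      alphaCore M ⊓ sigmaCore H = ⊥ ∧ (∀ p ∈ alpha M, p ∉ sigma H) ∧
        (Group.IsNilpotent (sigmaCore M) →
          sigmaCore M ⊓ sigmaCore H = ⊥ ∧ ∀ p ∈ sigma M, p ∉ sigma H)

/-- BG Proposition 10.11 (b): no elementary `σ(M)'`-subgroup of order `p²` centralises `M_σ`. -/
def SigmaCentRank.{u} : Prop :=
  ∀ {G : Type u} [Group G] [Finite G], IsMinSimpleOddOrder G →
    ∀ (M : Subgroup G), IsCoatom M → ∀ (p : ℕ) [Fact p.Prime], p ∉ sigma M →
      ∀ A : Subgroup G, A ≤ M → IsElementaryAbelian p A → Nat.card A = p ^ 2 →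
        ¬ A ≤ centralizer (sigmaCore M : Set G)

/-- The conclusions of BG 11.3, 11.4, 11.5, 11.6 and 11.7 on exceptional maximal subgroups. -/
structure ExceptionalConj {G : Type*} [Group G] (M : Subgroup G) (p : ℕ) (A : Subgroup G) : Prop where
  nil : Group.IsNilpotent (sigmaCore M)
  disjoint : ∀ H : Subgroup G, IsCoatom H → A ≤ H → H ≠ M → sigmaCore M ⊓ sigmaCore H = ⊥
  sylow : ∀ T : Subgroup G, SylIn p T M → IsMulCommutative T ∧
    (A ≤ T → ∀ x ∈ T, x ^ p = 1 ↔ x ∈ A)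
  cent : sigmaCore M ⊓ centralizer (A : Set G) = ⊥
  lines : ∃ A₁ A₂ : Subgroup G, A₁ ≤ A ∧ A₂ ≤ A ∧ Nat.card A₁ = p ∧ Nat.card A₂ = p ∧ A₁ ≠ A₂ ∧
    sigmaCore M ⊓ centralizer (A₁ : Set G) = ⊥ ∧ sigmaCore M ⊓ centralizer (A₂ : Set G) = ⊥
  normal : M ≤ normalizer ((sigmaCore M ⊔ A : Subgroup G) : Set G)

/-- BG section 11 under Hypothesis 11.1. -/
def Exceptional.{u} : Prop :=
  ∀ {G : Type u} [Group G] [Finite G], IsMinSimpleOddOrder G →
    ∀ (M : Subgroup G), IsCoatom M → ∀ (p : ℕ) [Fact p.Prime], p ∉ sigma M →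
      ∀ A A₀ : Subgroup G, A ≤ M → IsElementaryAbelian p A → Nat.card A = p ^ 2 →
        A₀ ≤ A → Nat.card A₀ = p → normalizer (A₀ : Set G) ≤ M → ExceptionalConj M p A

/-- BG Proposition 10.10: signalizers of maximal elementary subgroups of order `p²`. -/
def MaxElemSignalizer.{u} : Prop :=
  ∀ {G : Type u} [Group G] [Finite G], IsMinSimpleOddOrder G →
    ∀ (p q : ℕ) [Fact p.Prime] [Fact q.Prime], p ≠ q →
      ∀ A : Subgroup G, IsElementaryAbelian p A → Nat.card A = p ^ 2 →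
        (∀ B : Subgroup G, IsElementaryAbelian p B → A ≤ B → B = A) →
        q ∣ Nat.card (centralizer (A : Set G)) →
        ∀ Q ∈ maxInvSubgroups ⊤ A {q}, ∃ P : Sylow p G, A ≤ (P : Subgroup G) ∧
          normalizer ((P : Subgroup G) : Set G) =
            piCoreOf (primesNotDvd p) (centralizer ((P : Subgroup G) : Set G)) ⊔
              (normalizer ((P : Subgroup G) : Set G) ⊓ normalizer (Q : Set G)) ∧
          (P : Subgroup G) ≤ ⁅normalizer (Q : Set G), normalizer (Q : Set G)⁆ ∧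
          (IsNarrow q Q → (P : Subgroup G) ≤ centralizer (Q : Set G))

/-- BG Lemma 10.13: maximal elementary subgroups of order `p²` in a nonabelian Sylow subgroup. -/
def MaxElemStructure.{u} : Prop :=
  ∀ {G : Type u} [Group G] [Finite G], IsMinSimpleOddOrder G →
    ∀ (p : ℕ) [Fact p.Prime] (A : Subgroup G), IsElementaryAbelian p A → Nat.card A = p ^ 2 →
      (∀ B : Subgroup G, IsElementaryAbelian p B → A ≤ B → B = A) →
      ∀ S : Sylow p G, A ≤ (S : Subgroup G) → ¬ IsMulCommutative (S : Subgroup G) →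
        ∃ Z₀ Y : Subgroup G, Z₀ ≤ A ∧ Nat.card Z₀ = p ∧
          (∀ z ∈ Z₀, ∀ s ∈ (S : Subgroup G), s * z = z * s) ∧
          IsCyclic Y ∧ Z₀ ≤ Y ∧ Y ≤ (S : Subgroup G) ⊓ centralizer (A : Set G) ∧
          (∀ A₀ : Subgroup G, A₀ ≤ A → Nat.card A₀ = p → A₀ ≠ Z₀ →
            A₀ ⊓ Y = ⊥ ∧ A₀ ⊔ Y = (S : Subgroup G) ⊓ centralizer (A : Set G)) ∧
          ∀ A₀ A₁ : Subgroup G, A₀ ≤ A → Nat.card A₀ = p → A₀ ≠ Z₀ →
            A₁ ≤ A → Nat.card A₁ = p → A₁ ≠ Z₀ →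
            ∃ s ∈ (S : Subgroup G) ⊓ normalizer (A : Set G), cj s A₀ = A₁

/-- BG Proposition 10.14, the part used here: elements of order `p ∈ β(M)` have centralisers of
`p`-rank at least three. -/
def BetaCentRank.{u} : Prop :=
  ∀ {G : Type u} [Group G] [Finite G], IsMinSimpleOddOrder G →
    ∀ (M : Subgroup G), IsCoatom M → ∀ (p : ℕ) [Fact p.Prime], p ∈ beta M →
      ∀ X : Subgroup G, X ≤ M → Nat.card X = p →
        ¬ PRankLE p 2 ↥(M ⊓ centralizer (X : Set G))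

/-- BG Lemma 10.9 (a3): the form used in Proposition 12.15. -/
def BetaPrimeSylow.{u} : Prop :=
  ∀ {G : Type u} [Group G] [Finite G], IsMinSimpleOddOrder G →
    ∀ (M : Subgroup G), IsCoatom M → ∀ (p q : ℕ) [Fact p.Prime] [Fact q.Prime], p ≠ q →
      p ∉ beta M → q ∉ beta M → ∀ X : Subgroup G, SylIn q X ⁅M, M⁆ →
        ∃ P : Subgroup G, SylIn p P ⁅M, M⁆ ∧
          P ≤ ⁅M ⊓ normalizer (X : Set G), M ⊓ normalizer (X : Set G)⁆

end CfsgLib.FT.BG12
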