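import Cfsg.Agent.Lib.FT.BG12.Regular
import Cfsg.Agent.Lib.FT.BG12.Fifteen
import Cfsg.Agent.Lib.FT.BG12.SigmaInter
import Cfsg.Agent.Lib.FT.BG12.SigmaDerived
import Cfsg.Agent.Lib.FT.BG12.NonAbelian
import Cfsg.Agent.Lib.FT.BG12.Sigma
import Cfsg.Agent.Lib.FT.BG13.Upstream

/-!
# What section 13 takes from section 12
-/

set_option autoImplicit false

namespace CfsgLib.FT.BG12

universe u

/-- The inputs of section 13 follow from those of section 12. -/
theorem upstream_thirteen (U : Up.{u}) : BG13.Upstream.{u} where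
  s1403 := U.s1403
  s1414 := U.s1414
  s1415 := stmtS1415_of U.s1403
  s1416 := stmtS1416_of U
  s1417 := stmtS1417_of U
  s1418 := stmtS1418_of U
  s1420 := stmtS1420_of U
  s1423 := stmtS1423_of U
  s1424 := stmtS1424_of U
  s1425 := stmtS1425_of U
  s1426 := stmtS1426_of U
  p1215 := p1215_of U

end CfsgLib.FT.BG12
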